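import Cfsg.Agent.H802.FusEss
import Cfsg.Agent.H785.Transv
set_option linter.all false

/-!
# Tools for saturated fusion systems generated by essential subgroups (helper785)

* `rel_of_essential`: Alperin's fusion theorem for an equivalence relation.
* `stronglyClosed_of_inv`, `hyp_le_of_inv`.
* essential subgroups with `Aut_S(Q)` of order `p`.
-/

set_option autoImplicit false
set_option linter.unusedSectionVars false
set_option linter.unusedVariables false
set_option linter.style.haveILetI false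

namespace Cfsg.Agent.H785

open Cfsg Cfsg.FusionSystem Cfsg.Agent.H802

variable {Ω : Type*} [Group Ω] {S : Subgroup Ω}

/-- The subsystem of the maps moving every element inside its class. -/
def relSystem (F : FusionSystem S) (r : Ω → Ω → Prop) (hr : ∀ x, r x x)
    (hs : ∀ x y, r x y → r y x) (ht : ∀ x y z, r x y → r y z → r x z)
    (hc : ∀ g ∈ S, ∀ x ∈ S, r x (g * x * g⁻¹)) : FusionSystem S where
  Hom P := {φ | φ ∈ F.Hom P ∧ ∀ x : P, r x (φ x)}
  le_of_mem h := F.le_of_mem h.1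
  injective_of_mem h := F.injective_of_mem h.1
  conj_mem := fun {P g} hP hg => ⟨F.conj_mem hP hg, fun x => hc g hg x (hP x.2)⟩
  comp_mem := fun {P Q φ ψ} hφ hψ h => ⟨F.comp_mem hφ.1 hψ.1 h,
    fun x => ht _ _ _ (hφ.2 x) (hψ.2 ⟨φ x, h x⟩)⟩
  inv_mem := fun {P φ} hφ => by
    obtain ⟨ψ, hψ, h⟩ := F.inv_mem hφ.1
    refine ⟨ψ, ⟨hψ, ?_⟩, h⟩
    rintro ⟨_, x, rfl⟩
    rw [h x]
    exact hs _ _ (hφ.2 x)

theorem relSystem_autGroup {F : FusionSystem S} {r : Ω → Ω → Prop} {hr : ∀ x, r x x}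
    {hs : ∀ x y, r x y → r y x} {ht : ∀ x y z, r x y → r y z → r x z}
    {hc : ∀ g ∈ S, ∀ x ∈ S, r x (g * x * g⁻¹)} {Q : Subgroup Ω} (hQ : Q ≤ S)
    (h : ∀ α ∈ F.autGroup Q, ∀ x : Q, r x (α x : Q)) :
    F.autGroup Q ≤ (relSystem F r hr hs ht hc).autGroup Q := by
  intro α hα
  rw [mem_autGroup_iff _ hQ]
  exact ⟨(mem_autGroup_iff F hQ α).1 hα, h α hα⟩

/-- **Alperin's fusion theorem for an equivalence relation.** -/
theorem rel_of_essential {p : ℕ} [Fact p.Prime] [Finite S] (hS : IsPGroup p S)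
    {F : FusionSystem S} (hF : F.IsSaturated p) (r : Ω → Ω → Prop) (hr : ∀ x, r x x)
    (hs : ∀ x y, r x y → r y x) (ht : ∀ x y z, r x y → r y z → r x z)
    (hT : ∀ α ∈ F.autGroup S, ∀ x : S, r x (α x : S))
    (hE : ∀ Q : Subgroup Ω, F.IsEssential p Q → ∀ α ∈ F.autGroup Q, ∀ x : Q, r x (α x : Q))
    {P : Subgroup Ω} {φ : P →* Ω} (hφ : φ ∈ F.Hom P) (x : P) : r x (φ x) := by
  have hc : ∀ g ∈ S, ∀ x ∈ S, r x (g * x * g⁻¹) := by
    intro g hg x hx
    have h1 : MulAut.conj (⟨g, hg⟩ : S) ∈ F.autGroup S :=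
      inn_le_autGroup F le_rfl ⟨⟨g, hg⟩, rfl⟩
    exact hT _ h1 ⟨x, hx⟩
  have h := le_of_essential hS hF (relSystem F r hr hs ht hc)
    (relSystem_autGroup le_rfl hT) (fun Q hQ _ => relSystem_autGroup hQ.1.1 (hE Q hQ)) P hφ
  exact h.2 x

/-- A subgroup invariant under `Aut_F(S)` and the `Aut_F(Q)`, `Q` essential, is strongly closed. -/
theorem stronglyClosed_of_inv {p : ℕ} [Fact p.Prime] [Finite S] (hS : IsPGroup p S)
    {F : FusionSystem S} (hF : F.IsSaturated p) {R : Subgroup Ω} (hR : R ≤ S)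
    (hT : ∀ α ∈ F.autGroup S, ∀ x : S, (x : Ω) ∈ R → ((α x : S) : Ω) ∈ R)
    (hE : ∀ Q : Subgroup Ω, F.IsEssential p Q → ∀ α ∈ F.autGroup Q, ∀ x : Q, (x : Ω) ∈ R →
      ((α x : Q) : Ω) ∈ R) : F.StronglyClosed R := by
  refine ⟨hR, fun P hP φ hφ x => ?_⟩
  refine (rel_of_essential hS hF (fun x y => x ∈ R ↔ y ∈ R) (fun x => Iff.rfl)
    (fun x y h => h.symm) (fun x y z h h' => h.trans h') ?_ ?_ hφ x).1 (hP x.2)
  · intro α hα x
    refine ⟨hT α hα x, fun h => ?_⟩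
    have := hT α⁻¹ (inv_mem hα) (α x) h
    rwa [MulAut.inv_apply_self] at this
  · intro Q hQ α hα x
    refine ⟨hE Q hQ α hα x, fun h => ?_⟩
    have := hE Q hQ α⁻¹ (inv_mem hα) (α x) h
    rwa [MulAut.inv_apply_self] at this

/-- A nontrivial abelian subgroup cannot be invariant when `O_p(F) = 1`. -/
theorem eq_bot_of_inv {p : ℕ} [Fact p.Prime] [Finite S] (hS : IsPGroup p S)
    {F : FusionSystem S} (hF : F.IsSaturated p) (hcore : F.core = ⊥) {R : Subgroup Ω} (hR : R ≤ S)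
    (hab : ∀ x ∈ R, ∀ y ∈ R, x * y = y * x)
    (hT : ∀ α ∈ F.autGroup S, ∀ x : S, (x : Ω) ∈ R → ((α x : S) : Ω) ∈ R)
    (hE : ∀ Q : Subgroup Ω, F.IsEssential p Q → ∀ α ∈ F.autGroup Q, ∀ x : Q, (x : Ω) ∈ R →
      ((α x : Q) : Ω) ∈ R) : R = ⊥ := by
  have h1 := stronglyClosed_of_inv hS hF hR hT hE
  have h2 : ⁅R, R⁆ = ⊥ := by
    rw [eq_bot_iff, Subgroup.commutator_le]
    intro x hx y hy
    rw [Subgroup.mem_bot, commutatorElement_eq_one_iff_mul_comm]
    exact hab x hx y hy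
  have h3 := H759.isNormal_of_abelian hS hF h1 h2
  rw [eq_bot_iff, ← hcore]
  exact H759.IsNormal.le_core h3

/-- If `D` contains all commutators of `S` and all `[Q, Aut_F(Q)]`, `Q = S` or essential, then it contains the
hyperfocal subgroup. -/
theorem hyp_le_of_inv {p : ℕ} [Fact p.Prime] [Finite S] (hS : IsPGroup p S)
    {F : FusionSystem S} (hF : F.IsSaturated p) (D : Subgroup Ω)
    (hT : ∀ α ∈ F.autGroup S, ∀ x : S, (x : Ω)⁻¹ * (α x : S) ∈ D)
    (hE : ∀ Q : Subgroup Ω, F.IsEssential p Q → ∀ α ∈ F.autGroup Q, ∀ x : Q,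
      (x : Ω)⁻¹ * (α x : Q) ∈ D) : F.hyperfocalSubgroup p ≤ D := by
  unfold FusionSystem.hyperfocalSubgroup
  rw [Subgroup.closure_le]
  rintro y ⟨P, α, x, hP, -, rfl⟩
  have hα := (mem_autGroup_iff F hP α).1 α.2
  refine rel_of_essential hS hF (fun x y => x⁻¹ * y ∈ D) (fun x => by simp)
    (fun x y h => ?_) (fun x y z h h' => ?_) hT hE hα x
  · have := D.inv_mem h
    rwa [mul_inv_rev, inv_inv] at this
  · have := D.mul_mem h h'
    have e : x⁻¹ * y * (y⁻¹ * z) = x⁻¹ * z := by group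
    rwa [e] at this

/-! ### Automorphisms of `S` -/

theorem autInducedBy_self (S : Subgroup Ω) : autInducedBy S S = Inn S := by
  refine le_antisymm ?_ (inn_le_autInducedBy le_rfl)
  intro α hα
  obtain ⟨g, hg, h⟩ := (mem_autInducedBy_iff S S α).1 hα
  exact ⟨⟨g, hg⟩, MulEquiv.ext fun x => Subtype.ext (h x).symm⟩

theorem isFullyNormalized_self (F : FusionSystem S) [Finite S] : F.IsFullyNormalized S := by
  refine ⟨le_rfl, fun Q hQ => ?_⟩
  have hQS := isConj_le_right hQ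
  have h1 : Q = S := Subgroup.eq_of_le_of_card_ge hQS (isConj_card_eq hQ).le
  rw [h1]

/-- `p`-elements of `Aut_F(S)` are inner. -/
theorem mem_inn_of_pow {p : ℕ} [hp : Fact p.Prime] [Finite S] (hS : IsPGroup p S)
    {F : FusionSystem S} (hF : F.IsSaturated p) {α : MulAut S} (hα : α ∈ F.autGroup S) {k : ℕ}
    (hk : α ^ p ^ k = 1) : α ∈ Inn S := by
  obtain ⟨-, R, hR⟩ := isFullyAutomized_of_isFullyNormalized hS hF (isFullyNormalized_self F)
  rw [autInducedBy_self] at hR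
  have hn : ((Inn S).subgroupOf (F.autGroup S)).Normal := inferInstance
  rw [← hR] at hn
  have hzp : IsPGroup p (Subgroup.zpowers (⟨α, hα⟩ : F.autGroup S)) := by
    rintro ⟨b, hb⟩
    obtain ⟨n, rfl⟩ := Subgroup.mem_zpowers_iff.1 hb
    refine ⟨k, Subtype.ext (Subtype.ext ?_)⟩
    show (α ^ n) ^ p ^ k = 1
    rw [← zpow_natCast, ← zpow_mul, mul_comm, zpow_mul, zpow_natCast, hk, one_zpow]
  obtain ⟨R', hR'⟩ := hzp.exists_le_sylow
  obtain ⟨g, hg⟩ := MulAction.exists_smul_eq (F.autGroup S) R R'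
  rw [Sylow.smul_eq_of_normal] at hg
  have h1 : R' = R := hg.symm
  have h2 := hR' (Subgroup.mem_zpowers _)
  rw [h1] at h2
  have h3 : (⟨α, hα⟩ : F.autGroup S) ∈ (R : Subgroup (F.autGroup S)) := h2
  rw [hR, Subgroup.mem_subgroupOf] at h3
  exact h3

/-- If some `p`-power of `u ∈ Aut_F(S)` fixes the central element `z`, then `u` fixes `z`. -/
theorem apply_eq_of_pow_apply_eq {p : ℕ} [hp : Fact p.Prime] [Finite S] (hS : IsPGroup p S)
    {F : FusionSystem S} (hF : F.IsSaturated p) {u : MulAut S} (hu : u ∈ F.autGroup S) {k : ℕ}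
    {z : S} (hz : ∀ x : S, x * z = z * x) (hk : (u ^ p ^ k) z = z) : u z = z := by
  have hfin : Finite (MulAut S) := inferInstance
  have hne : orderOf u ≠ 0 := (orderOf_pos u).ne'
  obtain ⟨a, m, hm, ham⟩ := Nat.exists_eq_pow_mul_and_not_dvd hne p hp.out.ne_one
  have h1 : (u ^ m) ^ p ^ a = 1 := by
    rw [← pow_mul, mul_comm, ← ham, pow_orderOf_eq_one]
  obtain ⟨g, hg⟩ := mem_inn_of_pow hS hF (pow_mem hu m) h1
  have h2 : (u ^ m) z = z := by
    rw [← hg, MulAut.conj_apply, hz g, mul_inv_cancel_right]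
  let H : Subgroup (MulAut S) :=
    { carrier := {v | v z = z}
      one_mem' := rfl
      mul_mem' := fun {v w} hv hw => by
        show v (w z) = z
        rw [show w z = z from hw, show v z = z from hv]
      inv_mem' := fun {v} hv => by
        show v⁻¹ z = z
        conv_lhs => rw [← show v z = z from hv]
        rw [MulAut.inv_apply_self] }
  have hcop : Nat.Coprime m (p ^ k) := by
    apply Nat.Coprime.pow_right
    exact ((Nat.Prime.coprime_iff_not_dvd hp.out).2 hm).symm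
  have h3 : u ^ ((m : ℤ) * Nat.gcdA m (p ^ k) + ((p ^ k : ℕ) : ℤ) * Nat.gcdB m (p ^ k)) ∈ H := by
    rw [zpow_add, zpow_mul, zpow_mul, zpow_natCast, zpow_natCast]
    exact H.mul_mem (H.zpow_mem h2 _) (H.zpow_mem hk _)
  rw [← Nat.gcd_eq_gcd_ab, hcop.gcd_eq_one, Nat.cast_one, zpow_one] at h3
  exact h3

/-! ### Essential subgroups -/

/-- An automorphism of `Q` normalizing `Aut_S(Q)` extends to an element of `Aut_F(N_S(Q))`. -/
theorem exists_aut_normalizerIn [Finite S] {F : FusionSystem S} {Q : Subgroup Ω}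
    (hQ : F.IsReceptive Q) {γ : MulAut Q} (hγ : γ ∈ F.autGroup Q)
    (h : ∀ δ ∈ autInducedBy S Q, γ * δ * γ⁻¹ ∈ autInducedBy S Q) :
    ∃ α ∈ F.autGroup (normalizerIn S Q), ∀ (x : Ω) (hx : x ∈ Q) (hx' : x ∈ normalizerIn S Q),
      ((α ⟨x, hx'⟩ : normalizerIn S Q) : Ω) = (γ ⟨x, hx⟩ : Q) := by
  have hQS := hQ.1
  have hfin : Finite Q := finite_of_le hQS
  obtain ⟨ψ, hψ, hψe⟩ := exists_extension_of_normalizes hQ hγ h
  have hQN : Q ≤ normalizerIn S Q := le_normalizerIn hQS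
  have hfinN : Finite (normalizerIn S Q) := finite_of_le inf_le_left
  have hγ' := (mem_autGroup_iff F hQS γ).1 hγ
  have hr : (Q.subtype.comp γ.toMonoidHom).range = Q :=
    range_eq_of_mapsTo hγ' (fun x => (γ x).2)
  have hmaps : ∀ y : normalizerIn S Q, ψ y ∈ normalizerIn S Q := fun y =>
    apply_mem_normalizerIn hψ hQN inf_le_right hr (fun x hx => hψe x hx _) y
  obtain ⟨α, hα, hαe⟩ := exists_aut hψ (range_eq_of_mapsTo hψ hmaps)
  exact ⟨α, hα, fun x hx hx' => by rw [hαe]; exact hψe x hx hx'⟩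

/-- The same, when `Q` is normal in `S`. -/
theorem exists_aut_top [Finite S] {F : FusionSystem S} {Q : Subgroup Ω}
    (hQ : F.IsReceptive Q) (hN : normalizerIn S Q = S) {γ : MulAut Q} (hγ : γ ∈ F.autGroup Q)
    (h : ∀ δ ∈ autInducedBy S Q, γ * δ * γ⁻¹ ∈ autInducedBy S Q) :
    ∃ α ∈ F.autGroup S, ∀ (x : Ω) (hx : x ∈ Q) (hx' : x ∈ S),
      ((α ⟨x, hx'⟩ : S) : Ω) = (γ ⟨x, hx⟩ : Q) := by
  have h1 := exists_aut_normalizerIn hQ hγ h
  rw [hN] at h1
  exact h1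

/-- An essential subgroup has an automorphism in the system not normalizing `Aut_S(Q)`. -/
theorem exists_not_normalize {p : ℕ} [Fact p.Prime] [Finite S] (hS : IsPGroup p S)
    {F : FusionSystem S} (hF : F.IsSaturated p) {Q : Subgroup Ω} (hQ : F.IsEssential p Q) :
    ∃ α ∈ F.autGroup Q, ∃ δ ∈ autInducedBy S Q, α * δ * α⁻¹ ∉ autInducedBy S Q := by
  obtain ⟨D, hD1, hD2, hD3⟩ := exists_proper_of_isEssential hS hF hQ
  by_contra hcon
  push Not at hcon
  apply hD2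
  refine le_antisymm hD1 fun α hα => ?_
  have hQS := hQ.1.1
  have hQr := isReceptive_of_isFullyNormalized hS hF hQ.2.1
  have hfin : Finite Q := finite_of_le hQS
  obtain ⟨ψ, hψ, hψe⟩ := exists_extension_of_normalizes hQr hα (hcon α hα)
  exact hD3 α hα ⟨normalizerIn S Q, le_normalizerIn hQS,
    card_lt_card_normalizerIn hS hQS (ne_of_isEssential hS hF hQ), ψ, hψ,
    fun x => hψe x x.2 _⟩

/-- If `|Aut_S(Q)| = p` and `Q` is fully automized, then the `p`-subgroups of `Aut_F(Q)` have order at most `p`. -/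
theorem card_le_of_pgroup {p : ℕ} [hp : Fact p.Prime] [Finite S] (hS : IsPGroup p S)
    {F : FusionSystem S} {Q : Subgroup Ω} (hQ : F.IsFullyAutomized p Q) {n : ℕ}
    (hc : Nat.card (autInducedBy S Q) = p ^ n) (B : Subgroup (MulAut Q)) (hB : B ≤ F.autGroup Q)
    (hBp : IsPGroup p B) : Nat.card B ≤ p ^ n := by
  have hQS := hQ.1
  have hfin : Finite Q := finite_of_le hQS
  have h1 := (isFullyAutomized_iff_card hS hQS).1 hQ
  rw [hc] at h1
  obtain ⟨k, hk⟩ := IsPGroup.iff_card.1 hBp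
  have h2 : p ^ k ∣ Nat.card (F.autGroup Q) := by
    rw [← hk]
    exact Subgroup.card_dvd_of_le hB
  have h3 : k ≤ (Nat.card (F.autGroup Q)).factorization p :=
    (hp.out.pow_dvd_iff_le_factorization Nat.card_pos.ne').1 h2
  rw [h1, hk]
  exact Nat.pow_le_pow_right hp.out.pos h3

/-! ### Commutators modulo a central subgroup -/

theorem comm_mem_of_closure {A : Set Ω} {D : Subgroup Ω}
    (hD : ∀ d ∈ D, ∀ a ∈ A, a * d = d * a) (hA : ∀ a ∈ A, ∀ b ∈ A, a * b * a⁻¹ * b⁻¹ ∈ D) :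
    ∀ x ∈ Subgroup.closure A, ∀ y ∈ Subgroup.closure A, x * y * x⁻¹ * y⁻¹ ∈ D := by
  have hD' : ∀ d ∈ D, ∀ x ∈ Subgroup.closure A, x * d = d * x := by
    intro d hd x hx
    refine Subgroup.closure_induction (p := fun x _ => x * d = d * x) (fun a ha => hD d hd a ha)
      (by simp) (fun a b _ _ ha hb => ?_) (fun a _ ha => ?_) hx
    · rw [mul_assoc, hb, ← mul_assoc, ha, mul_assoc]
    · rw [inv_mul_eq_iff_eq_mul, ← mul_assoc, ha, mul_inv_cancel_right]
  -- first variable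
  have h1 : ∀ b ∈ A, ∀ x ∈ Subgroup.closure A, x * b * x⁻¹ * b⁻¹ ∈ D := by
    intro b hb x hx
    refine Subgroup.closure_induction (p := fun x _ => x * b * x⁻¹ * b⁻¹ ∈ D)
      (fun a ha => hA a ha b hb) (by simp) (fun x y hx _ ihx ihy => ?_) (fun x hx ih => ?_) hx
    · have e : x * y * b * (x * y)⁻¹ * b⁻¹ =
          x * (y * b * y⁻¹ * b⁻¹) * x⁻¹ * (x * b * x⁻¹ * b⁻¹) := by group
      rw [e, hD' _ ihy x hx, mul_inv_cancel_right]
      exact D.mul_mem ihy ihx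
    · have e : x⁻¹ * b * x⁻¹⁻¹ * b⁻¹ = x⁻¹ * (x * b * x⁻¹ * b⁻¹)⁻¹ * x := by group
      rw [e, hD' _ (D.inv_mem ih) _ (inv_mem hx), inv_mul_cancel_right]
      exact D.inv_mem ih
  intro x hx y hy
  refine Subgroup.closure_induction (p := fun y _ => x * y * x⁻¹ * y⁻¹ ∈ D)
    (fun b hb => h1 b hb x hx) (by simp) (fun y z hy _ ihy ihz => ?_) (fun y hy ih => ?_) hy
  · have e : x * (y * z) * x⁻¹ * (y * z)⁻¹ =
        (x * y * x⁻¹ * y⁻¹) * (y * (x * z * x⁻¹ * z⁻¹) * y⁻¹) := by group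
    rw [e, hD' _ ihz y hy, mul_inv_cancel_right]
    exact D.mul_mem ihy ihz
  · have e : x * y⁻¹ * x⁻¹ * y⁻¹⁻¹ = y⁻¹ * (x * y * x⁻¹ * y⁻¹)⁻¹ * y := by group
    rw [e, hD' _ (D.inv_mem ih) _ (inv_mem hy), inv_mul_cancel_right]
    exact D.inv_mem ih

end Cfsg.Agent.H785
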