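import Mathlib
import Cfsg.Agent.H336.SpSix.Def_m3
import Cfsg.Agent.Cit.TyTrans_m3
import Cfsg.Agent.TypeLFive.LThreeFacts_mg
import Cfsg.Agent.LieRecognition.FieldSemilinear
import Cfsg.Agent.H81.PJTab
import Cfsg.Agent.OddHalf.LongSL.Abs
import Cfsg.Agent.OddHalf.LongSL.Tw_m3
import Cfsg.Agent.KFacts.RgdChevCoord
import Cfsg.Agent.H296.FFourPar
import Cfsg.Agent.Lib.FinFast
import Cfsg.Agent.S1697
import Cfsg.Agent.Fischer.Fi24Index_m3
import Cfsg.Agent.StandardComponent.SpTwoModel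
import Cfsg.Agent.StandardComponent.SpTwoAut
import Cfsg.Agent.S0270
import Mathlib.GroupTheory.Sylow
import Cfsg.Agent.Co2Type.Quad
import Cfsg.Agent.H848.MonsterSetup
import Cfsg.Agent.Foote.Row.Baby
import Cfsg.Agent.H237.EvenFi
import Cfsg.Agent.KFacts.RgdLieCharP
import Cfsg.Agent.KFacts.RgdSyl
import Cfsg.Agent.S0243
import Cfsg.Agent.S0245
import Cfsg.Agent.S0246
import Cfsg.Agent.S0280
import Cfsg.Agent.S0293
import Cfsg.Agent.S0294
import Cfsg.Agent.S1059
import Cfsg.Agent.S1062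
import Cfsg.Agent.S1063
import Cfsg.Agent.S1064
import Cfsg.Agent.S1065
import Cfsg.Agent.S1066
import Cfsg.Agent.S1067
import Cfsg.Agent.FastGrp
import Cfsg.Agent.Prune
set_option linter.all false

section
prune_inst 0x7ffcfcf8afb835dfffff7e7fa6fdcffc39901fffe6dff94bffe0e1ff0bdf03080be5fba70de010fe0ed6e21410b87853fbffceffe26bdc7ffffd5ff45ffbee1ff5f7bd0851d698340f384fff83f0778e7f3fffffffffffffffffffffffffffbeffbfffffffff

-- part: H785/SpE7End
section
prune_inst 0x880000000000580010000040c0000000020000000000000000003400000090004001100000a200000000000001000800000000000000000000000000008000000000008400000000080000000000000000000000000000000000004000000000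
set_option linter.all false
open scoped Cfsg.Agent.FastGrp

-- part: H785/SpLong
section
/-!
# Elementary abelian subgroups of order 64 with symplectic normaliser and long involutions (helper785)

* `Lg j J` : `j` is the only involution of `J`, `J` is normalised by `C(j)`, and the facts on `J ≅ SL₂(q)`, `q` odd, which are
  needed;
* `false_of_lg` : if the index of `C(j)` is odd, there are no `th`, `O`, `K0` with `Sit th O K0`.
-/

set_option autoImplicit false
set_option linter.unusedSectionVars false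

namespace Cfsg.Agent.H785.SpLong

open Subgroup Cfsg.Agent.H336.SpSix
open scoped Pointwise

/-- normalizers grow in `p`-groups -/
theorem exists_norm {G : Type*} [Group G] [Finite G] {p : ℕ} [Fact p.Prime] {T S : Subgroup G} (hS : IsPGroup p S)
    (h : T < S) : ∃ g ∈ S, g ∉ T ∧ ∀ t ∈ T, g * t * g⁻¹ ∈ T := by
  have hnil : Group.IsNilpotent S := hS.isNilpotent
  have hlt : T.subgroupOf S < ⊤ := by
    rw [lt_top_iff_ne_top]
    intro h1
    rw [Subgroup.subgroupOf_eq_top] at h1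
    exact (lt_iff_le_not_ge.1 h).2 h1
  obtain ⟨g, hg, hgT⟩ := SetLike.exists_of_lt
    (Group.normalizerCondition_of_isNilpotent (G := S) (T.subgroupOf S) hlt)
  refine ⟨g, g.2, fun h => hgT (mem_subgroupOf.2 h), fun t ht => ?_⟩
  have := (mem_normalizer_iff.1 hg ⟨t, h.le ht⟩).1 ht
  exact this

/-- elements of `H N`, `H` normalising `N` -/
theorem mem_sup_nrm {G : Type*} [Group G] {H N : Subgroup G} (hn : H ≤ normalizer (N : Set G)) {x : G}
    (hx : x ∈ H ⊔ N) : ∃ a ∈ H, ∃ b ∈ N, x = a * b := by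
  have hc : ∀ a ∈ H, ∀ b ∈ N, a * b * a⁻¹ ∈ N := fun a ha b hb => (mem_normalizer_iff.1 (hn ha) b).1 hb
  let S : Subgroup G :=
    { carrier := {x | ∃ a ∈ H, ∃ b ∈ N, x = a * b}
      one_mem' := ⟨1, one_mem _, 1, one_mem _, by simp⟩
      mul_mem' := by
        rintro _ _ ⟨a, ha, b, hb, rfl⟩ ⟨a', ha', b', hb', rfl⟩
        refine ⟨a * a', mul_mem ha ha', a'⁻¹ * b * a' * b', mul_mem ?_ hb', by group⟩
        have := hc a'⁻¹ (inv_mem ha') b hb
        rwa [inv_inv] at this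
      inv_mem' := by
        rintro _ ⟨a, ha, b, hb, rfl⟩
        exact ⟨a⁻¹, inv_mem ha, a * b⁻¹ * a⁻¹, hc a ha _ (inv_mem hb), by group⟩ }
  have h1 : H ⊔ N ≤ S := sup_le (fun a ha => ⟨a, ha, 1, one_mem _, by simp⟩) (fun b hb => ⟨1, one_mem _, b, hb, by simp⟩)
  exact h1 hx

/-- `j` is a long involution: the facts needed -/
structure Lg {K : Type*} [Group K] (j : K) (J : Subgroup K) : Prop where
  ne : j ≠ 1
  sq : j * j = 1
  mem : j ∈ J
  cent : ∀ x ∈ J, x * j = j * x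
  nrm : ∀ g : K, g * j = j * g → ∀ x ∈ J, g * x * g⁻¹ ∈ J
  inv : ∀ x ∈ J, x * x = 1 → x = 1 ∨ x = j
  core : ∀ D : Subgroup K, D ≤ J → (∀ g ∈ J, ∀ x ∈ D, g * x * g⁻¹ ∈ D) → Odd (Nat.card D) → D = ⊥
  four : 4 ∣ Nat.card J
  ctr : ∀ x ∈ J, (∀ y ∈ J, x * y = y * x) → x * x = 1
  bound : ∀ f : V → K, (∀ u v, f (u + v) = f u * f v) → (∀ u, f u * j = j * f u) → Function.Injective f →
    ∃ c, c ≠ 0 ∧ f c ≠ j ∧ ∀ x ∈ J, f c * x = x * f c

theorem Lg.map {K K' : Type*} [Group K] [Group K'] {j : K} {J : Subgroup K} (L : Lg j J) (e : K ≃* K') :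
    Lg (e j) (J.map e.toMonoidHom) := by
  have hm : ∀ y : K', y ∈ J.map e.toMonoidHom ↔ e.symm y ∈ J := fun y => mem_map_equiv
  have hj : e.symm (e j) = j := e.symm_apply_apply j
  have back : ∀ x y : K', e.symm x = e.symm y → x = y := fun x y h => e.symm.injective h
  refine ⟨?_, ?_, ?_, ?_, ?_, ?_, ?_, ?_, ?_, ?_⟩
  · intro h1
    exact L.ne (e.injective (by rw [h1, map_one]))
  · rw [← map_mul, L.sq, map_one]
  · rw [hm, hj]; exact L.mem
  · intro x hx
    apply back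
    rw [map_mul, map_mul, hj]
    exact L.cent _ ((hm x).1 hx)
  · intro g hg x hx
    rw [hm, map_mul, map_mul, map_inv]
    refine L.nrm _ ?_ _ ((hm x).1 hx)
    have := congrArg e.symm hg
    rwa [map_mul, map_mul, hj] at this
  · intro x hx h1
    have h2 := congrArg e.symm h1
    rw [map_mul, map_one] at h2
    rcases L.inv _ ((hm x).1 hx) h2 with h3 | h3
    · left
      apply back
      rw [h3, map_one]
    · right
      apply back
      rw [h3, hj]
  · intro D hD hn hodd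
    have h1 : D.map e.symm.toMonoidHom = ⊥ := by
      refine L.core _ ?_ ?_ ?_
      · rintro _ ⟨x, hx, rfl⟩
        exact (hm x).1 (hD hx)
      · rintro g hg _ ⟨x, hx, rfl⟩
        refine ⟨e g * x * (e g)⁻¹, hn _ (by rw [hm, e.symm_apply_apply]; exact hg) x hx, ?_⟩
        show e.symm (e g * x * (e g)⁻¹) = g * e.symm x * g⁻¹
        rw [map_mul, map_mul, map_inv, e.symm_apply_apply]
      · rwa [Nat.card_congr (D.equivMapOfInjective e.symm.toMonoidHom e.symm.injective).toEquiv.symm]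
    exact (Subgroup.map_eq_bot_iff_of_injective _ e.symm.injective).1 h1
  · rw [Nat.card_congr (J.equivMapOfInjective e.toMonoidHom e.injective).toEquiv.symm]
    exact L.four
  · intro x hx h1
    apply back
    rw [map_mul, map_one]
    refine L.ctr _ ((hm x).1 hx) fun y hy => ?_
    have h2 := congrArg e.symm (h1 (e y) (by rw [hm, e.symm_apply_apply]; exact hy))
    rwa [map_mul, map_mul, e.symm_apply_apply] at h2
  · intro f hf hfj hfi
    obtain ⟨c, hc, hcj, hcJ⟩ := L.bound (fun v => e.symm (f v)) (fun u v => by rw [hf, map_mul]) (fun u => by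
      have := congrArg e.symm (hfj u)
      rwa [map_mul, map_mul, hj] at this) (e.symm.injective.comp hfi)
    refine ⟨c, hc, ?_, fun x hx => ?_⟩
    · intro h1
      apply hcj
      show e.symm (f c) = j
      rw [h1, hj]
    · apply back
      rw [map_mul, map_mul]
      exact hcJ _ ((hm x).1 hx)

theorem Lg.conj {K : Type*} [Group K] {j : K} {J : Subgroup K} (L : Lg j J) (g : K) :
    ∃ J' : Subgroup K, Lg (g * j * g⁻¹) J' := ⟨_, L.map (MulAut.conj g)⟩

section

variable {K : Type*} [Group K] [Finite K] {th : V → K} {O K0 : Subgroup K} (h : Sit th O K0)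

include h

theorem isPGroup_A : IsPGroup 2 h.A := by
  rintro ⟨_, v, rfl⟩
  exact ⟨1, Subtype.ext (by
    show th v ^ 2 ^ 1 = 1
    rw [pow_one, pow_two, h.sq])⟩

/-- an isometry moving every vector by `0` or `a` -/
theorem isom_cases {a : V} (ha : a ≠ 0) {g : V ≃+ V} (hg : Isom g) (h1 : ∀ v, g v = v ∨ g v = v + a) :
    (∀ v, g v = v) ∨ ∀ v, g v = tv a v := by
  by_cases hid : ∀ v, g v = v
  · exact Or.inl hid
  right
  push Not at hid
  obtain ⟨v0, hv0⟩ := hid
  have h2 := (h1 v0).resolve_left hv0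
  have hfix : ∀ w, g w = w → om a w = 0 := by
    intro w hw
    have h3 := hg v0 w
    rw [h2, hw, om_add_left] at h3
    exact add_eq_left.1 h3
  have hmov : ∀ w, g w = w + a → om a w = om v0 a := by
    intro w hw
    have h3 := hg v0 w
    rw [h2, hw, om_add_left, om_add_right, om_add_right, om_self, add_zero, add_assoc] at h3
    have h4 := add_eq_left.1 h3
    rcases z2 (om a w) with h5 | h5 <;> rcases z2 (om v0 a) with h6 | h6 <;> rw [h5, h6] at h4 ⊢
    · exact absurd h4 (by decide)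
    · exact absurd h4 (by decide)
  have h01 : om v0 a = 1 := by
    rcases z2 (om v0 a) with h3 | h3
    · exfalso
      obtain ⟨u, hu⟩ := exists_om ha
      rcases h1 u with h4 | h4
      · rw [hfix u h4] at hu; exact absurd hu (by decide)
      · rw [hmov u h4, h3] at hu; exact absurd hu (by decide)
    · exact h3
  intro w
  rcases h1 w with h4 | h4
  · rw [h4, tv_of_zero (hfix w h4)]
  · rw [h4, tv_of_one (by rw [hmov w h4, h01])]

/-- **Step 1.** The element `n_a`. -/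
theorem step1 {a : V} (ha : a ≠ 0) {J : Subgroup K} (L : Lg (th a) J) :
    ∃ n ∈ J, n * n = th a ∧ ∀ v, n * th v * n⁻¹ = th (tv a v) := by
  have : Fact (Nat.Prime 2) := ⟨Nat.prime_two⟩
  have hA2 := isPGroup_A h
  have hAJ : h.A ≤ normalizer (J : Set K) := by
    have h0 : ∀ v, ∀ x ∈ J, th v * x * (th v)⁻¹ ∈ J := fun v x hx => L.nrm _ (h.comm v a) x hx
    rintro _ ⟨v, rfl⟩
    rw [mem_normalizer_iff]
    refine fun x => ⟨h0 v x, fun hx => ?_⟩
    have h1 := h0 v _ hx
    have h2 : th v * (th v * x * (th v)⁻¹) * (th v)⁻¹ = (th v * th v) * x * ((th v)⁻¹ * (th v)⁻¹) := by group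
    rwa [h2, h.sq, h.inv, h.sq, one_mul, mul_one] at h1
  -- the invariant Sylow 2-subgroup
  set φ : ↥h.A →* MulAut ↥J := J.normalizerMonoidHom.comp (Subgroup.inclusion hAJ) with hφ
  have hR : IsPGroup 2 φ.range := hA2.of_surjective φ.rangeRestrict φ.rangeRestrict_surjective
  obtain ⟨X, hX⟩ := hR.nonempty_fixed_point_of_prime_not_dvd_card (Sylow 2 ↥J) (by
    have h1 := card_sylow_modEq_one 2 ↥J
    intro h2
    have h3 := (Nat.modEq_zero_iff_dvd.2 h2).symm.trans h1
    exact absurd h3 (by decide))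
  set Q : Subgroup K := (X : Subgroup ↥J).map J.subtype with hQ
  have hQ2 : IsPGroup 2 Q := X.isPGroup'.map _
  have hQJ : Q ≤ J := Subgroup.map_subtype_le _
  have hQcard : 4 ∣ Nat.card Q := by
    have h2 : Nat.card Q = Nat.card X := Subgroup.card_map_of_injective J.subtype_injective
    rw [h2]
    exact X.pow_dvd_card_of_pow_dvd_card (n := 2) (by norm_num; exact L.four)
  have hAQ0 : ∀ v, ∀ x ∈ Q, th v * x * (th v)⁻¹ ∈ Q := by
    rintro v _ ⟨x, hx, rfl⟩
    have h1 : (⟨φ ⟨th v, h.th_mem v⟩, ⟨th v, h.th_mem v⟩, rfl⟩ : φ.range) • X = X := hX _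
    have h2 : (φ ⟨th v, h.th_mem v⟩) • (X : Subgroup ↥J) = (X : Subgroup ↥J) := congrArg Sylow.toSubgroup h1
    have h3 : φ ⟨th v, h.th_mem v⟩ x ∈ (X : Subgroup ↥J) := by
      rw [← h2]
      exact Subgroup.smul_mem_pointwise_smul x _ _ hx
    exact ⟨_, h3, rfl⟩
  have hAQ : h.A ≤ normalizer (Q : Set K) := by
    rintro _ ⟨v, rfl⟩
    rw [mem_normalizer_iff]
    refine fun x => ⟨hAQ0 v x, fun hx => ?_⟩
    have h1 := hAQ0 v _ hx
    have h2 : th v * (th v * x * (th v)⁻¹) * (th v)⁻¹ = (th v * th v) * x * ((th v)⁻¹ * (th v)⁻¹) := by group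
    rwa [h2, h.sq, h.inv, h.sq, one_mul, mul_one] at h1
  have hsqA : ∀ x ∈ h.A, x * x = 1 := by
    rintro _ ⟨v, rfl⟩
    exact h.sq v
  have hlt : h.A < h.A ⊔ Q := by
    refine lt_of_le_of_ne le_sup_left fun h1 => ?_
    have h2 : Q ≤ h.A := by rw [h1]; exact le_sup_right
    have h3 : (Q : Set K) ⊆ ({1, th a} : Set K) := by
      intro x hx
      rcases L.inv x (hQJ hx) (hsqA x (h2 hx)) with h4 | h4
      · exact Or.inl h4
      · exact Or.inr h4
    have h4 := Set.ncard_le_ncard h3 (Set.toFinite _)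
    have h5 : Nat.card Q ≤ 2 := by
      rw [← SetLike.coe_sort_coe, Nat.card_coe_set_eq]
      exact h4.trans ((Set.ncard_insert_le _ _).trans (by rw [Set.ncard_singleton]))
    have h6 := Nat.le_of_dvd Nat.card_pos hQcard
    omega
  obtain ⟨g, hg, hgA, hgn⟩ := exists_norm (hA2.to_sup_of_normal_right' hQ2 hAQ) hlt
  obtain ⟨b, hb, x, hx, rfl⟩ := mem_sup_nrm hAQ hg
  have hxA : x ∉ h.A := fun hx' => hgA (mul_mem hb hx')
  have hxn : ∀ t ∈ h.A, x * t * x⁻¹ ∈ h.A := by
    intro t ht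
    have h1 := mul_mem (mul_mem (inv_mem hb) (hgn t ht)) hb
    have h2 : b⁻¹ * (b * x * t * (b * x)⁻¹) * b = x * t * x⁻¹ := by group
    rwa [h2] at h1
  have hxnorm : x ∈ normalizer (h.A : Set K) := by
    rw [h.mem_normalizer]
    intro v
    obtain ⟨u, hu⟩ := hxn _ (h.th_mem v)
    exact ⟨u, hu.symm⟩
  obtain ⟨γ, hγ, hγx⟩ := h.exists_isom_of_mem hxnorm
  have hmove : ∀ v, γ v = v ∨ γ v = v + a := by
    intro v
    have h1 : x * th v * x⁻¹ * (th v)⁻¹ ∈ h.A := mul_mem (hxn _ (h.th_mem v)) (inv_mem (h.th_mem v))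
    have h2 : x * th v * x⁻¹ * (th v)⁻¹ ∈ Q := by
      have h3 := mul_mem hx (hAQ0 v _ (inv_mem hx))
      have h4 : x * (th v * x⁻¹ * (th v)⁻¹) = x * th v * x⁻¹ * (th v)⁻¹ := by group
      rwa [h4] at h3
    rcases L.inv _ (hQJ h2) (hsqA _ h1) with h3 | h3
    · left
      apply h.inj
      rw [← hγx]
      exact mul_inv_eq_one.1 h3
    · right
      apply h.inj
      rw [← hγx, h.add, mul_inv_eq_iff_eq_mul.1 h3, h.comm]
  obtain ⟨k, hk⟩ := hQ2 ⟨x, hx⟩
  have hk' : x ^ 2 ^ k = 1 := congrArg Subtype.val hk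
  rcases isom_cases h ha hγ hmove with h1 | h1
  · exfalso
    refine hxA (h.mem_of_sq (n := k) (fun v => ?_) hk')
    have h2 := hγx v
    rw [h1 v] at h2
    exact mul_inv_eq_iff_eq_mul.1 h2
  have hact : ∀ v, x * th v * x⁻¹ = th (tv a v) := fun v => by rw [hγx, h1]
  refine ⟨x, hQJ hx, ?_, hact⟩
  have h2 : x * x ∈ h.A := by
    refine h.mem_of_sq (n := k) (fun v => ?_) ?_
    · have h3 : x * x * th v * (x * x)⁻¹ = th v := by
        have h4 : x * x * th v * (x * x)⁻¹ = x * (x * th v * x⁻¹) * x⁻¹ := by group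
        rw [h4, hact, hact]
        congr 1
        exact (tv a).left_inv v
      exact mul_inv_eq_iff_eq_mul.1 h3
    · rw [← pow_two, ← pow_mul, mul_comm, pow_mul, hk', one_pow]
  rcases L.inv _ (mul_mem (hQJ hx) (hQJ hx)) (hsqA _ h2) with h3 | h3
  · exfalso
    rcases L.inv x (hQJ hx) h3 with h4 | h4
    · rw [h4] at hxA; exact hxA (one_mem _)
    · rw [h4] at hxA; exact hxA (h.th_mem a)
  · exact h3

/-- **Step 2.** `th u` centralises `J` if `om a u = 0`. -/
theorem step2 {a : V} (ha : a ≠ 0) {J : Subgroup K} (L : Lg (th a) J) {u : V} (hu : om a u = 0) :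
    ∀ x ∈ J, th u * x = x * th u := by
  obtain ⟨n, hn, -, hna⟩ := step1 h ha L
  obtain ⟨c, hc0, hca, hc⟩ := L.bound th h.add (fun v => h.comm v a) h.inj
  have hca' : a ≠ c := fun h1 => hca (by rw [h1])
  have hadd : ∀ u v, (∀ x ∈ J, th u * x = x * th u) → (∀ x ∈ J, th v * x = x * th v) →
      ∀ x ∈ J, th (u + v) * x = x * th (u + v) := by
    intro u v h1 h2 x hx
    rw [h.add, mul_assoc, h2 x hx, ← mul_assoc, h1 x hx, mul_assoc]
  have hac : om a c = 0 := by
    rcases z2 (om a c) with h1 | h1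
    · exact h1
    · exfalso
      have h2 := hna c
      rw [← hc n hn, mul_inv_cancel_right, tv_of_one h1] at h2
      have h3 := h.inj h2
      exact ha (left_eq_add.1 h3)
  have key : ∀ w, om a w = 0 → om w c = 1 → ∀ x ∈ J, th w * x = x * th w := by
    intro w h1 h2
    obtain ⟨k, -, hk⟩ := h.exists_tv w
    have h3 : k * th a = th a * k := by
      have h4 := hk a
      rw [tv_of_zero (by rw [om_comm]; exact h1)] at h4
      exact mul_inv_eq_iff_eq_mul.1 h4
    have h3' : k⁻¹ * th a = th a * k⁻¹ := by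
      rw [inv_mul_eq_iff_eq_mul, ← mul_assoc, h3, mul_inv_cancel_right]
    have h4 : ∀ x ∈ J, th (c + w) * x = x * th (c + w) := by
      intro x hx
      have h5 := hk c
      rw [tv_of_one h2] at h5
      rw [← h5]
      have h6 := hc _ (L.nrm _ h3' x hx)
      rw [inv_inv] at h6
      calc k * th c * k⁻¹ * x = k * (th c * (k⁻¹ * x * k)) * k⁻¹ := by group
        _ = k * (k⁻¹ * x * k * th c) * k⁻¹ := by rw [h6]
        _ = x * (k * th c * k⁻¹) := by group
    have h5 := hadd c (c + w) hc h4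
    rwa [self_add_add] at h5
  rcases z2 (om u c) with h1 | h1
  · obtain ⟨w, hw1, hw2⟩ := exists_om_pair ha hc0 hca' 0 1
    have h2 := key w hw1 (by rw [om_comm]; exact hw2)
    have h3 := key (u + w) (by rw [om_add_right, hu, hw1, add_zero]) (by rw [om_add_left, h1, om_comm w, hw2, zero_add])
    have h4 := hadd (u + w) w h3 h2
    rwa [add_add_self] at h4
  · exact key u hu h1

/-- **Step 3.** `J_a` and `J_b` commute if `om a b = 0`. -/
theorem step3 {a b : V} (ha : a ≠ 0) (hb : b ≠ 0) (hab : a ≠ b) (h0 : om a b = 0) {Ja Jb : Subgroup K}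
    (La : Lg (th a) Ja) (Lb : Lg (th b) Jb) : ∀ x ∈ Ja, ∀ y ∈ Jb, x * y = y * x := by
  have hA : ∀ x ∈ Ja, x * th b = th b * x := fun x hx => (step2 h ha La h0 x hx).symm
  have hB : ∀ y ∈ Jb, y * th a = th a * y := fun y hy => (step2 h hb Lb (by rw [om_comm]; exact h0) y hy).symm
  have hD : Ja ⊓ Jb = ⊥ := by
    refine La.core _ inf_le_left (fun g hg x hx => mem_inf.2 ⟨Ja.mul_mem (Ja.mul_mem hg hx.1) (Ja.inv_mem hg), Lb.nrm g (hA g hg) x hx.2⟩) ?_
    rw [← Nat.not_even_iff_odd, even_iff_two_dvd]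
    intro h1
    have : Fact (Nat.Prime 2) := ⟨Nat.prime_two⟩
    obtain ⟨⟨x, hx⟩, hx2⟩ := exists_prime_orderOf_dvd_card' (G := ↥(Ja ⊓ Jb)) 2 h1
    have h2 : x * x = 1 := by
      have := pow_orderOf_eq_one (⟨x, hx⟩ : ↥(Ja ⊓ Jb))
      rw [hx2, pow_two] at this
      exact congrArg Subtype.val this
    have h3 : x ≠ 1 := by
      rintro rfl
      have h4 : (⟨1, hx⟩ : ↥(Ja ⊓ Jb)) = 1 := rfl
      rw [h4, orderOf_one] at hx2
      exact absurd hx2 (by decide)
    have h4 := (La.inv x hx.1 h2).resolve_left h3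
    have h5 := (Lb.inv x hx.2 h2).resolve_left h3
    exact hab (h.inj (h4.symm.trans h5))
  intro x hx y hy
  have h1 : x * y * x⁻¹ * y⁻¹ ∈ Ja ⊓ Jb := by
    constructor
    · have h2 := Ja.mul_mem hx (La.nrm y (hB y hy) _ (Ja.inv_mem hx))
      have h3 : x * (y * x⁻¹ * y⁻¹) = x * y * x⁻¹ * y⁻¹ := by group
      rwa [h3] at h2
    · exact Jb.mul_mem (Lb.nrm x (hA x hx) y hy) (Jb.inv_mem hy)
  rw [hD, mem_bot] at h1
  rw [mul_inv_eq_one, mul_inv_eq_iff_eq_mul] at h1
  exact h1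

end

/-- the first vector -/
def e1 : V := Pi.single (Sum.inl 0) 1

/-- the other nonzero vectors of a maximal totally isotropic subspace -/
def es : List V :=
  [Pi.single (Sum.inl 1) 1, Pi.single (Sum.inl 2) 1, Pi.single (Sum.inl 0) 1 + Pi.single (Sum.inl 1) 1,
   Pi.single (Sum.inl 0) 1 + Pi.single (Sum.inl 2) 1, Pi.single (Sum.inl 1) 1 + Pi.single (Sum.inl 2) 1,
   Pi.single (Sum.inl 0) 1 + Pi.single (Sum.inl 1) 1 + Pi.single (Sum.inl 2) 1]

theorem es_pair : (e1 :: es).Pairwise fun a b => a ≠ b ∧ om a b = 0 := by decide +kernel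

private noncomputable def _root_.Cfsg.Agent.LsF.fb3e89c_0 : {f // @Cfsg.Agent.H785.SpLong.e1 = f} := ⟨_, by first | (delta Cfsg.Agent.H785.SpLong.e1 Function.update Pi.single; rewrite [Cfsg.Agent.LsF.dFinEq_eq, Cfsg.Agent.LsF.dite_eq]; exact rfl) | exact rfl⟩
private noncomputable def _root_.Cfsg.Agent.LsF.fb3e89c_1 : {f // @Cfsg.Agent.H785.SpLong.es = f} := ⟨_, by first | (delta Cfsg.Agent.H785.SpLong.es Function.update Pi.single; rewrite [Cfsg.Agent.LsF.padd_pat, Cfsg.Agent.LsF.zadd_pat, Cfsg.Agent.LsF.dFinEq_eq, Cfsg.Agent.LsF.dite_eq]; exact rfl) | exact rfl⟩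
theorem es_ne : ∀ a ∈ e1 :: es, a ≠ 0 := by (refine of_decide_eq_true ?_; (try (rewrite [Cfsg.Agent.LsF.dMemE_pat, Cfsg.Agent.LsF.fb3e89c_0.2, Cfsg.Agent.LsF.fb3e89c_1.2, Cfsg.Agent.LsF.zdecEq_eq, Cfsg.Agent.LsF.finFintype_eq, Cfsg.Agent.LsF.zFintype_eq, Cfsg.Agent.LsF.dForall_eq, Cfsg.Agent.LsF.dPi_eq, Cfsg.Agent.LsF.dNot_eq, Cfsg.Agent.LsF.dFinEq_eq, Cfsg.Agent.LsF.dAllP_eq, Cfsg.Agent.LsF.decide_eq])); decide +kernel)

theorem es_sum : (e1 :: es).sum = 0 := by decide +kernel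

private noncomputable def _root_.Cfsg.Agent.LsF.fb3e89c_2 : {f // @Cfsg.Agent.H336.SpSix.om = f} := ⟨_, by first | (delta Cfsg.Agent.H336.SpSix.om; rewrite [Cfsg.Agent.LsF.sumF_pat, Cfsg.Agent.LsF.zadd_pat, Cfsg.Agent.LsF.zmul_pat, Cfsg.Agent.LsF.zACM_pat]; exact rfl) | exact rfl⟩
theorem es_tv : ∀ v : V, (e1 :: es).foldr (fun a v => v + om a v • a) v = v := by (refine of_decide_eq_true ?_; (try (rewrite [Cfsg.Agent.LsF.padd_pat, Cfsg.Agent.LsF.psmul_pat, Cfsg.Agent.LsF.fb3e89c_2.2, Cfsg.Agent.LsF.fb3e89c_0.2, Cfsg.Agent.LsF.fb3e89c_1.2, Cfsg.Agent.LsF.zadd_pat, Cfsg.Agent.LsF.zmul_pat, Cfsg.Agent.LsF.zdecEq_eq, Cfsg.Agent.LsF.finFintype_eq, Cfsg.Agent.LsF.zFintype_eq, Cfsg.Agent.LsF.dForall_eq, Cfsg.Agent.LsF.dPi_eq, Cfsg.Agent.LsF.foldr_eq, Cfsg.Agent.LsF.dFinEq_eq, Cfsg.Agent.LsF.decide_eq])); decide +kernel)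

section

variable {K : Type*} [Group K] [Finite K] {th : V → K} {O K0 : Subgroup K} (h : Sit th O K0)

include h

theorem conj_prod {n : V → K} {l : List V} (hn : ∀ a ∈ l, ∀ v, n a * th v * (n a)⁻¹ = th (tv a v)) (v : V) :
    (l.map n).prod * th v * ((l.map n).prod)⁻¹ = th (l.foldr (fun a v => v + om a v • a) v) := by
  induction l with
  | nil => simp
  | cons a l ih =>
    rw [List.map_cons, List.prod_cons, List.foldr_cons]
    have h1 := ih fun b hb => hn b (List.mem_cons_of_mem _ hb)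
    have h2 : n a * (l.map n).prod * th v * (n a * (l.map n).prod)⁻¹ =
        n a * ((l.map n).prod * th v * ((l.map n).prod)⁻¹) * (n a)⁻¹ := by group
    rw [h2, h1, hn a List.mem_cons_self]
    rfl

theorem sq_prod {n : V → K} {l : List V} (hn : ∀ a ∈ l, n a * n a = th a)
    (hc : l.Pairwise fun a b => n a * n b = n b * n a) :
    (l.map n).prod * (l.map n).prod = th l.sum := by
  induction l with
  | nil => simp [h.zero]
  | cons a l ih =>
    rw [List.pairwise_cons] at hc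
    rw [List.map_cons, List.prod_cons, List.sum_cons, h.add, ← hn a List.mem_cons_self,
      ← ih (fun b hb => hn b (List.mem_cons_of_mem _ hb)) hc.2]
    have h1 : Commute (n a) (l.map n).prod := by
      refine Commute.list_prod_right _ _ fun x hx => ?_
      obtain ⟨b, hb, rfl⟩ := List.mem_map.1 hx
      exact hc.1 b hb
    have h2 : n a * (l.map n).prod = (l.map n).prod * n a := h1
    calc n a * (l.map n).prod * (n a * (l.map n).prod) = n a * ((l.map n).prod * n a) * (l.map n).prod := by group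
      _ = n a * n a * ((l.map n).prod * (l.map n).prod) := by rw [← h2]; group

/-- an involution whose centraliser has odd index is conjugate to an element of `A` -/
theorem exists_conj_th {j : K} (hj : j ≠ 1) (hj2 : j * j = 1)
    (hodd : ¬ 2 ∣ (centralizer ({j} : Set K)).index) : ∃ (g : K) (u : V), u ≠ 0 ∧ g * j * g⁻¹ = th u := by
  have : Fact (Nat.Prime 2) := ⟨Nat.prime_two⟩
  obtain ⟨x, hx⟩ := (isPGroup_A h).nonempty_fixed_point_of_prime_not_dvd_card (K ⧸ centralizer ({j} : Set K))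
    (by rwa [Subgroup.index_eq_card] at hodd)
  obtain ⟨g, rfl⟩ := QuotientGroup.mk_surjective x
  have h1 : ∀ v, g⁻¹ * th v * g ∈ centralizer ({j} : Set K) := by
    intro v
    have h2 : (⟨th v, h.th_mem v⟩ : ↥h.A) • (g : K ⧸ centralizer ({j} : Set K)) = g := hx _
    have h3 : ((th v * g : K) : K ⧸ centralizer ({j} : Set K)) = g := h2
    have h4 := QuotientGroup.eq.1 h3.symm
    rwa [← mul_assoc] at h4
  have h2 : ∀ v, g * j * g⁻¹ * th v = th v * (g * j * g⁻¹) := by
    intro v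
    have h3 := mem_centralizer_singleton_iff.1 (h1 v)
    calc g * j * g⁻¹ * th v = g * (j * (g⁻¹ * th v * g)) * g⁻¹ := by group
      _ = g * (g⁻¹ * th v * g * j) * g⁻¹ := by rw [h3]
      _ = th v * (g * j * g⁻¹) := by group
  have h3 : g * j * g⁻¹ * (g * j * g⁻¹) = 1 := by
    have : g * j * g⁻¹ * (g * j * g⁻¹) = g * (j * j) * g⁻¹ := by group
    rw [this, hj2, mul_one, mul_inv_cancel]
  obtain ⟨u, hu⟩ := h.mem_of_mul_self h2 h3
  refine ⟨g, u, ?_, hu.symm⟩
  rintro rfl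
  rw [h.zero] at hu
  apply hj
  rw [← conj_eq_one_iff (a := g)]
  exact hu.symm

/-- **There are no such subgroups.** -/
theorem false_of_lg {j : K} {J : Subgroup K} (L : Lg j J) (hodd : ¬ 2 ∣ (centralizer ({j} : Set K)).index) : False := by
  obtain ⟨g, u0, hu0, hg⟩ := exists_conj_th h L.ne L.sq hodd
  have hL : ∀ v : V, ∃ Jv : Subgroup K, v ≠ 0 → Lg (th v) Jv := by
    intro v
    by_cases hv : v = 0
    · exact ⟨⊥, fun h1 => absurd hv h1⟩
    obtain ⟨k, -, hk⟩ := h.exists_conj hu0 hv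
    obtain ⟨J', hJ'⟩ := L.conj g
    rw [hg] at hJ'
    obtain ⟨J'', hJ''⟩ := hJ'.conj k
    rw [hk] at hJ''
    exact ⟨J'', fun _ => hJ''⟩
  choose Jf hJf using hL
  have hn0 : ∀ v : V, ∃ n : K, v ≠ 0 → n ∈ Jf v ∧ n * n = th v ∧ ∀ w, n * th w * n⁻¹ = th (tv v w) := by
    intro v
    by_cases hv : v = 0
    · exact ⟨1, fun h1 => absurd hv h1⟩
    obtain ⟨n, h1, h2, h3⟩ := step1 h hv (hJf v hv)
    exact ⟨n, fun _ => ⟨h1, h2, h3⟩⟩
  choose n hn using hn0
  have hcomm : ∀ a ∈ e1 :: es, ∀ b ∈ e1 :: es, a ≠ b → om a b = 0 → ∀ x ∈ Jf a, ∀ y ∈ Jf b, x * y = y * x :=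
    fun a ha b hb hab h0 => step3 h (es_ne a ha) (es_ne b hb) hab h0 (hJf a (es_ne a ha)) (hJf b (es_ne b hb))
  have he1 : e1 ∈ e1 :: es := List.mem_cons_self
  have hpw := es_pair
  have hpn : (e1 :: es).Pairwise fun a b => n a * n b = n b * n a := by
    refine List.Pairwise.imp_of_mem (fun {a b} ha hb hab => ?_) hpw
    exact hcomm a ha b hb hab.1 hab.2 _ (hn a (es_ne a ha)).1 _ (hn b (es_ne b hb)).1
  set w : K := ((e1 :: es).map n).prod with hw
  have hw1 : ∀ v, w * th v = th v * w := by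
    intro v
    have h1 := conj_prod h (n := n) (l := e1 :: es) (fun a ha => (hn a (es_ne a ha)).2.2) v
    rw [es_tv] at h1
    exact mul_inv_eq_iff_eq_mul.1 h1
  have hw2 : w * w = 1 := by
    have h1 := sq_prod h (n := n) (l := e1 :: es) (fun a ha => (hn a (es_ne a ha)).2.1) hpn
    rw [es_sum, h.zero] at h1
    exact h1
  obtain ⟨u, hu⟩ := h.mem_of_mul_self hw1 hw2
  -- `w = n e1 * P`
  rw [List.pairwise_cons] at hpw
  have hP : ∀ x ∈ Jf e1, Commute x (es.map n).prod := by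
    intro x hx
    refine Commute.list_prod_right _ _ fun y hy => ?_
    obtain ⟨b, hb, rfl⟩ := List.mem_map.1 hy
    have hb' : b ∈ e1 :: es := List.mem_cons_of_mem _ hb
    exact hcomm e1 he1 b hb' (hpw.1 b hb).1 (hpw.1 b hb).2 x hx _ (hn b (es_ne b hb')).1
  have hw3 : w = n e1 * (es.map n).prod := by rw [hw, List.map_cons, List.prod_cons]
  obtain ⟨hm1, hm2, hm3⟩ := hn e1 (es_ne e1 he1)
  -- `w` commutes with `n e1`
  have hw4 : w * n e1 = n e1 * w := by
    rw [hw3, mul_assoc, ← (hP _ hm1).eq]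
  have hu1 : om e1 u = 0 := by
    rcases z2 (om e1 u) with h1 | h1
    · exact h1
    · exfalso
      have h2 := hm3 u
      rw [tv_of_one h1, hu, ← hw4, mul_inv_cancel_right, ← hu] at h2
      have h3 := h.inj h2
      exact es_ne e1 he1 (left_eq_add.1 h3)
  have h5 := step2 h (es_ne e1 he1) (hJf e1 (es_ne e1 he1)) hu1
  have h6 : n e1 * n e1 = 1 := by
    refine (hJf e1 (es_ne e1 he1)).ctr _ hm1 fun y hy => ?_
    have h7 := h5 y hy
    rw [hu, hw3, mul_assoc, ← (hP y hy).eq, ← mul_assoc, ← mul_assoc] at h7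
    exact mul_right_cancel h7
  rw [hm2] at h6
  exact es_ne e1 he1 ((h.eq_one_iff e1).1 h6)

end

end Cfsg.Agent.H785.SpLong
end

-- part: H785/SpSL
section
/-!
# Long involutions: the facts on `SL₂(q)` (helper785)

* `exists_ker` : an action of the symplectic space `V` of order 64 on `SL₂(q)`, `q` odd, has a kernel of order greater than 2;
* `lg_of_sl` : `Lg j J` for `J ≅ SL₂(q)` normalised by `C(j)`, `j ∈ J`.
-/

set_option autoImplicit false
set_option linter.unusedSectionVars false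

namespace Cfsg.Agent.H785.SpSL

open Subgroup Cfsg.Agent.H336.SpSix Cfsg.Agent.H785.SpLong
open Cfsg.Agent.Cit.QModSL Cfsg.Agent.Classification.QDW.TypeHom

local notation "SL2" => Matrix.SpecialLinearGroup (Fin 2)

variable {F : Type*} [Field F] [Fintype F]

theorem sl_center (hF : Odd (Fintype.card F)) {s : SL2 F} (h : ∀ x, s * x = x * s) : s = 1 ∨ s = -1 := by
  have h1 : s ∈ center (SL2 F) := by
    rw [Subgroup.mem_center_iff]
    exact fun x => (h x).symm
  rw [TwoFusion.QuatCoverSL.center_eq_zpowers hF] at h1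
  obtain ⟨i, hi⟩ := h1
  have hi' : (-1 : SL2 F) ^ i = s := hi
  rcases Int.even_or_odd i with h4 | h4
  · left; rw [← hi', Even.neg_one_zpow h4]
  · right; rw [← hi', Odd.neg_one_zpow h4]

theorem sl_sq (hF : Odd (Fintype.card F)) {s : SL2 F} (h : s * s = 1) : s = 1 ∨ s = -1 := by
  by_cases h1 : s = 1
  · exact Or.inl h1
  · exact Or.inr (TwoFusion.QuatCoverSL.eq_neg_one_of_orderOf_two hF s (orderOf_eq_prime (by rw [pow_two, h]) h1))

/-- `Aut(F)` has at most one involution. -/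
theorem ring_unique {σ τ : F ≃+* F} (hσ : σ * σ = 1) (hτ : τ * τ = 1) (hσ1 : σ ≠ 1) (hτ1 : τ ≠ 1) : σ = τ := by
  classical
  have : IsCyclic (F ≃+* F) := Cfsg.Agent.LieRecognition.FieldSemilinear.isCyclic_ringAut F
  have : Finite (F ≃+* F) := DFunLike.finite _
  let _ := Fintype.ofFinite (F ≃+* F)
  by_contra hne
  have h1 := IsCyclic.card_pow_eq_one_le (α := F ≃+* F) (n := 2) (by norm_num)
  have h3 : ({1, σ, τ} : Finset (F ≃+* F)) ⊆ Finset.univ.filter (fun a => a ^ 2 = 1) := by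
    intro x hx
    simp only [Finset.mem_insert, Finset.mem_singleton] at hx
    rw [Finset.mem_filter]
    refine ⟨Finset.mem_univ _, ?_⟩
    rcases hx with rfl | rfl | rfl
    · exact one_pow _
    · rw [sq, hσ]
    · rw [sq, hτ]
  have h4 := Finset.card_le_card h3
  have h5 : ({1, σ, τ} : Finset (F ≃+* F)).card = 3 := by
    rw [Finset.card_insert_of_notMem, Finset.card_insert_of_notMem, Finset.card_singleton]
    · rw [Finset.mem_singleton]; exact hne
    · simp only [Finset.mem_insert, Finset.mem_singleton, not_or]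
      exact ⟨hσ1.symm, hτ1.symm⟩
  omega

/-- a multiple of a vector -/
def bm (b : Bool) (v : V) : V := if b then v else 0

/-- two inner automorphisms: the commuting case -/
theorem conj_cases (hF : Odd (Fintype.card F)) {s t : SL2 F} (hs : s * s = -1) (ht : t * t = -1 ∨ t = 1 ∨ t = -1)
    (hst : s * t = t * s) : (∀ x, t * x * t⁻¹ = x) ∨ ∀ x, t * x * t⁻¹ = s * x * s⁻¹ := by
  have hneg : ∀ x : SL2 F, -1 * x = x * -1 := fun x => by rw [neg_one_mul, mul_neg_one]
  rcases ht with ht | rfl | rfl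
  · right
    have h1 : (s * t) * (s * t) = 1 := by
      calc (s * t) * (s * t) = s * (t * s) * t := by group
        _ = s * (s * t) * t := by rw [hst]
        _ = (s * s) * (t * t) := by group
        _ = 1 := by rw [hs, ht]; simp
    have h2 : s⁻¹ = -s := by
      rw [inv_eq_iff_mul_eq_one, mul_neg, hs]; simp
    rcases sl_sq hF h1 with h3 | h3
    · have h4 : t = -s := by rw [← h2]; exact eq_inv_of_mul_eq_one_right h3
      intro x
      rw [h4]
      have h5 : (-s)⁻¹ = -s⁻¹ := by rw [inv_eq_iff_mul_eq_one]; simp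
      rw [h5]; simp
    · have h4 : t = s := by
        have h5 : s * t = s * s := by rw [h3, hs]
        exact mul_left_cancel h5
      intro x
      rw [h4]
  · left; intro x; simp
  · left
    intro x
    rw [hneg, mul_inv_cancel_right]

theorem exists_ker (hF : Odd (Fintype.card F)) (Φ : V → MulAut (SL2 F)) (hΦ : ∀ u v, Φ (u + v) = Φ u * Φ v) (a : V) :
    ∃ c, c ≠ 0 ∧ c ≠ a ∧ Φ c = 1 := by
  classical
  have h0 : Φ 0 = 1 := by
    have := hΦ 0 0
    rw [add_zero] at this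
    exact left_eq_mul.mp this
  have hsq : ∀ u, Φ u * Φ u = 1 := fun u => by rw [← hΦ, v_add_self, h0]
  -- the field type
  obtain ⟨t, ht⟩ : ∃ t : V, ∀ v, ∃ b : Bool, typ (Φ (v + bm b t)) = 1 := by
    by_cases h1 : ∀ v, typ (Φ v) = 1
    · exact ⟨0, fun v => ⟨false, by rw [bm, if_neg (by simp), add_zero]; exact h1 v⟩⟩
    push Not at h1
    obtain ⟨t, ht⟩ := h1
    refine ⟨t, fun v => ?_⟩
    by_cases h2 : typ (Φ v) = 1
    · exact ⟨false, by rw [bm, if_neg (by simp), add_zero]; exact h2⟩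
    · refine ⟨true, ?_⟩
      have hs : ∀ u, typ (Φ u) * typ (Φ u) = 1 := fun u => by rw [← map_mul, hsq, map_one]
      rw [bm, if_pos rfl, hΦ, map_mul, ring_unique (hs v) (hs t) h2 ht, hs]
  -- the outer diagonal automorphisms
  obtain ⟨o, ho⟩ : ∃ o : V, ∀ v, typ (Φ v) = 1 → ∃ b : Bool, Inn (Φ (v + bm b o)) := by
    by_cases h1 : ∀ v, typ (Φ v) = 1 → Inn (Φ v)
    · exact ⟨0, fun v hv => ⟨false, by rw [bm, if_neg (by simp), add_zero]; exact h1 v hv⟩⟩
    push Not at h1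
    obtain ⟨o, ho1, ho2⟩ := h1
    refine ⟨o, fun v hv => ?_⟩
    by_cases h2 : Inn (Φ v)
    · exact ⟨false, by rw [bm, if_neg (by simp), add_zero]; exact h2⟩
    · exact ⟨true, by rw [bm, if_pos rfl, hΦ]; exact inner_mul hF hv ho1 h2 ho2⟩
  -- the inner automorphisms
  have hin : ∀ v, Inn (Φ v) → ∃ s : SL2 F, (∀ x, Φ v x = s * x * s⁻¹) ∧ (s * s = -1 ∨ s = 1 ∨ s = -1) := by
    rintro v ⟨s, hs⟩
    refine ⟨s, hs, ?_⟩
    have h1 : ∀ x, s * s * x = x * (s * s) := by
      intro x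
      have h2 : (Φ v * Φ v) x = x := by rw [hsq]; rfl
      rw [MulAut.mul_apply, hs, hs] at h2
      have h3 : s * (s * x * s⁻¹) * s⁻¹ = s * s * x * (s * s)⁻¹ := by group
      rw [h3] at h2
      exact mul_inv_eq_iff_eq_mul.1 h2
    rcases sl_center hF h1 with h2 | h2
    · exact Or.inr (sl_sq hF h2)
    · exact Or.inl h2
  have hcs : ∀ v, Inn (Φ v) → Φ v ≠ 1 → ∃ s : SL2 F, (∀ x, Φ v x = s * x * s⁻¹) ∧ s * s = -1 := by
    intro v hv h1
    obtain ⟨s, hs, h2⟩ := hin v hv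
    refine ⟨s, hs, h2.resolve_right ?_⟩
    rintro (rfl | rfl)
    · exact h1 (MulEquiv.ext fun x => by rw [hs]; simp)
    · exact h1 (MulEquiv.ext fun x => by
        rw [hs]
        rw [neg_one_mul, neg_mul]
        show -(x * (-1)⁻¹) = x
        rw [show ((-1 : SL2 F))⁻¹ = -1 by rw [inv_eq_iff_mul_eq_one]; simp]
        simp)
  obtain ⟨x, y, hxy⟩ : ∃ x y : V, ∀ v, Inn (Φ v) → ∃ b c : Bool, Φ (v + bm b x + bm c y) = 1 := by
    by_cases h1 : ∀ v, Inn (Φ v) → Φ v = 1
    · exact ⟨0, 0, fun v hv => ⟨false, false, by simp only [bm, if_neg Bool.false_ne_true, add_zero]; exact h1 v hv⟩⟩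
    push Not at h1
    obtain ⟨x, hx1, hx2⟩ := h1
    obtain ⟨s, hs, hs2⟩ := hcs x hx1 hx2
    -- the commuting case
    have key : ∀ v, (∃ t : SL2 F, (∀ z, Φ v z = t * z * t⁻¹) ∧ (t * t = -1 ∨ t = 1 ∨ t = -1) ∧ s * t = t * s) →
        ∃ b : Bool, Φ (v + bm b x) = 1 := by
      rintro v ⟨t, ht1, ht2, ht3⟩
      rcases conj_cases hF hs2 ht2 ht3 with h2 | h2
      · refine ⟨false, ?_⟩
        rw [bm, if_neg (by simp), add_zero]
        exact MulEquiv.ext fun z => by rw [ht1, h2]; rfl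
      · refine ⟨true, ?_⟩
        rw [bm, if_pos rfl, hΦ]
        have h3 : Φ v = Φ x := MulEquiv.ext fun z => by rw [ht1, h2, hs]
        rw [h3, hsq]
    by_cases h2 : ∀ v, Inn (Φ v) → ∀ t : SL2 F, (∀ z, Φ v z = t * z * t⁻¹) → s * t = t * s
    · refine ⟨x, 0, fun v hv => ?_⟩
      obtain ⟨t, ht1, ht2⟩ := hin v hv
      obtain ⟨b, hb⟩ := key v ⟨t, ht1, ht2, h2 v hv t ht1⟩
      exact ⟨b, false, by rw [bm, bm, if_neg (by simp : ¬ (false = true)), add_zero]; exact hb⟩
    push Not at h2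
    obtain ⟨y, hy, u, hu, hsu⟩ := h2
    -- anticommuting elements
    have hanti : ∀ v (t : SL2 F), (∀ z, Φ v z = t * z * t⁻¹) → s * t = t * s ∨ s * t = -1 * (t * s) := by
      intro v t ht
      have h3 : ∀ z, (t⁻¹ * s⁻¹ * t * s) * z = z * (t⁻¹ * s⁻¹ * t * s) := by
        intro z
        have h4 : (Φ v * Φ x) z = (Φ x * Φ v) z := by rw [← hΦ, ← hΦ, add_comm]
        rw [MulAut.mul_apply, MulAut.mul_apply, hs, hs, ht, ht] at h4
        have h5 : (t⁻¹ * s⁻¹ * t * s) * z * (t⁻¹ * s⁻¹ * t * s)⁻¹ =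
            t⁻¹ * s⁻¹ * (t * (s * z * s⁻¹) * t⁻¹) * s * t := by group
        rw [h4] at h5
        have h6 : t⁻¹ * s⁻¹ * (s * (t * z * t⁻¹) * s⁻¹) * s * t = z := by group
        rw [h6] at h5
        exact mul_inv_eq_iff_eq_mul.1 h5
      have h7 : t * s = s * t * (t⁻¹ * s⁻¹ * t * s) := by group
      rcases sl_center hF h3 with h4 | h4
      · left
        rw [h4, mul_one] at h7
        exact h7.symm
      · right
        rw [h4] at h7
        rw [h7]; simp
    have hsu' := (hanti y u hu).resolve_left hsu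
    refine ⟨x, y, fun v hv => ?_⟩
    obtain ⟨t, ht1, ht2⟩ := hin v hv
    rcases hanti v t ht1 with h3 | h3
    · obtain ⟨b, hb⟩ := key v ⟨t, ht1, ht2, h3⟩
      exact ⟨b, false, by rw [bm, bm, if_neg (by simp : ¬ (false = true)), add_zero]; exact hb⟩
    · have h4 : ∀ z, Φ (v + y) z = (t * u) * z * (t * u)⁻¹ := by
        intro z
        rw [hΦ, MulAut.mul_apply, ht1, hu]; group
      have h5 : Inn (Φ (v + y)) := ⟨t * u, h4⟩
      have h6 : s * (t * u) = (t * u) * s := by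
        calc s * (t * u) = (s * t) * u := by group
          _ = -1 * (t * s) * u := by rw [h3]
          _ = -1 * t * (s * u) := by group
          _ = -1 * t * (-1 * (u * s)) := by rw [hsu']
          _ = (t * u) * s := by simp [mul_assoc]
      obtain ⟨t', ht1', ht2'⟩ := hin _ h5
      -- `t' = ± t u`
      have h7 : (t * u) * (t * u) = -1 ∨ t * u = 1 ∨ t * u = -1 := by
        have h8 : ∀ z, (t * u) * (t * u) * z = z * ((t * u) * (t * u)) := by
          intro z
          have h9 : (Φ (v + y) * Φ (v + y)) z = z := by rw [hsq]; rfl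
          rw [MulAut.mul_apply, h4, h4] at h9
          have h10 : (t * u) * ((t * u) * z * (t * u)⁻¹) * (t * u)⁻¹ = (t * u) * (t * u) * z * ((t * u) * (t * u))⁻¹ := by
            group
          rw [h10] at h9
          exact mul_inv_eq_iff_eq_mul.1 h9
        rcases sl_center hF h8 with h9 | h9
        · exact Or.inr (sl_sq hF h9)
        · exact Or.inl h9
      obtain ⟨b, hb⟩ := key (v + y) ⟨t * u, h4, h7, h6⟩
      refine ⟨b, true, ?_⟩
      have h8 : v + bm b x + bm true y = v + y + bm b x := by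
        rw [bm, bm, if_pos rfl]; abel
      rw [h8]
      exact hb
  -- the code
  have hcode : ∀ v, ∃ c : Bool × Bool × Bool × Bool, Φ (v + (bm c.1 t + bm c.2.1 o + bm c.2.2.1 x + bm c.2.2.2 y)) = 1 := by
    intro v
    obtain ⟨b1, h1⟩ := ht v
    obtain ⟨b2, h2⟩ := ho _ h1
    obtain ⟨b3, b4, h3⟩ := hxy _ h2
    refine ⟨(b1, b2, b3, b4), ?_⟩
    rw [← h3]
    congr 1
    simp only
    abel
  choose code hc using hcode
  obtain ⟨k, -, hk⟩ := Finset.exists_lt_card_fiber_of_mul_lt_card_of_maps_to (s := (Finset.univ : Finset V))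
    (t := (Finset.univ : Finset (Bool × Bool × Bool × Bool))) (f := code) (n := 3) (fun _ _ => Finset.mem_univ _)
    (by rw [Finset.card_univ, Finset.card_univ]; simp [V])
  obtain ⟨v0, hv0⟩ : (Finset.univ.filter fun v => code v = k).Nonempty := Finset.card_pos.1 (by omega)
  obtain ⟨v1, hv1, hv1'⟩ := Finset.exists_mem_notMem_of_card_lt_card
    (s := ({v0, v0 + a} : Finset V)) (t := Finset.univ.filter fun v => code v = k)
    (lt_of_le_of_lt (Finset.card_le_two) (by omega))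
  rw [Finset.mem_filter] at hv0 hv1
  rw [Finset.mem_insert, Finset.mem_singleton, not_or] at hv1'
  refine ⟨v0 + v1, ?_, ?_, ?_⟩
  · intro h1
    exact hv1'.1 ((add_eq_zero_iff _ _).1 h1).symm
  · intro h1
    apply hv1'.2
    rw [← h1, self_add_add]
  · have h1 := hc v0
    have h2 := hc v1
    rw [hv0.2] at h1
    rw [hv1.2] at h2
    set L := bm k.1 t + bm k.2.1 o + bm k.2.2.1 x + bm k.2.2.2 y
    have h3 : v0 + v1 = (v0 + L) + (v1 + L) := by
      have h4 : (v0 + L) + (v1 + L) = v0 + v1 + (L + L) := by abel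
      rw [h4, v_add_self, add_zero]
    rw [h3, hΦ, h1, h2, one_mul]

end Cfsg.Agent.H785.SpSL
end

-- part: H785/SpOdd
section
/-!
# The centraliser of a long involution in a group with a root group datum (helper785)

* `not_two_dvd_index` : the index of the centraliser is odd;
* `nrm_of_rgd` : the centraliser normalises the long root `SL₂`;
* `sum_tab_eq` : the sum over `W` is the sum over `W_K` times the sum over the table.
-/

set_option autoImplicit false
set_option linter.unusedSectionVars false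

namespace Cfsg.Agent.H785.SpOdd

open CoxeterSystem Cfsg.Agent.ChevalleyStructure.CoxeterGeom Cfsg.Agent.Tits.Roots Cfsg.Agent.Tits.Core
  Cfsg.Agent.Tits.Exchange Cfsg.Agent.Nodes.Reps Cfsg.Agent.Nodes.BNOf Cfsg.Agent.Nodes.StabComb
  Cfsg.Agent.Nodes.Bruhat Cfsg.Agent.Nodes.LeviDec Cfsg.Agent.Nodes.NormalForm Cfsg.Agent.Nodes.CardSup
  Cfsg.Agent.OddHalf.LongSL Cfsg.Agent.H612.WModel Cfsg.Agent.H81.PJSum Cfsg.Agent.H81.PJTab

theorem card_sup_mul_inf {G : Type*} [Group G] [Finite G] {K H : Subgroup G}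
    (h : H ≤ Subgroup.normalizer (K : Set G)) :
    Nat.card (H ⊔ K : Subgroup G) * Nat.card (H ⊓ K : Subgroup G) = Nat.card H * Nat.card K := by
  have hKn : (K.subgroupOf (K ⊔ H)).Normal :=
    Subgroup.normal_subgroupOf_of_le_normalizer (sup_le Subgroup.le_normalizer h)
  have h1 := Subgroup.relIndex_sup_left (H.subgroupOf (K ⊔ H)) (K.subgroupOf (K ⊔ H))
  rw [← Subgroup.subgroupOf_sup le_sup_left le_sup_right, Subgroup.subgroupOf_self,
    Subgroup.relIndex_subgroupOf le_sup_right, Subgroup.relIndex_top_right] at h1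
  have h2 : Nat.card K * K.relIndex H = Nat.card (K ⊔ H : Subgroup G) := by
    rw [← h1, Subgroup.index_eq_card, ← Subgroup.card_mul_index (K.subgroupOf (K ⊔ H)), Subgroup.index_eq_card,
      Nat.card_congr (Subgroup.subgroupOfEquivOfLe (le_sup_left : K ≤ K ⊔ H)).toEquiv]
  have h3 : Nat.card (H ⊓ K : Subgroup G) * K.relIndex H = Nat.card H := by
    have h4 := Subgroup.card_mul_index (K.subgroupOf H)
    have h5 : Nat.card (K.subgroupOf H) = Nat.card (H ⊓ K : Subgroup G) := by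
      rw [← Subgroup.inf_subgroupOf_left]
      exact Nat.card_congr (Subgroup.subgroupOfEquivOfLe inf_le_left).toEquiv
    rw [h5] at h4
    exact h4
  rw [sup_comm, ← h2, ← h3]
  ring

section Gen

variable {I W Y : Type*} [Fintype I] [DecidableEq I] [Group W] [Group Y] {M : CoxeterMatrix I}
  {cs : CoxeterSystem M W} {A : I → I → ℤ} {h : IsCartan M A} {p : ℕ} {T : Subgroup Y} {n : I → Y}
  {X : (I → ℤ) → Subgroup Y} (R : RGD cs h p T n X)

include R

theorem T_nrm_X {x : I → ℤ} (hx : IsRoot cs h x) {t : Y} (ht : t ∈ T) : cj t (X x) = X x := by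
  have h1 := R.conj_rp (rp_of_mem (cs := cs) (hN := R.nsys) ht) hx
  rwa [map_one, Module.End.one_apply] at h1

/-- **The index of the centraliser is odd.** -/
theorem not_two_dvd_index [Finite W] [Finite Y] [hp : Fact p.Prime] (hp2 : p ≠ 2) {J : Set I} {b : I → ℤ}
    (hb : IsRoot cs h b) (hfix : ∀ j ∈ J, rep cs h (cs.simple j) b = b)
    (hcomm : ∀ j ∈ J, ∀ u ∈ X (sr j), ∀ v ∈ X b ⊔ X (-b), u * v = v * u) {q M' : ℕ} (hM : Odd M')
    (hN : Nat.card Y = Nat.card ↥(PJ cs h T X J) * ((q + 1) * M'))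
    (hcard : ∀ H : Subgroup Y, H ≤ X b ⊔ X (-b) → H ≤ Subgroup.normalizer (X b : Set Y) →
      ∃ c, c * (q + 1) * Nat.card H = Nat.card ↥(X b ⊔ X (-b)))
    {z : Y} (hzT : ∀ t ∈ T, t * z = z * t) (hz : z ∈ X b ⊔ X (-b)) (hzc : ∀ v ∈ X b ⊔ X (-b), v * z = z * v) :
    ¬ 2 ∣ (Subgroup.centralizer ({z} : Set Y)).index := by
  have hL1 : RGD.Sup X (RootsJ cs h J) ≤ Subgroup.centralizer ((X b ⊔ X (-b) : Subgroup Y) : Set Y) := by
    refine RGD.Sup_le fun x hx => ?_
    obtain ⟨v, hv, j, hj, rfl⟩ := exists_of_mem_RootsJ hx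
    have hvb : rep cs h v b = b := by
      refine Subgroup.closure_induction (p := fun v _ => rep cs h v b = b) ?_ ?_ ?_ ?_ hv
      · rintro _ ⟨j, hj, rfl⟩
        exact hfix j hj
      · rw [map_one, Module.End.one_apply]
      · intro x y _ _ hx hy
        rw [rep_mul_apply, hy, hx]
      · intro x _ hx
        conv_lhs => rw [← hx]
        exact rep_inv_apply cs h x b
    obtain ⟨g, hg⟩ := exists_rp cs R.nsys v
    have h1 : cj g (X b ⊔ X (-b)) = X b ⊔ X (-b) := by
      rw [cj_sup, R.conj_rp hg hb, R.conj_rp hg hb.neg, map_neg, hvb]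
    intro u hu
    rw [← R.conj_rp hg (isRoot_sr cs h j), mem_cj] at hu
    rw [Subgroup.mem_centralizer_iff]
    intro z hz
    have h2 : g⁻¹ * z * g ∈ X b ⊔ X (-b) := by
      have hz' : z ∈ cj g (X b ⊔ X (-b)) := by rw [h1]; exact hz
      exact mem_cj.1 hz'
    have h3 := hcomm j hj _ hu _ h2
    have h4 : g * (g⁻¹ * u * g * (g⁻¹ * z * g)) * g⁻¹ = g * (g⁻¹ * z * g * (g⁻¹ * u * g)) * g⁻¹ := by rw [h3]
    have h5 : g * (g⁻¹ * u * g * (g⁻¹ * z * g)) * g⁻¹ = u * z := by group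
    have h6 : g * (g⁻¹ * z * g * (g⁻¹ * u * g)) * g⁻¹ = z * u := by group
    rw [h5, h6] at h4
    exact h4.symm
  have hL2 : LJ cs h T X J ≤ Subgroup.centralizer ({z} : Set Y) := by
    refine sup_le (fun t ht => ?_) (hL1.trans (Subgroup.centralizer_le ?_))
    · rw [Subgroup.mem_centralizer_singleton_iff]
      exact hzT t ht
    · rintro _ rfl
      exact hz
  have hTX : T ≤ Subgroup.normalizer (X b : Set Y) := fun t ht => mem_normalizer_iff_cj.2 (T_nrm_X R hb ht)
  have hTJ : T ≤ Subgroup.normalizer ((X b ⊔ X (-b) : Subgroup Y) : Set Y) := fun t ht =>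
    mem_normalizer_iff_cj.2 (by rw [cj_sup, T_nrm_X R hb ht, T_nrm_X R hb.neg ht])
  have hL3 : LJ cs h T X J ≤ Subgroup.normalizer ((X b ⊔ X (-b) : Subgroup Y) : Set Y) :=
    sup_le hTJ (hL1.trans (Subgroup.centralizer_le_normalizer _))
  have hL4 : LJ cs h T X J ≤ Subgroup.normalizer (X b : Set Y) :=
    sup_le hTX ((hL1.trans (Subgroup.centralizer_le (show ((X b : Subgroup Y) : Set Y) ⊆ _ from
      (le_sup_left : X b ≤ X b ⊔ X (-b))))).trans (Subgroup.centralizer_le_normalizer _))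
  obtain ⟨c, hc⟩ := hcard (LJ cs h T X J ⊓ (X b ⊔ X (-b))) inf_le_right (inf_le_left.trans hL4)
  have h1 := card_sup_mul_inf hL3
  rw [← hc] at h1
  have h2 : Nat.card ↥(LJ cs h T X J ⊔ (X b ⊔ X (-b))) = Nat.card ↥(LJ cs h T X J) * (c * (q + 1)) := by
    have h3 : 0 < Nat.card ↥(LJ cs h T X J ⊓ (X b ⊔ X (-b))) := Nat.card_pos
    refine Nat.eq_of_mul_eq_mul_right h3 ?_
    rw [h1]
    ring
  have h3 : LJ cs h T X J ⊔ (X b ⊔ X (-b)) ≤ Subgroup.centralizer ({z} : Set Y) := by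
    refine sup_le hL2 fun v hv => ?_
    rw [Subgroup.mem_centralizer_singleton_iff]
    exact hzc v hv
  have h4 : Nat.card ↥(LJ cs h T X J) * (q + 1) ∣ Nat.card ↥(Subgroup.centralizer ({z} : Set Y)) := by
    refine dvd_trans ?_ (Subgroup.card_dvd_of_le h3)
    rw [h2]
    exact mul_dvd_mul_left _ (Dvd.intro_left c rfl)
  have h5 : Nat.card ↥(PJ cs h T X J) ∣ Nat.card ↥(LJ cs h T X J) * Nat.card ↥(VJ cs h X J) := by
    rw [← card_sup_mul_inf (LJ_le_normalizer_VJ R J)]
    exact Dvd.intro _ rfl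
  obtain ⟨k, hk⟩ := (IsPGroup.iff_card (p := p)).1 (R.isPGroup_Upos.to_le (VJ_le_U (X := X) (cs := cs) (h := h) J))
  have h6 : Nat.card Y ∣ Nat.card ↥(Subgroup.centralizer ({z} : Set Y)) * (p ^ k * M') := by
    rw [hN]
    have h7 : Nat.card ↥(LJ cs h T X J) * (q + 1) * (p ^ k * M') =
        Nat.card ↥(LJ cs h T X J) * Nat.card ↥(VJ cs h X J) * ((q + 1) * M') := by
      rw [hk]; ring
    exact (mul_dvd_mul_right h5 _).trans (h7 ▸ mul_dvd_mul_right h4 _)
  rw [← Subgroup.card_mul_index (Subgroup.centralizer ({z} : Set Y))] at h6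
  have h7 : (Subgroup.centralizer ({z} : Set Y)).index ∣ p ^ k * M' :=
    Nat.dvd_of_mul_dvd_mul_left Nat.card_pos h6
  intro h8
  have h9 : Odd (p ^ k * M') := ((hp.out.odd_of_ne_two hp2).pow).mul hM
  exact (Nat.not_even_iff_odd.2 h9) (even_iff_two_dvd.2 (h8.trans h7))

/-- **The centraliser normalises `J`.** -/
theorem nrm_of_rgd [Finite W] (hG : GG cs h T X = ⊤) {z : Y} (hz : z ∈ T) {b : I → ℤ} (hb : IsRoot cs h b)
    (hx : ∀ x, IsRoot cs h x → x ≠ b → x ≠ -b → ∀ u ∈ ZX X z x, ∀ v ∈ JX X z b, u * v = v * u)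
    (hW : ∀ w : W, (∀ x, IsRoot cs h x → (X x ≤ Subgroup.centralizer ({z} : Set Y) ↔
      X (rep cs h w x) ≤ Subgroup.centralizer ({z} : Set Y))) → rep cs h w b = b ∨ rep cs h w b = -b) :
    ∀ g, g * z = z * g → ∀ x ∈ JX X z b, g * x * g⁻¹ ∈ JX X z b := by
  have hnorm : ∀ y, IsRoot cs h y → ZX X z y ≤ Subgroup.normalizer (JX X z b : Set Y) := by
    intro y hy
    by_cases hya : y = b
    · subst hya
      exact le_trans le_sup_left Subgroup.le_normalizer
    by_cases hya' : y = -b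
    · subst hya'
      exact le_trans le_sup_right Subgroup.le_normalizer
    · intro u hu
      have h2 : ∀ v ∈ JX X z b, u * v * u⁻¹ = v := fun v hv => by rw [hx y hy hya hya' u hu v hv]; group
      have h3 : ∀ v ∈ JX X z b, u⁻¹ * v * u = v := fun v hv => by
        have h4 := hx y hy hya hya' u hu v hv
        rw [mul_assoc, ← h4]; group
      refine Subgroup.mem_normalizer_iff.2 fun v => ⟨fun hv => by rw [h2 v hv]; exact hv, fun hv => ?_⟩
      have h5 := h3 _ hv
      have h6 : u⁻¹ * (u * v * u⁻¹) * u = v := by group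
      rw [h6] at h5
      rw [h5]; exact hv
  have hsup : RGD.Sup (fun x => X x ⊓ Subgroup.centralizer ({z} : Set Y)) (RGD.Pos cs h) ≤
      Subgroup.normalizer (JX X z b : Set Y) := RGD.Sup_le fun x hx => hnorm x hx.1
  have hjT : ({z} : Set Y) ⊆ T := by rintro _ rfl; exact hz
  intro g hg
  have hg' : g ∈ Subgroup.centralizer ({z} : Set Y) := Subgroup.mem_centralizer_singleton_iff.2 hg
  obtain ⟨u, hu, w, k, hk, hkj, v, hv, rfl⟩ := Cfsg.Agent.Nodes.NormalForm.mem_centralizer R hjT (by rw [hG]; trivial) hg'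
  have hkn : k ∈ Subgroup.normalizer (JX X z b : Set Y) := by
    rw [mem_normalizer_iff_cj, cj_JX R hk hkj hb]
    have hkc : cj k (Subgroup.centralizer ({z} : Set Y)) = Subgroup.centralizer ({z} : Set Y) :=
      mem_normalizer_iff_cj.1 (Subgroup.le_normalizer hkj)
    rcases hW w (fun x hx => by
      rw [← R.conj_rp hk hx]
      constructor
      · intro h1
        have h2 := cj_mono k h1
        rwa [hkc] at h2
      · intro h1 y hy
        have h2 : k * y * k⁻¹ ∈ Subgroup.centralizer ({z} : Set Y) := h1 (conj_mem_cj.2 hy)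
        have h3 := mul_mem (mul_mem (inv_mem hkj) h2) hkj
        have h4 : k⁻¹ * (k * y * k⁻¹) * k = y := by group
        rwa [h4] at h3) with h1 | h1
    · rw [h1]
    · rw [h1, JX_neg]
  have h1 : u * k * v ∈ Subgroup.normalizer (JX X z b : Set Y) := mul_mem (mul_mem (hsup hu) hkn) (hsup hv)
  exact fun x hx => (Subgroup.mem_normalizer_iff.1 h1 x).1 hx

end Gen

/-! ### the sum over a table -/

section Tab

variable {l : ℕ} {W Y : Type*} [Group W] [Group Y] {M : CoxeterMatrix (Fin l)}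
  {cs : CoxeterSystem M W} {A : Fin l → Fin l → ℤ} {h : IsCartan M A} {p : ℕ} {T : Subgroup Y} {n : Fin l → Y}
  {X : (Fin l → ℤ) → Subgroup Y} {Al : List (List ℤ)} {J : List (Fin l)} {l0 : List ℤ}
  {Tb : List (List ℤ × List (Fin l))}

/-- a faster check -/
def chkF (l : ℕ) (Al : List (List ℤ)) (J : List (Fin l)) (l0 : List ℤ) (Tb : List (List ℤ × List (Fin l))) : Bool :=
  Al.length == l && (Al.all fun r => r.length == l) && l0.length == l && (l0.all fun x => decide (0 ≤ x)) &&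
    ((List.finRange l).all fun i => l0.getD i 0 != 0 || J.contains i) && (Tb.map Prod.fst).contains l0 &&
    (Tb.all fun e => e == (l0, []) ||
      (match e.2.getLast? with
        | none => false
        | some j => J.contains j && Tb.any fun e' => e'.2 == e.2.dropLast && decide (0 < e'.1.getD j 0) &&
            e.1 == fireL Al e'.1 j)) &&
    (Tb.all fun e => J.all fun j => (Tb.map Prod.fst).contains (fireL Al e.1 j)) &&
    decide (Tb.map Prod.fst).Nodup

theorem ok_of_chkF (h : chkF l Al J l0 Tb = true) : Ok l Al J l0 Tb := by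
  unfold chkF at h
  simp only [Bool.and_eq_true, List.all_eq_true, beq_iff_eq, decide_eq_true_eq, Bool.or_eq_true, bne_iff_ne,
    List.contains_iff_mem, List.mem_finRange, forall_true_left] at h
  obtain ⟨⟨⟨⟨⟨⟨⟨⟨h1, h2⟩, h3⟩, h4⟩, h5⟩, h6⟩, h7⟩, h8⟩, h9⟩ := h
  refine ⟨h1, h2, h3, h4, fun i hi => ?_, ?_, fun e he => ?_, fun e he j hj => ?_, h9⟩
  · exact (h5 i).resolve_left fun h => h hi
  · obtain ⟨e, he, h⟩ := List.mem_map.1 h6
    exact ⟨e, he, h⟩
  · rcases h7 e he with h | h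
    · exact Or.inl h
    · right
      cases hl : e.2.getLast? with
      | none => rw [hl] at h; exact absurd h (by simp)
      | some j =>
        rw [hl] at h
        simp only [Bool.and_eq_true, List.contains_iff_mem, List.any_eq_true, beq_iff_eq, decide_eq_true_eq] at h
        obtain ⟨hj, e', he', ⟨ha, hb⟩, hc⟩ := h
        refine ⟨e', he', j, hj, ?_, hb, hc⟩
        rw [ha]
        have hne : e.2 ≠ [] := by
          intro h0
          rw [h0] at hl
          simp at hl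
        rw [List.getLast?_eq_some_getLast hne, Option.some.injEq] at hl
        rw [← hl]
        exact (List.dropLast_concat_getLast hne).symm
  · obtain ⟨e', he', h⟩ := List.mem_map.1 (h8 e he j hj)
    exact ⟨e', he', h⟩

/-- **The sum over `W_J` is the sum over `W_K` times the sum over the table.** -/
theorem sum_tab_eq (R : RGD cs h p T n X) [Finite W] (hA : ∀ i j : Fin l, (Al.getD i []).getD j 0 = A i j)
    (O : Ok l Al J l0 Tb) [Fintype ↥(WJ cs {j | j ∈ J})] [Fintype ↥(WJ cs {i | toF l l0 i = 0})] :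
    ∑ w : ↥(WJ cs {j | j ∈ J}), Nat.card ↥(RGD.Sup X (NW cs h (w : W))) =
      (∑ w : ↥(WJ cs {i | toF l l0 i = 0}), Nat.card ↥(RGD.Sup X (NW cs h (w : W)))) *
        (Tb.map fun e => (e.2.map fun i => Nat.card ↥(X (sr i))).prod).sum := by
  classical
  have h0 : ∀ i, 0 ≤ toF l l0 i := by
    intro i
    unfold toF
    have h1 : (i : ℕ) < l0.length := by rw [O.len0]; exact i.2
    rw [List.getD_eq_getElem _ _ h1]
    exact O.nn _ (List.getElem_mem _)
  have hsp := fun e he => O.spec (cs := cs) (h := h) hA e.2.length e he rfl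
  have key := sum_eq R (ι := Fin Tb.length) (fun a => cs.wordProd (Tb.get a).2) (l := toF l l0) (J := {j | j ∈ J}) h0
    (fun i hi => O.zero i hi) (fun a => (hsp _ (List.get_mem _ _)).2.1) (fun a => (hsp _ (List.get_mem _ _)).2.2.1)
    (fun a b hab => ?_) (fun w hw => ?_)
  · unfold f at key
    rw [key]
    have h2 : ∑ a : Fin Tb.length, Nat.card ↥(RGD.Sup X (NW cs h (cs.wordProd (Tb.get a).2))) =
        (Tb.map fun e => (e.2.map fun i => Nat.card ↥(X (sr i))).prod).sum := by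
      rw [← Fin.sum_univ_fun_getElem]
      refine Finset.sum_congr rfl fun a _ => ?_
      exact card_word R (hsp _ (List.get_mem _ _)).2.2.2
    rw [h2]
  · have h1 : toF l (Tb.get a).1 = toF l (Tb.get b).1 := by
      rw [← (hsp _ (List.get_mem _ _)).1, ← (hsp _ (List.get_mem _ _)).1]
      exact hab
    have h2 := toF_inj (O.len_tab _ _ (List.get_mem _ _) rfl) (O.len_tab _ _ (List.get_mem _ _) rfl) h1
    have h3 := List.nodup_iff_injective_get.1 O.nodup
    have h4 : (Tb.map Prod.fst).get ⟨a, by rw [List.length_map]; exact a.2⟩ =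
        (Tb.map Prod.fst).get ⟨b, by rw [List.length_map]; exact b.2⟩ := by
      simp only [List.get_eq_getElem, List.getElem_map]
      exact h2
    have h5 := h3 h4
    rw [Fin.mk.injEq] at h5
    exact Fin.ext h5
  · -- every functional of the orbit is in the table
    obtain ⟨e0, he0, hb0⟩ := O.base
    have hex : ∃ e ∈ Tb, fl cs h (toF l l0) w = toF l e.1 := by
      obtain ⟨ω, hω, rfl⟩ := exists_word_of_mem_WJ cs hw
      clear hw
      induction ω using List.reverseRecOn with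
      | nil =>
        refine ⟨e0, he0, ?_⟩
        rw [wordProd_nil, fl_one, hb0]
      | append_singleton ω j ih =>
        obtain ⟨e, he, h1⟩ := ih (fun i hi => hω i (List.mem_append_left _ hi))
        have hj : j ∈ J := hω j (by simp)
        obtain ⟨e', he', h2⟩ := O.cl e he j hj
        refine ⟨e', he', ?_⟩
        rw [wordProd_append, wordProd_singleton, fl_mul_simple, h1, h2,
          O.toF_fire hA (O.len_tab _ e he rfl)]
    obtain ⟨e, he, h1⟩ := hex
    obtain ⟨a, rfl⟩ := List.mem_iff_get.1 he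
    exact ⟨a, by rw [h1]; exact ((hsp _ (List.get_mem _ _)).1).symm⟩

end Tab

end Cfsg.Agent.H785.SpOdd
end

-- part: H785/SpE7Tab
section
/-!
# The long involutions of `E₇(q)`, `q` odd (helper785)

* `long_data` : the data of a long root `SL₂` of a Chevalley group;
* `tabE7`, `tabE7_ok`, `tabE7_sum` : the table of the minimal coset representatives of `W(E₇) / W(D₆)`;
* `chkIso` : the check which shows that the centraliser of the long involution normalises `SL₂`.
-/

set_option autoImplicit false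
set_option linter.unusedSectionVars false

namespace Cfsg.Agent.H785.SpE7

open CoxeterSystem Cfsg.Agent.ChevalleyStructure.CoxeterGeom Cfsg.Agent.Tits.Roots Cfsg.Agent.Tits.Core
  Cfsg.Agent.Tits.Exchange Cfsg.Agent.Nodes.Reps Cfsg.Agent.Nodes.BNOf Cfsg.Agent.Nodes.StabComb
  Cfsg.Agent.Nodes.Bruhat Cfsg.Agent.Nodes.LeviDec Cfsg.Agent.Nodes.NormalForm Cfsg.Agent.Nodes.CardSup
open Cfsg Cfsg.Lie Cfsg.Lie.ChevalleyDatum
open Cfsg.Agent.ChevalleyStructure Cfsg.Agent.ChevalleyStructure.Elts Cfsg.Agent.ChevalleyStructure.NPerm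
  Cfsg.Agent.ChevalleyStructure.CoxeterGeomTypes Cfsg.Agent.ChevalleyStructure.RootVecTab
open Cfsg.Agent.Nodes.RGDChev Cfsg.Agent.OddHalf.LongSL Cfsg.Agent.OddHalf.LongSL.Chev
open Cfsg.Agent.KFacts.RgdChevCoord (TT XX)
open Cfsg.Agent.H81.PJTab Cfsg.Agent.H785.SpOdd

/-! ### the table -/

/-- the Cartan matrix of type `E₇` -/
def aE7 : List (List ℤ) :=
  [[2, 0, -1, 0, 0, 0, 0], [0, 2, 0, -1, 0, 0, 0], [-1, 0, 2, -1, 0, 0, 0], [0, -1, -1, 2, -1, 0, 0],
   [0, 0, 0, -1, 2, -1, 0], [0, 0, 0, 0, -1, 2, -1], [0, 0, 0, 0, 0, -1, 2]]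

private noncomputable def _root_.Cfsg.Agent.LsF.fb3e89c_3 : {f // @Cfsg.Lie.ChevalleyDatum.cartan = f} := ⟨_, by first | (delta Cfsg.Lie.ChevalleyDatum.cartan; rewrite [Cfsg.Agent.LsF.agetD_eq]; exact rfl) | exact rfl⟩
private noncomputable def _root_.Cfsg.Agent.LsF.fb3e89c_4 : {f // @Cfsg.Lie.ChevalleyDatum.simple = f} := ⟨_, by first | (delta Cfsg.Lie.ChevalleyDatum.simple; rewrite [Cfsg.Agent.LsF.agetD_eq]; exact rfl) | exact rfl⟩
private noncomputable def _root_.Cfsg.Agent.LsF.fb3e89c_5 : {f // @Cfsg.Agent.ChevalleyStructure.CoxeterGeomTypes.cartanOf = f} := ⟨_, by first | (delta Cfsg.Agent.ChevalleyStructure.CoxeterGeomTypes.cartanOf; rewrite [Cfsg.Agent.LsF.fb3e89c_3.2, Cfsg.Agent.LsF.fb3e89c_4.2]; exact rfl) | exact rfl⟩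
theorem aE7_ok : ∀ i j : Fin 7, (aE7.getD i []).getD j 0 = cartanOf chevE7 7 i j := by (refine of_decide_eq_true ?_; (try (rewrite [Cfsg.Agent.LsF.fb3e89c_5.2, Cfsg.Agent.LsF.getD_eq, Cfsg.Agent.LsF.instIDecEq_eq, Cfsg.Agent.LsF.dForallFin_eq, Cfsg.Agent.LsF.decide_eq])); decide +kernel)

def tab0 : List (List ℤ × List (Fin 7)) :=
  [([1, 0, 0, 0, 0, 0, 0], []),
   ([-1, 0, 1, 0, 0, 0, 0], [0]),
   ([0, 0, -1, 1, 0, 0, 0], [0, 2]),
   ([0, 1, 0, -1, 1, 0, 0], [0, 2, 3]),
   ([0, -1, 0, 0, 1, 0, 0], [0, 2, 3, 1]),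
   ([0, 1, 0, 0, -1, 1, 0], [0, 2, 3, 4]),
   ([0, -1, 0, 1, -1, 1, 0], [0, 2, 3, 1, 4]),
   ([0, 1, 0, 0, 0, -1, 1], [0, 2, 3, 4, 5]),
   ([0, 0, 1, -1, 0, 1, 0], [0, 2, 3, 1, 4, 3]),
   ([0, -1, 0, 1, 0, -1, 1], [0, 2, 3, 1, 4, 5]),
   ([0, 1, 0, 0, 0, 0, -1], [0, 2, 3, 4, 5, 6]),
   ([1, 0, -1, 0, 0, 1, 0], [0, 2, 3, 1, 4, 3, 2]),
   ([0, 0, 1, -1, 1, -1, 1], [0, 2, 3, 1, 4, 3, 5]),
   ([0, -1, 0, 1, 0, 0, -1], [0, 2, 3, 1, 4, 5, 6]),
   ([-1, 0, 0, 0, 0, 1, 0], [0, 2, 3, 1, 4, 3, 2, 0]),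
   ([1, 0, -1, 0, 1, -1, 1], [0, 2, 3, 1, 4, 3, 2, 5]),
   ([0, 0, 1, 0, -1, 0, 1], [0, 2, 3, 1, 4, 3, 5, 4]),
   ([0, 0, 1, -1, 1, 0, -1], [0, 2, 3, 1, 4, 3, 5, 6])]

def tab1 : List (List ℤ × List (Fin 7)) :=
  [([-1, 0, 0, 0, 1, -1, 1], [0, 2, 3, 1, 4, 3, 2, 0, 5]),
   ([1, 0, -1, 1, -1, 0, 1], [0, 2, 3, 1, 4, 3, 2, 5, 4]),
   ([1, 0, -1, 0, 1, 0, -1], [0, 2, 3, 1, 4, 3, 2, 5, 6]),
   ([0, 0, 1, 0, -1, 1, -1], [0, 2, 3, 1, 4, 3, 5, 4, 6]),
   ([-1, 0, 0, 1, -1, 0, 1], [0, 2, 3, 1, 4, 3, 2, 0, 5, 4]),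
   ([-1, 0, 0, 0, 1, 0, -1], [0, 2, 3, 1, 4, 3, 2, 0, 5, 6]),
   ([1, 1, 0, -1, 0, 0, 1], [0, 2, 3, 1, 4, 3, 2, 5, 4, 3]),
   ([1, 0, -1, 1, -1, 1, -1], [0, 2, 3, 1, 4, 3, 2, 5, 4, 6]),
   ([0, 0, 1, 0, 0, -1, 0], [0, 2, 3, 1, 4, 3, 5, 4, 6, 5]),
   ([-1, 1, 1, -1, 0, 0, 1], [0, 2, 3, 1, 4, 3, 2, 0, 5, 4, 3]),
   ([-1, 0, 0, 1, -1, 1, -1], [0, 2, 3, 1, 4, 3, 2, 0, 5, 4, 6]),
   ([1, -1, 0, 0, 0, 0, 1], [0, 2, 3, 1, 4, 3, 2, 5, 4, 3, 1]),
   ([1, 1, 0, -1, 0, 1, -1], [0, 2, 3, 1, 4, 3, 2, 5, 4, 3, 6]),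
   ([1, 0, -1, 1, 0, -1, 0], [0, 2, 3, 1, 4, 3, 2, 5, 4, 6, 5]),
   ([-1, -1, 1, 0, 0, 0, 1], [0, 2, 3, 1, 4, 3, 2, 0, 5, 4, 3, 1]),
   ([0, 1, -1, 0, 0, 0, 1], [0, 2, 3, 1, 4, 3, 2, 0, 5, 4, 3, 2]),
   ([-1, 1, 1, -1, 0, 1, -1], [0, 2, 3, 1, 4, 3, 2, 0, 5, 4, 3, 6]),
   ([-1, 0, 0, 1, 0, -1, 0], [0, 2, 3, 1, 4, 3, 2, 0, 5, 4, 6, 5])]

def tab2 : List (List ℤ × List (Fin 7)) :=
  [([1, -1, 0, 0, 0, 1, -1], [0, 2, 3, 1, 4, 3, 2, 5, 4, 3, 1, 6]),
   ([1, 1, 0, -1, 1, -1, 0], [0, 2, 3, 1, 4, 3, 2, 5, 4, 3, 6, 5]),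
   ([0, -1, -1, 1, 0, 0, 1], [0, 2, 3, 1, 4, 3, 2, 0, 5, 4, 3, 1, 2]),
   ([-1, -1, 1, 0, 0, 1, -1], [0, 2, 3, 1, 4, 3, 2, 0, 5, 4, 3, 1, 6]),
   ([0, 1, -1, 0, 0, 1, -1], [0, 2, 3, 1, 4, 3, 2, 0, 5, 4, 3, 2, 6]),
   ([-1, 1, 1, -1, 1, -1, 0], [0, 2, 3, 1, 4, 3, 2, 0, 5, 4, 3, 6, 5]),
   ([1, -1, 0, 0, 1, -1, 0], [0, 2, 3, 1, 4, 3, 2, 5, 4, 3, 1, 6, 5]),
   ([1, 1, 0, 0, -1, 0, 0], [0, 2, 3, 1, 4, 3, 2, 5, 4, 3, 6, 5, 4]),
   ([0, 0, 0, -1, 1, 0, 1], [0, 2, 3, 1, 4, 3, 2, 0, 5, 4, 3, 1, 2, 3]),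
   ([0, -1, -1, 1, 0, 1, -1], [0, 2, 3, 1, 4, 3, 2, 0, 5, 4, 3, 1, 2, 6]),
   ([-1, -1, 1, 0, 1, -1, 0], [0, 2, 3, 1, 4, 3, 2, 0, 5, 4, 3, 1, 6, 5]),
   ([0, 1, -1, 0, 1, -1, 0], [0, 2, 3, 1, 4, 3, 2, 0, 5, 4, 3, 2, 6, 5]),
   ([-1, 1, 1, 0, -1, 0, 0], [0, 2, 3, 1, 4, 3, 2, 0, 5, 4, 3, 6, 5, 4]),
   ([1, -1, 0, 1, -1, 0, 0], [0, 2, 3, 1, 4, 3, 2, 5, 4, 3, 1, 6, 5, 4]),
   ([0, 0, 0, 0, -1, 1, 1], [0, 2, 3, 1, 4, 3, 2, 0, 5, 4, 3, 1, 2, 3, 4]),
   ([0, 0, 0, -1, 1, 1, -1], [0, 2, 3, 1, 4, 3, 2, 0, 5, 4, 3, 1, 2, 3, 6]),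
   ([0, -1, -1, 1, 1, -1, 0], [0, 2, 3, 1, 4, 3, 2, 0, 5, 4, 3, 1, 2, 6, 5]),
   ([-1, -1, 1, 1, -1, 0, 0], [0, 2, 3, 1, 4, 3, 2, 0, 5, 4, 3, 1, 6, 5, 4])]

def tab3 : List (List ℤ × List (Fin 7)) :=
  [([0, 1, -1, 1, -1, 0, 0], [0, 2, 3, 1, 4, 3, 2, 0, 5, 4, 3, 2, 6, 5, 4]),
   ([1, 0, 1, -1, 0, 0, 0], [0, 2, 3, 1, 4, 3, 2, 5, 4, 3, 1, 6, 5, 4, 3]),
   ([0, 0, 0, 0, 0, -1, 2], [0, 2, 3, 1, 4, 3, 2, 0, 5, 4, 3, 1, 2, 3, 4, 5]),
   ([0, 0, 0, 0, -1, 2, -1], [0, 2, 3, 1, 4, 3, 2, 0, 5, 4, 3, 1, 2, 3, 4, 6]),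
   ([0, 0, 0, -1, 2, -1, 0], [0, 2, 3, 1, 4, 3, 2, 0, 5, 4, 3, 1, 2, 3, 6, 5]),
   ([0, -1, -1, 2, -1, 0, 0], [0, 2, 3, 1, 4, 3, 2, 0, 5, 4, 3, 1, 2, 6, 5, 4]),
   ([-1, 0, 2, -1, 0, 0, 0], [0, 2, 3, 1, 4, 3, 2, 0, 5, 4, 3, 1, 6, 5, 4, 3]),
   ([0, 2, 0, -1, 0, 0, 0], [0, 2, 3, 1, 4, 3, 2, 0, 5, 4, 3, 2, 6, 5, 4, 3]),
   ([2, 0, -1, 0, 0, 0, 0], [0, 2, 3, 1, 4, 3, 2, 5, 4, 3, 1, 6, 5, 4, 3, 2]),
   ([0, 0, 0, 0, 0, 1, -2], [0, 2, 3, 1, 4, 3, 2, 0, 5, 4, 3, 1, 2, 3, 4, 5, 6]),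
   ([0, 0, 0, 0, 1, -2, 1], [0, 2, 3, 1, 4, 3, 2, 0, 5, 4, 3, 1, 2, 3, 4, 6, 5]),
   ([0, 0, 0, 1, -2, 1, 0], [0, 2, 3, 1, 4, 3, 2, 0, 5, 4, 3, 1, 2, 3, 6, 5, 4]),
   ([0, 1, 1, -2, 1, 0, 0], [0, 2, 3, 1, 4, 3, 2, 0, 5, 4, 3, 1, 2, 6, 5, 4, 3]),
   ([1, 0, -2, 1, 0, 0, 0], [0, 2, 3, 1, 4, 3, 2, 0, 5, 4, 3, 1, 6, 5, 4, 3, 2]),
   ([0, -2, 0, 1, 0, 0, 0], [0, 2, 3, 1, 4, 3, 2, 0, 5, 4, 3, 2, 6, 5, 4, 3, 1]),
   ([-2, 0, 1, 0, 0, 0, 0], [0, 2, 3, 1, 4, 3, 2, 5, 4, 3, 1, 6, 5, 4, 3, 2, 0]),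
   ([0, 0, 0, 0, 1, -1, -1], [0, 2, 3, 1, 4, 3, 2, 0, 5, 4, 3, 1, 2, 3, 4, 5, 6, 5]),
   ([0, 0, 0, 1, -1, -1, 1], [0, 2, 3, 1, 4, 3, 2, 0, 5, 4, 3, 1, 2, 3, 4, 6, 5, 4])]

def tab4 : List (List ℤ × List (Fin 7)) :=
  [([0, 1, 1, -1, -1, 1, 0], [0, 2, 3, 1, 4, 3, 2, 0, 5, 4, 3, 1, 2, 3, 6, 5, 4, 3]),
   ([0, -1, 1, -1, 1, 0, 0], [0, 2, 3, 1, 4, 3, 2, 0, 5, 4, 3, 1, 2, 6, 5, 4, 3, 1]),
   ([1, 1, -1, -1, 1, 0, 0], [0, 2, 3, 1, 4, 3, 2, 0, 5, 4, 3, 1, 2, 6, 5, 4, 3, 2]),
   ([-1, 0, -1, 1, 0, 0, 0], [0, 2, 3, 1, 4, 3, 2, 0, 5, 4, 3, 1, 6, 5, 4, 3, 2, 0]),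
   ([0, 0, 0, 1, -1, 0, -1], [0, 2, 3, 1, 4, 3, 2, 0, 5, 4, 3, 1, 2, 3, 4, 5, 6, 5, 4]),
   ([0, 1, 1, -1, 0, -1, 1], [0, 2, 3, 1, 4, 3, 2, 0, 5, 4, 3, 1, 2, 3, 4, 6, 5, 4, 3]),
   ([0, -1, 1, 0, -1, 1, 0], [0, 2, 3, 1, 4, 3, 2, 0, 5, 4, 3, 1, 2, 3, 6, 5, 4, 3, 1]),
   ([1, 1, -1, 0, -1, 1, 0], [0, 2, 3, 1, 4, 3, 2, 0, 5, 4, 3, 1, 2, 3, 6, 5, 4, 3, 2]),
   ([1, -1, -1, 0, 1, 0, 0], [0, 2, 3, 1, 4, 3, 2, 0, 5, 4, 3, 1, 2, 6, 5, 4, 3, 1, 2]),
   ([-1, 1, 0, -1, 1, 0, 0], [0, 2, 3, 1, 4, 3, 2, 0, 5, 4, 3, 1, 2, 6, 5, 4, 3, 2, 0]),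
   ([0, 1, 1, -1, 0, 0, -1], [0, 2, 3, 1, 4, 3, 2, 0, 5, 4, 3, 1, 2, 3, 4, 5, 6, 5, 4, 3]),
   ([0, -1, 1, 0, 0, -1, 1], [0, 2, 3, 1, 4, 3, 2, 0, 5, 4, 3, 1, 2, 3, 4, 6, 5, 4, 3, 1]),
   ([1, 1, -1, 0, 0, -1, 1], [0, 2, 3, 1, 4, 3, 2, 0, 5, 4, 3, 1, 2, 3, 4, 6, 5, 4, 3, 2]),
   ([1, -1, -1, 1, -1, 1, 0], [0, 2, 3, 1, 4, 3, 2, 0, 5, 4, 3, 1, 2, 3, 6, 5, 4, 3, 1, 2]),
   ([-1, 1, 0, 0, -1, 1, 0], [0, 2, 3, 1, 4, 3, 2, 0, 5, 4, 3, 1, 2, 3, 6, 5, 4, 3, 2, 0]),
   ([-1, -1, 0, 0, 1, 0, 0], [0, 2, 3, 1, 4, 3, 2, 0, 5, 4, 3, 1, 2, 6, 5, 4, 3, 1, 2, 0]),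
   ([0, -1, 1, 0, 0, 0, -1], [0, 2, 3, 1, 4, 3, 2, 0, 5, 4, 3, 1, 2, 3, 4, 5, 6, 5, 4, 3, 1]),
   ([1, 1, -1, 0, 0, 0, -1], [0, 2, 3, 1, 4, 3, 2, 0, 5, 4, 3, 1, 2, 3, 4, 5, 6, 5, 4, 3, 2])]

def tab5 : List (List ℤ × List (Fin 7)) :=
  [([1, -1, -1, 1, 0, -1, 1], [0, 2, 3, 1, 4, 3, 2, 0, 5, 4, 3, 1, 2, 3, 4, 6, 5, 4, 3, 1, 2]),
   ([-1, 1, 0, 0, 0, -1, 1], [0, 2, 3, 1, 4, 3, 2, 0, 5, 4, 3, 1, 2, 3, 4, 6, 5, 4, 3, 2, 0]),
   ([-1, -1, 0, 1, -1, 1, 0], [0, 2, 3, 1, 4, 3, 2, 0, 5, 4, 3, 1, 2, 3, 6, 5, 4, 3, 1, 2, 0]),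
   ([1, 0, 0, -1, 0, 1, 0], [0, 2, 3, 1, 4, 3, 2, 0, 5, 4, 3, 1, 2, 3, 6, 5, 4, 3, 1, 2, 3]),
   ([1, -1, -1, 1, 0, 0, -1], [0, 2, 3, 1, 4, 3, 2, 0, 5, 4, 3, 1, 2, 3, 4, 5, 6, 5, 4, 3, 1, 2]),
   ([-1, 1, 0, 0, 0, 0, -1], [0, 2, 3, 1, 4, 3, 2, 0, 5, 4, 3, 1, 2, 3, 4, 5, 6, 5, 4, 3, 2, 0]),
   ([-1, -1, 0, 1, 0, -1, 1], [0, 2, 3, 1, 4, 3, 2, 0, 5, 4, 3, 1, 2, 3, 4, 6, 5, 4, 3, 1, 2, 0]),
   ([1, 0, 0, -1, 1, -1, 1], [0, 2, 3, 1, 4, 3, 2, 0, 5, 4, 3, 1, 2, 3, 4, 6, 5, 4, 3, 1, 2, 3]),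
   ([-1, 0, 1, -1, 0, 1, 0], [0, 2, 3, 1, 4, 3, 2, 0, 5, 4, 3, 1, 2, 3, 6, 5, 4, 3, 1, 2, 0, 3]),
   ([-1, -1, 0, 1, 0, 0, -1], [0, 2, 3, 1, 4, 3, 2, 0, 5, 4, 3, 1, 2, 3, 4, 5, 6, 5, 4, 3, 1, 2, 0]),
   ([1, 0, 0, -1, 1, 0, -1], [0, 2, 3, 1, 4, 3, 2, 0, 5, 4, 3, 1, 2, 3, 4, 5, 6, 5, 4, 3, 1, 2, 3]),
   ([-1, 0, 1, -1, 1, -1, 1], [0, 2, 3, 1, 4, 3, 2, 0, 5, 4, 3, 1, 2, 3, 4, 6, 5, 4, 3, 1, 2, 0, 3]),
   ([1, 0, 0, 0, -1, 0, 1], [0, 2, 3, 1, 4, 3, 2, 0, 5, 4, 3, 1, 2, 3, 4, 6, 5, 4, 3, 1, 2, 3, 4]),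
   ([0, 0, -1, 0, 0, 1, 0], [0, 2, 3, 1, 4, 3, 2, 0, 5, 4, 3, 1, 2, 3, 6, 5, 4, 3, 1, 2, 0, 3, 2]),
   ([-1, 0, 1, -1, 1, 0, -1], [0, 2, 3, 1, 4, 3, 2, 0, 5, 4, 3, 1, 2, 3, 4, 5, 6, 5, 4, 3, 1, 2, 0, 3]),
   ([1, 0, 0, 0, -1, 1, -1], [0, 2, 3, 1, 4, 3, 2, 0, 5, 4, 3, 1, 2, 3, 4, 5, 6, 5, 4, 3, 1, 2, 3, 4]),
   ([0, 0, -1, 0, 1, -1, 1], [0, 2, 3, 1, 4, 3, 2, 0, 5, 4, 3, 1, 2, 3, 4, 6, 5, 4, 3, 1, 2, 0, 3, 2]),
   ([-1, 0, 1, 0, -1, 0, 1], [0, 2, 3, 1, 4, 3, 2, 0, 5, 4, 3, 1, 2, 3, 4, 6, 5, 4, 3, 1, 2, 0, 3, 4])]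

def tab6 : List (List ℤ × List (Fin 7)) :=
  [([0, 0, -1, 0, 1, 0, -1], [0, 2, 3, 1, 4, 3, 2, 0, 5, 4, 3, 1, 2, 3, 4, 5, 6, 5, 4, 3, 1, 2, 0, 3, 2]),
   ([-1, 0, 1, 0, -1, 1, -1], [0, 2, 3, 1, 4, 3, 2, 0, 5, 4, 3, 1, 2, 3, 4, 5, 6, 5, 4, 3, 1, 2, 0, 3, 4]),
   ([1, 0, 0, 0, 0, -1, 0], [0, 2, 3, 1, 4, 3, 2, 0, 5, 4, 3, 1, 2, 3, 4, 5, 6, 5, 4, 3, 1, 2, 3, 4, 5]),
   ([0, 0, -1, 1, -1, 0, 1], [0, 2, 3, 1, 4, 3, 2, 0, 5, 4, 3, 1, 2, 3, 4, 6, 5, 4, 3, 1, 2, 0, 3, 2, 4]),
   ([0, 0, -1, 1, -1, 1, -1], [0, 2, 3, 1, 4, 3, 2, 0, 5, 4, 3, 1, 2, 3, 4, 5, 6, 5, 4, 3, 1, 2, 0, 3, 2, 4]),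
   ([-1, 0, 1, 0, 0, -1, 0], [0, 2, 3, 1, 4, 3, 2, 0, 5, 4, 3, 1, 2, 3, 4, 5, 6, 5, 4, 3, 1, 2, 0, 3, 4, 5]),
   ([0, 1, 0, -1, 0, 0, 1], [0, 2, 3, 1, 4, 3, 2, 0, 5, 4, 3, 1, 2, 3, 4, 6, 5, 4, 3, 1, 2, 0, 3, 2, 4, 3]),
   ([0, 1, 0, -1, 0, 1, -1], [0, 2, 3, 1, 4, 3, 2, 0, 5, 4, 3, 1, 2, 3, 4, 5, 6, 5, 4, 3, 1, 2, 0, 3, 2, 4, 3]),
   ([0, 0, -1, 1, 0, -1, 0], [0, 2, 3, 1, 4, 3, 2, 0, 5, 4, 3, 1, 2, 3, 4, 5, 6, 5, 4, 3, 1, 2, 0, 3, 2, 4, 5]),
   ([0, -1, 0, 0, 0, 0, 1], [0, 2, 3, 1, 4, 3, 2, 0, 5, 4, 3, 1, 2, 3, 4, 6, 5, 4, 3, 1, 2, 0, 3, 2, 4, 3, 1]),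
   ([0, -1, 0, 0, 0, 1, -1], [0, 2, 3, 1, 4, 3, 2, 0, 5, 4, 3, 1, 2, 3, 4, 5, 6, 5, 4, 3, 1, 2, 0, 3, 2, 4, 3, 1]),
   ([0, 1, 0, -1, 1, -1, 0], [0, 2, 3, 1, 4, 3, 2, 0, 5, 4, 3, 1, 2, 3, 4, 5, 6, 5, 4, 3, 1, 2, 0, 3, 2, 4, 3, 5]),
   ([0, -1, 0, 0, 1, -1, 0], [0, 2, 3, 1, 4, 3, 2, 0, 5, 4, 3, 1, 2, 3, 4, 5, 6, 5, 4, 3, 1, 2, 0, 3, 2, 4, 3, 1, 5]),
   ([0, 1, 0, 0, -1, 0, 0], [0, 2, 3, 1, 4, 3, 2, 0, 5, 4, 3, 1, 2, 3, 4, 5, 6, 5, 4, 3, 1, 2, 0, 3, 2, 4, 3, 5, 4]),
   ([0, -1, 0, 1, -1, 0, 0], [0, 2, 3, 1, 4, 3, 2, 0, 5, 4, 3, 1, 2, 3, 4, 5, 6, 5, 4, 3, 1, 2, 0, 3, 2, 4, 3, 1, 5, 4]),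
   ([0, 0, 1, -1, 0, 0, 0], [0, 2, 3, 1, 4, 3, 2, 0, 5, 4, 3, 1, 2, 3, 4, 5, 6, 5, 4, 3, 1, 2, 0, 3, 2, 4, 3, 1, 5, 4, 3]),
   ([1, 0, -1, 0, 0, 0, 0], [0, 2, 3, 1, 4, 3, 2, 0, 5, 4, 3, 1, 2, 3, 4, 5, 6, 5, 4, 3, 1, 2, 0, 3, 2, 4, 3, 1, 5, 4, 3, 2]),
   ([-1, 0, 0, 0, 0, 0, 0], [0, 2, 3, 1, 4, 3, 2, 0, 5, 4, 3, 1, 2, 3, 4, 5, 6, 5, 4, 3, 1, 2, 0, 3, 2, 4, 3, 1, 5, 4, 3, 2, 0])]

/-- the orbit of the fundamental weight of the node 0 -/
def tabE7 : List (List ℤ × List (Fin 7)) :=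
  tab0 ++ tab1 ++ tab2 ++ tab3 ++ tab4 ++ tab5 ++ tab6

private noncomputable def allH {α : Type} (b : ℕ) (P : α → ℕ → Bool) (l : List α) : ℕ → Bool :=
  List.rec (fun _ => true) (fun a _ ih h => P a (Nat.mod h b) && ih (Nat.div h b)) l

private theorem allH_ex {α : Type} {b : ℕ} {P : α → ℕ → Bool} :
    ∀ (l : List α) (h : ℕ), allH b P l h = true → ∀ a ∈ l, ∃ k, P a k = true
  | [], _, _, _, ha => absurd ha List.not_mem_nil
  | c :: t, h, H, a, ha => by
    have H' : (P c (Nat.mod h b) && allH b P t (Nat.div h b)) = true := H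
    rw [Bool.and_eq_true] at H'
    rcases List.mem_cons.1 ha with rfl | ha
    · exact ⟨_, H'.1⟩
    · exact allH_ex t _ H'.2 a ha

private noncomputable def atK {α : Type} (Q : α → Bool) (k : ℕ) : List α → Bool :=
  Nat.rec (fun l => List.rec false (fun a _ _ => Q a) l) (fun _ ih l => List.rec false (fun _ t _ => ih t) l) k

private theorem any_ix {α : Type} {Q : α → Bool} : ∀ (k : ℕ) (L : List α), atK Q k L = true → ∃ a ∈ L, Q a = true
  | 0, [], h => by cases h
  | _ + 1, [], h => by cases h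
  | 0, a :: _, h => ⟨a, List.mem_cons_self, h⟩
  | k + 1, _ :: t, h => (any_ix k t h).imp fun _ ha => ⟨List.mem_cons_of_mem _ ha.1, ha.2⟩

private noncomputable def ndM (l : List ℕ) : ℕ → Bool :=
  List.rec (fun _ => true) (fun a _ ih m => !(m.testBit a) && ih (m ||| 2 ^ a)) l

private theorem ndM_ok : ∀ (l : List ℕ) (m : ℕ), ndM l m = true → l.Nodup ∧ ∀ a ∈ l, m.testBit a = false
  | [], _, _ => ⟨List.nodup_nil, fun _ ha => absurd ha List.not_mem_nil⟩
  | c :: t, m, H => by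
    have H' : (!(m.testBit c) && ndM t (m ||| 2 ^ c)) = true := H
    rw [Bool.and_eq_true, Bool.not_eq_true'] at H'
    obtain ⟨h1, h2⟩ := ndM_ok t _ H'.2
    refine ⟨List.nodup_cons.2 ⟨fun hc => ?_, h1⟩, fun a ha => ?_⟩
    · have h3 := h2 c hc
      rw [Nat.testBit_or, Nat.testBit_two_pow_self, Bool.or_true] at h3
      cases h3
    · rcases List.mem_cons.1 ha with rfl | ha
      · exact H'.1
      · have h3 := h2 a ha
        rw [Nat.testBit_or, Bool.or_eq_false_iff] at h3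
        exact h3.1

private noncomputable def _root_.Cfsg.Agent.LsF.fb3e89c_6 : {f // @Cfsg.Agent.H785.SpE7.allH = f} := ⟨_, by first | (delta Cfsg.Agent.H785.SpE7.allH; rewrite [Cfsg.Agent.LsF.and_eq]; exact rfl) | exact rfl⟩
private noncomputable def _root_.Cfsg.Agent.LsF.fb3e89c_7 : {f // @Cfsg.Agent.H81.PJTab.fireL = f} := ⟨_, by first | (delta Cfsg.Agent.H81.PJTab.fireL; rewrite [Cfsg.Agent.LsF.imul_pat, Cfsg.Agent.LsF.isub_pat, Cfsg.Agent.LsF.zipWith_eq, Cfsg.Agent.LsF.getD_eq]; exact rfl) | exact rfl⟩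
private noncomputable def _root_.Cfsg.Agent.LsF.fb3e89c_8 : {f // @Cfsg.Agent.H785.SpE7.tabE7 = f} := ⟨_, by first | (delta Cfsg.Agent.H785.SpE7.tabE7; rewrite [Cfsg.Agent.LsF.lappend_pat]; exact rfl) | exact rfl⟩
theorem tabE7_ok : chkF 7 aE7 [0, 1, 2, 3, 4, 5, 6] [1, 0, 0, 0, 0, 0, 0] tabE7 = true := by
  unfold chkF
  rw [Bool.and_eq_true, Bool.and_eq_true, Bool.and_eq_true]
  refine ⟨⟨⟨?_, List.all_eq_true.2 fun e he => ?_⟩, List.all_eq_true.2 fun e he => List.all_eq_true.2 fun j hj => ?_⟩,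
    decide_eq_true (List.Nodup.of_map (fun v : List ℤ => v.foldr (fun x c => c * 5 + (x + 2).toNat) 0)
      (ndM_ok _ 0 (by decide +kernel)).1)⟩
  · decide +kernel
  · have H : allH 128 (fun (e : List ℤ × List (Fin 7)) k => e == ([1, 0, 0, 0, 0, 0, 0], []) ||
        e.2.getLast?.any fun j => ([0, 1, 2, 3, 4, 5, 6] : List (Fin 7)).contains j &&
          atK (fun e' => e'.2 == e.2.dropLast && decide (0 < e'.1.getD j 0) &&
            e.1 == fireL aE7 e'.1 j) k tabE7) tabE7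
        0x3e7bf5e3bf6e7cf970e1bf6ecd5a7468cb97263c58705ebd72d5ab362ad5a94e952a13e74d9b3254991223c6870a14180fdf3d78edd3970ddb3568cd93262bd72d58b1529509d3264a911214080f1d386cd9b3260c162c54993244880f1e3860c162c488101c3060a101830404000 = true := by ((try (delta List.brecOn List.brecOn.go List.dropLast List.dropLast._f List.getLast List.getLast._f List.getLast?; rewrite [Cfsg.Agent.LsF.fb3e89c_6.2, Cfsg.Agent.LsF.fb3e89c_7.2, Cfsg.Agent.LsF.fb3e89c_8.2, Cfsg.Agent.LsF.instIBEq_pat, Cfsg.Agent.LsF.and_eq, Cfsg.Agent.LsF.or_eq, Cfsg.Agent.LsF.contains_eq, Cfsg.Agent.LsF.getD_eq, Cfsg.Agent.LsF.instBEq_eq, Cfsg.Agent.LsF.idecLt_eq, Cfsg.Agent.LsF.dFinEq_eq, Cfsg.Agent.LsF.instPBEq_eq, Cfsg.Agent.LsF.decide_eq])); decide +kernel)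
    obtain ⟨k, hk⟩ := allH_ex _ _ H e he
    rw [Bool.or_eq_true] at hk ⊢
    refine hk.imp_right fun hk => ?_
    cases hl : e.2.getLast? with
    | none => rw [hl] at hk; cases hk
    | some j =>
      rw [hl] at hk
      exact (Bool.and_eq_true _ _).mpr ⟨((Bool.and_eq_true _ _).mp hk).1,
        List.any_eq_true.2 (any_ix _ _ ((Bool.and_eq_true _ _).mp hk).2)⟩
  · have H : allH (128 ^ 7) (fun (e : List ℤ × List (Fin 7)) h => allH 128 (fun (j : Fin 7) k =>
        cond (Nat.beq k 127) (e.1 == fireL aE7 e.1 j) (atK (fun e' => e'.1 == fireL aE7 e.1 j) k tabE7)) [0, 1, 2, 3, 4, 5, 6] h) tabE7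
        0x3fffffffffff9fffffffefffdffffffaf9fffffffe3dfff3fffffefffffaffffb7affffbffffcfcf4ffe3ff5f1fffffe7ffb7fffffff2ffff87fefc7fffe5dfff0ffdbff3ffff7ffebfffedffffa7fddbfa6ce7b7fffe1ff572d7fffffd3fffffffc75f1d1ff87fd3abff0ffa3fffdbff2ffdfff36ccfbffe5ffff36ec9fffffdb97fedc7b3fe4ffabfffc5fffe9ff87fffffaf462d78357fc387fe9bdfffe8c1fffe8ff7ef7fcbfee67ff7725dcd6bfffcb8ee7fcbfeddab7fffffff8ecdaffff258b38ffe1ff57fffc5ff057c5feb55bf5bfffff82a5eabff0d3a982a7ffffe95ebf4ffffff7a97ffffee7fff4687fb747fffb93ffdaa17674fb9667ffff36d5bb13bfffb537fcdfffe659b1fffffad2ffd795fffd5ff26557ff5257f9156b7fa727fd591fe948ff1ea53ff1ffc6a5ffffffffffd18bfe1ffff3e1c2a147fff9d12842fffe6c2833e77f990604dfffffc07f33fffffffffffffe5ff7dfffff93fdefffffffca79fe5ffff21dca93fffc77523fffff19cc7fffffff711bfffffffffffffffb7ff17ffffedbfc4fffffff6b0ffb7fffda426adbfff6705a7ffffd94067ffffffefd97fffffffffffffb17dfde7ffebdeb077fffff5cf1db063fd6bb74b97ff58e9cadfffffb970b3ffffffffff54dffab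6bfffa9fed9aabfea1b7f52d3fff4ed7fb452a9334fecd3a8fecffb24dffffffffd2fffec587f48c7fff4abbfa2608d7ae4a857fffe896ff40bbfff5a8922dfffd62043fff9e567ffaa527557ffffcf27fe73fa9fffcf9b53fce284e7947ffffcda6fe9fffffe98d9dfe67fa535fd1984bfccff488927ffffff98405919745fff9945fff964280c7f2bfff9ffffc99f2878aff387bfff27fce9b25fce7ffffca1cfe48dfffe4c81a23fccfffe3ff99fe47f9733fc79821fcb171c5bffffe3c67f2a34a7ffe57f8cfe4ffff282c9ff19fc97f25ffffffe2c4fffe47f8afe44410123fffffe3ffff11fc707fffffff1bfc686fe33f87fffc67f0c2ffff1417ffffe27fff121047f0bfff8707fff86fffff86fffc1fffffc282fe13ffffffc181ffffffffffc17f01ffffffffff81 = true := by ((try (rewrite [Cfsg.Agent.LsF.fb3e89c_6.2, Cfsg.Agent.LsF.fb3e89c_7.2, Cfsg.Agent.LsF.fb3e89c_8.2, Cfsg.Agent.LsF.npow_pat, Cfsg.Agent.LsF.instIBEq_pat, Cfsg.Agent.LsF.cond_eq, Cfsg.Agent.LsF.instBEq_eq])); decide +kernel)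
    obtain ⟨h, hh⟩ := allH_ex _ _ H e he
    obtain ⟨k, hk⟩ := allH_ex _ _ hh j hj
    obtain ⟨a, ha, hq⟩ : ∃ a ∈ tabE7, (a.1 == fireL aE7 e.1 j) = true := by
      cases hb : Nat.beq k 127 <;> rw [hb] at hk
      exacts [any_ix _ _ hk, ⟨e, he, hk⟩]
    exact List.contains_iff_mem.2 (List.mem_map.2 ⟨a, ha, eq_of_beq hq⟩)

/-- the lengths -/
def lensE7 : List ℕ :=
  [0, 1, 2, 3, 4, 4, 5, 5, 6, 6, 6, 7, 7, 7, 8, 8, 8, 8, 9, 9, 9, 9, 10, 10, 10, 10, 10, 11, 11, 11, 11, 11, 12, 12, 12, 12, 12, 12, 13, 13, 13, 13, 13, 13, 14, 14, 14, 14, 14, 14, 15, 15, 15, 15, 15, 15, 16, 16, 16, 16, 16, 16, 16, 17, 17, 17, 17, 17, 17, 17, 18, 18, 18, 18, 18, 18, 19, 19, 19, 19, 19, 19, 20, 20, 20, 20, 20, 20, 21, 21, 21, 21, 21, 21, 22, 22, 22, 22, 22, 23, 23, 23, 23, 23, 24, 24, 24, 24, 25, 25, 25, 25, 26, 26, 26, 27, 27, 27, 28, 28, 29, 29, 30, 31, 32, 33]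

theorem tabE7_len : tabE7.map (fun e => e.2.length) = lensE7 := by decide +kernel

/-- the odd factor -/
def oddE7 (q : ℕ) : ℕ :=
  (1 + q ^ 4 + q ^ 8) * (1 + q ^ 6 + q ^ 12) * (1 + q ^ 2 + q ^ 4 + q ^ 6 + q ^ 8 + q ^ 10 + q ^ 12)

theorem odd_oddE7 {q : ℕ} (hq : Odd q) : Odd (oddE7 q) := by
  have h : ∀ k, Odd (q ^ k) := fun k => hq.pow
  have h3 : ∀ a b c : ℕ, Odd a → Odd b → Odd c → Odd (a + b + c) := fun a b c ha hb hc => (ha.add_odd hb).add_odd hc
  unfold oddE7
  refine Odd.mul (Odd.mul (h3 _ _ _ odd_one (h _) (h _)) (h3 _ _ _ odd_one (h _) (h _))) ?_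
  exact h3 _ _ _ (h3 _ _ _ (h3 _ _ _ odd_one (h _) (h _)) (h _) (h _)) (h _) (h _)

theorem tabE7_sum (q : ℕ) : (tabE7.map fun e => q ^ e.2.length).sum = (q + 1) * oddE7 q := by
  have h1 : (tabE7.map fun e => q ^ e.2.length) = lensE7.map fun k => q ^ k := by
    rw [← tabE7_len, List.map_map]
    rfl
  rw [h1]
  unfold lensE7 oddE7
  simp only [List.map_cons, List.map_nil, List.sum_cons, List.sum_nil]
  ring

end Cfsg.Agent.H785.SpE7
end

-- part: H785/SpE7
section
/-!
# Long root `SL₂`s of the Chevalley groups: the centraliser of the involution (helper785)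

* `long_data` : the data of the long root `SL₂` of a fundamental root;
* `nrm` : the centraliser of the involution normalises the `SL₂`, if the check `chkIso` holds;
* `index` : the index of the centraliser is odd, if the table is right.
-/

set_option autoImplicit false
set_option linter.unusedSectionVars false

namespace Cfsg.Agent.H785.SpE7

open CoxeterSystem Cfsg.Agent.ChevalleyStructure.CoxeterGeom Cfsg.Agent.Tits.Roots Cfsg.Agent.Tits.Core
  Cfsg.Agent.Tits.Exchange Cfsg.Agent.Nodes.Reps Cfsg.Agent.Nodes.BNOf Cfsg.Agent.Nodes.StabComb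
  Cfsg.Agent.Nodes.Bruhat Cfsg.Agent.Nodes.LeviDec Cfsg.Agent.Nodes.NormalForm Cfsg.Agent.Nodes.CardSup
open Cfsg Cfsg.Lie Cfsg.Lie.ChevalleyDatum
open Cfsg.Agent.ChevalleyStructure Cfsg.Agent.ChevalleyStructure.Elts Cfsg.Agent.ChevalleyStructure.NPerm
  Cfsg.Agent.ChevalleyStructure.CoxeterGeomTypes Cfsg.Agent.ChevalleyStructure.RootVecTab Cfsg.Agent.ChevalleyStructure.RootVec
open Cfsg.Agent.Nodes.RGDChev Cfsg.Agent.OddHalf.LongSL Cfsg.Agent.OddHalf.LongSL.Chev
open Cfsg.Agent.KFacts.RgdChevCoord (TT XX)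
open Cfsg.Agent.H81.PJTab Cfsg.Agent.H785.SpOdd

section Main

variable {D : ChevalleyDatum} {l : ℕ} {M : CoxeterMatrix (Fin l)} (hp : IsType D l M) (K : Type) [Field K]
variable (i : Fin l)

theorem mem_XX_vec {r : ℕ} (hr : r < D.nroots) {u : ↥(D.group K)} :
    u ∈ XX D l K (vec D l r) ↔ ∃ t, (u : GL D.Idx K) = xG hp.inList r t := by
  rw [XX, Subgroup.mem_subgroupOf, XV_vec hp K hr, mem_rootSubgroup_iff hp.inList]

include hp in
theorem T_comm {s t : ↥(D.group K)} (hs : s ∈ TT D K) (ht : t ∈ TT D K) : s * t = t * s := by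
  rw [TT, Subgroup.mem_subgroupOf] at hs ht
  obtain ⟨χ, hχ⟩ := HMatDiagAll.mem_torus.1 (HMatDiagAll.diagonalSubgroup_le_torus hp.inList hs)
  obtain ⟨ψ, hψ⟩ := HMatDiagAll.mem_torus.1 (HMatDiagAll.diagonalSubgroup_le_torus hp.inList ht)
  apply Subtype.ext
  apply Units.ext
  rw [Subgroup.coe_mul, Subgroup.coe_mul, Units.val_mul, Units.val_mul, hχ, hψ, Matrix.diagonal_mul_diagonal,
    Matrix.diagonal_mul_diagonal]
  congr 1
  funext k
  exact mul_comm _ _

theorem card_X [Finite K] {W : Type*} [Group W] (cs : CoxeterSystem M W) {x : Fin l → ℤ}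
    (hx : IsRoot cs hp.isCartan x) : Nat.card ↥(XX D l K x) = Nat.card K := by
  rw [Nat.card_congr (Subgroup.subgroupOfEquivOfLe (XV_le_group hp x)).toEquiv]
  obtain ⟨r, hr, rfl⟩ := (isRoot_iff hp cs x).1 hx
  rw [XV_vec hp K hr]
  symm
  refine Nat.card_congr (Equiv.ofBijective (fun t : K => (⟨xG hp.inList r t,
    xG_mem_rootSubgroup hp.inList r t⟩ : ↥(D.rootSubgroup K r))) ⟨?_, ?_⟩)
  · intro t u e
    exact xG_injective hp.inList hr (congrArg Subtype.val e)
  · rintro ⟨g, hg⟩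
    obtain ⟨t, rfl⟩ := (mem_rootSubgroup_iff hp.inList r g).1 hg
    exact ⟨t, rfl⟩

theorem mem_XX_sr {u : ↥(D.group K)} : u ∈ XX D l K (sr i) ↔ ∃ t, phi hp K i (SL2Hom.up t) = u := by
  have hr := simple_lt hp.inList (lt_rank hp i)
  rw [← vec_simple hp i, mem_XX_vec hp K hr]
  constructor
  · rintro ⟨t, ht⟩
    exact ⟨t, Subtype.ext (by rw [phi_up, ht])⟩
  · rintro ⟨t, ht⟩
    exact ⟨t, by rw [← ht, phi_up]⟩

theorem mem_XX_neg {u : ↥(D.group K)} : u ∈ XX D l K (-sr i) ↔ ∃ t, phi hp K i (SL2Hom.lo t) = u := by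
  have hr := simple_lt hp.inList (lt_rank hp i)
  rw [← vec_simple hp i, ← vec_neg hp hr, mem_XX_vec hp K (neg_lt hp.inList hr)]
  constructor
  · rintro ⟨t, ht⟩
    exact ⟨t, Subtype.ext (by rw [phi_lo, ht])⟩
  · rintro ⟨t, ht⟩
    exact ⟨t, by rw [← ht, phi_lo]⟩

/-- the centre of `SL₂` -/
theorem neg_one_comm (g : Matrix.SpecialLinearGroup (Fin 2) K) : phi hp K i (-1) * phi hp K i g =
    phi hp K i g * phi hp K i (-1) := by
  rw [← map_mul, ← map_mul, neg_one_mul, mul_neg_one]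

theorem range_eq_sup : (phi hp K i).range = XX D l K (sr i) ⊔ XX D l K (-sr i) := by
  apply le_antisymm
  · rw [MonoidHom.range_eq_map, Subgroup.map_le_iff_le_comap]
    intro g _
    refine (Subgroup.closure_le _).2 ?_ (SL2Hom.mem_closure_SL2 g)
    rintro x (⟨t, rfl⟩ | ⟨t, rfl⟩)
    · exact Subgroup.mem_sup_left ((mem_XX_sr hp K i).2 ⟨t, rfl⟩)
    · exact Subgroup.mem_sup_right ((mem_XX_neg hp K i).2 ⟨t, rfl⟩)
  · refine sup_le ?_ ?_
    · intro u hu
      obtain ⟨t, rfl⟩ := (mem_XX_sr hp K i).1 hu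
      exact ⟨_, rfl⟩
    · intro u hu
      obtain ⟨t, rfl⟩ := (mem_XX_neg hp K i).1 hu
      exact ⟨_, rfl⟩

theorem range_eq_JX : (phi hp K i).range = JX (XX D l K) (phi hp K i (-1)) (sr i) := by
  refine OddHalf.LongSL.range_eq_JX _ rfl ?_ ?_ ?_ ?_
  · exact fun t => (mem_XX_sr hp K i).2 ⟨t, rfl⟩
  · exact fun t => (mem_XX_neg hp K i).2 ⟨t, rfl⟩
  · exact fun u hu _ => (mem_XX_sr hp K i).1 hu
  · exact fun u hu _ => (mem_XX_neg hp K i).1 hu

theorem phi_injective (h2K : (2 : K) ≠ 0) (h2 : chkOdd D i = true) : Function.Injective (phi hp K i) := by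
  have hr := simple_lt hp.inList (lt_rank hp i)
  rw [injective_iff_map_eq_one]
  intro g hg
  have hg' : SL2Hom.phi (SL2All.good_of_mem D hp.inList (D.simple i) hr) K g = 1 := congrArg Subtype.val hg
  rcases phi_eq_one _ hg' with h | h
  · exact h
  · exfalso
    rw [h] at hg
    have h3 : hG hp.inList (D.simple i) (-1 : K) = 1 := by rw [← phi_neg_one hp K i, hg]; rfl
    obtain ⟨s, hs, hs'⟩ := List.any_eq_true.1 h2
    rw [List.mem_range] at hs
    have h4 := conj_hG hp K i hs (-1) (neg_ne_zero.2 one_ne_zero) 1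
    rw [h3, one_mul, inv_one, mul_one, beq_iff_eq.1 hs', zpow_one, mul_one] at h4
    have h5 := xG_injective hp.inList hs h4
    apply h2K
    linear_combination h5

theorem neg_one_mem_T : phi hp K i (-1) ∈ TT D K := by
  have hr := simple_lt hp.inList (lt_rank hp i)
  rw [TT, Subgroup.mem_subgroupOf, phi_neg_one]
  exact hG_mem_diagonal hp.inList hr (neg_ne_zero.2 one_ne_zero)

/-- the other root groups are inverted by the involution or commute with the `SL₂` -/
theorem other {W : Type*} [Group W] (cs : CoxeterSystem M W) (h1 : Chev.chk D i = true) {x : Fin l → ℤ}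
    (hx : IsRoot cs hp.isCartan x) (hx1 : x ≠ sr i) (hx2 : x ≠ -sr i) :
    (∀ u ∈ XX D l K x, phi hp K i (-1) * u * (phi hp K i (-1))⁻¹ = u⁻¹) ∨
      ∀ u ∈ XX D l K x, ∀ v ∈ (phi hp K i).range, u * v = v * u := by
  have hr := simple_lt hp.inList (lt_rank hp i)
  have hnr := neg_lt hp.inList hr
  obtain ⟨s, hs, rfl⟩ := (isRoot_iff hp cs x).1 hx
  have hs1 : s ≠ D.simple i := by
    rintro rfl
    exact hx1 (vec_simple hp i)
  have hs2 : s ≠ D.neg (D.simple i) := by
    rintro rfl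
    exact hx2 (by rw [vec_neg hp hr, vec_simple hp i])
  have h3 := List.all_eq_true.1 h1 s (List.mem_range.2 hs)
  simp only [Bool.or_eq_true, beq_iff_eq, Bool.and_eq_true, List.isEmpty_iff, hs1, hs2, false_or] at h3
  have hinv : D.cartan i s = 1 ∨ D.cartan i s = -1 → ∀ u ∈ XX D l K (vec D l s),
      phi hp K i (-1) * u * (phi hp K i (-1))⁻¹ = u⁻¹ := by
    intro h4 u hu
    obtain ⟨t, ht⟩ := (mem_XX_vec hp K hs).1 hu
    apply Subtype.ext
    rw [Subgroup.coe_mul, Subgroup.coe_mul, Subgroup.coe_inv, Subgroup.coe_inv, phi_neg_one, ht,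
      conj_hG hp K i hs (-1) (neg_ne_zero.2 one_ne_zero), xG_inv]
    congr 1
    rcases h4 with h4 | h4
    · rw [h4, zpow_one, neg_one_mul]
    · rw [h4, zpow_neg, zpow_one, inv_neg, inv_one, neg_one_mul]
  rcases h3 with (h3 | h3) | ⟨h3, h4⟩
  · left; exact hinv (Or.inl h3)
  · left; exact hinv (Or.inr h3)
  · right
    intro u hu
    obtain ⟨t, ht⟩ := (mem_XX_vec hp K hs).1 hu
    refine commute_range _ ?_ ?_
    · intro c
      apply Subtype.ext
      rw [Subgroup.coe_mul, Subgroup.coe_mul, phi_up, ht]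
      exact commute_xG hp K hr hs hs1 hs2 h3 c t
    · intro c
      apply Subtype.ext
      rw [Subgroup.coe_mul, Subgroup.coe_mul, phi_lo, ht]
      exact commute_xG hp K hnr hs hs2 (by rw [RootVec.neg_neg hp.checked hr]; exact hs1) h4 c t

/-- the root groups commuting with the involution -/
theorem le_cent_iff (h2K : (2 : K) ≠ 0) {s : ℕ} (hs : s < D.nroots) :
    XX D l K (vec D l s) ≤ Subgroup.centralizer ({phi hp K i (-1)} : Set ↥(D.group K)) ↔ Even (D.cartan i s) := by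
  have key : ∀ (u : ↥(D.group K)) (t : K), (u : GL D.Idx K) = xG hp.inList s t →
      ((phi hp K i (-1) * u * (phi hp K i (-1))⁻¹ : ↥(D.group K)) : GL D.Idx K) =
        xG hp.inList s ((-1 : K) ^ (D.cartan i s) * t) := by
    intro u t ht
    rw [Subgroup.coe_mul, Subgroup.coe_mul, Subgroup.coe_inv, phi_neg_one, ht,
      conj_hG hp K i hs (-1) (neg_ne_zero.2 one_ne_zero)]
  constructor
  · intro h1
    have hmem : xG hp.inList s (1 : K) ∈ D.group K := by
      have h3 : xG hp.inList s (1 : K) ∈ XV D l K (vec D l s) := by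
        rw [XV_vec hp K hs]; exact xG_mem_rootSubgroup _ _ _
      exact XV_le_group hp _ h3
    have h2 : (⟨xG hp.inList s (1 : K), hmem⟩ : ↥(D.group K)) ∈ XX D l K (vec D l s) :=
      (mem_XX_vec hp K hs).2 ⟨1, rfl⟩
    have h3 := Subgroup.mem_centralizer_singleton_iff.1 (h1 h2)
    have h4 := key _ 1 (rfl : ((⟨xG hp.inList s (1 : K), hmem⟩ : ↥(D.group K)) : GL D.Idx K) = xG hp.inList s 1)
    rw [← h3, mul_inv_cancel_right] at h4
    have h5 := xG_injective hp.inList hs h4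
    rcases Int.even_or_odd (D.cartan i s) with h6 | h6
    · exact h6
    · exfalso
      rw [h6.neg_one_zpow] at h5
      apply h2K
      linear_combination h5
  · intro h1 u hu
    obtain ⟨t, ht⟩ := (mem_XX_vec hp K hs).1 hu
    rw [Subgroup.mem_centralizer_singleton_iff]
    have h4 := key u t ht
    rw [h1.neg_one_zpow, one_mul, ← ht] at h4
    have h5 : phi hp K i (-1) * u * (phi hp K i (-1))⁻¹ = u := Subtype.ext h4
    exact (mul_inv_eq_iff_eq_mul.1 h5).symm

/-- the sum of two roots is a root -/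
def addOK (D : ChevalleyDatum) (l r s t : ℕ) : Bool :=
  (List.range l).all fun j => rt D t j == rt D r j + rt D s j

/-- the fundamental root `i` is isolated among the roots with even Cartan integer, and it is the only one up to the sign -/
def chkIso (D : ChevalleyDatum) (l i : ℕ) (cert : List (ℕ × ℕ × ℕ)) : Bool :=
  ((List.range D.nroots).all fun s => D.cartan i s % 2 != 0 ||
    (List.range D.nroots).all fun t => !(addOK D l (D.simple i) s t)) &&
  (cert.all fun c => decide (c.2.1 < D.nroots) && decide (c.2.2 < D.nroots) && D.cartan i c.2.1 % 2 == 0 &&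
    addOK D l c.1 c.2.1 c.2.2) &&
  ((List.range D.nroots).all fun r => D.cartan i r % 2 != 0 || r == D.simple i || r == D.neg (D.simple i) ||
    cert.any fun c => c.1 == r)

theorem addOK_iff {r s t : ℕ} : addOK D l r s t = true ↔ vec D l t = vec D l r + vec D l s := by
  unfold addOK
  rw [List.all_eq_true]
  constructor
  · intro h
    funext j
    have := h j (List.mem_range.2 j.2)
    rw [beq_iff_eq] at this
    exact this
  · intro h j hj
    rw [beq_iff_eq]
    exact congrFun h ⟨j, List.mem_range.1 hj⟩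

/-- **The Weyl group elements centralising the involution fix the root up to the sign.** -/
theorem isolated (h2K : (2 : K) ≠ 0) {W : Type*} [Group W] (cs : CoxeterSystem M W) {cert : List (ℕ × ℕ × ℕ)}
    (hc : chkIso D l i cert = true) (w : W)
    (hw : ∀ x, IsRoot cs hp.isCartan x → (XX D l K x ≤ Subgroup.centralizer ({phi hp K i (-1)} : Set ↥(D.group K)) ↔
      XX D l K (rep cs hp.isCartan w x) ≤ Subgroup.centralizer ({phi hp K i (-1)} : Set ↥(D.group K)))) :
    rep cs hp.isCartan w (sr i) = sr i ∨ rep cs hp.isCartan w (sr i) = -sr i := by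
  unfold chkIso at hc
  simp only [Bool.and_eq_true] at hc
  obtain ⟨⟨hc1, hc2⟩, hc3⟩ := hc
  have hr0 := simple_lt hp.inList (lt_rank hp i)
  have hroot : IsRoot cs hp.isCartan (sr i) := isRoot_sr cs hp.isCartan i
  obtain ⟨r, hr, hrw⟩ := (isRoot_iff hp cs _).1 (hroot.act w)
  have heven : Even (D.cartan i r) := by
    rw [← le_cent_iff hp K i h2K hr, hrw, ← hw _ hroot, ← vec_simple hp i, le_cent_iff hp K i h2K hr0]
    rw [show D.cartan i (D.simple i) = 2 by
      have := hp.isCartan.diag i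
      rwa [cartanOf_def] at this]
    exact even_two
  have h3 := List.all_eq_true.1 hc3 r (List.mem_range.2 hr)
  simp only [Bool.or_eq_true, bne_iff_ne, beq_iff_eq, List.any_eq_true] at h3
  rcases h3 with ((h3 | h3) | h3) | ⟨c, hcm, hcr⟩
  · exact absurd (Int.even_iff.1 heven) h3
  · left
    rw [← hrw, h3, vec_simple hp i]
  · right
    rw [← hrw, h3, vec_neg hp hr0, vec_simple hp i]
  · exfalso
    have h4 := List.all_eq_true.1 hc2 c hcm
    simp only [Bool.and_eq_true, decide_eq_true_eq, beq_iff_eq] at h4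
    obtain ⟨⟨⟨hs, ht⟩, hse⟩, hadd⟩ := h4
    rw [addOK_iff, hcr] at hadd
    -- apply `w⁻¹`
    have hxr : IsRoot cs hp.isCartan (rep cs hp.isCartan w⁻¹ (vec D l c.2.1)) := (isRoot_vec hp cs hs).act _
    obtain ⟨s', hs', hs'w⟩ := (isRoot_iff hp cs _).1 hxr
    obtain ⟨t', ht', ht'w⟩ := (isRoot_iff hp cs _).1 ((isRoot_vec hp cs ht).act w⁻¹)
    have hs'e : Even (D.cartan i s') := by
      rw [← le_cent_iff hp K i h2K hs', hs'w, hw _ hxr, rep_apply_inv, le_cent_iff hp K i h2K hs, Int.even_iff]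
      exact hse
    have hsum : vec D l t' = vec D l (D.simple i) + vec D l s' := by
      rw [ht'w, hs'w, hadd, map_add, hrw, rep_inv_apply, vec_simple hp i]
    have h5 := List.all_eq_true.1 hc1 s' (List.mem_range.2 hs')
    simp only [Bool.or_eq_true, bne_iff_ne] at h5
    rcases h5 with h5 | h5
    · exact h5 (Int.even_iff.1 hs'e)
    · have h6 := List.all_eq_true.1 h5 t' (List.mem_range.2 ht')
      rw [addOK_iff.2 hsum] at h6
      simp at h6

/-- **The centraliser of the involution normalises the `SL₂`.** -/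
theorem nrm [Fintype K] (hK : Odd (Fintype.card K)) (h1 : Chev.chk D i = true) {cert : List (ℕ × ℕ × ℕ)}
    (hc : chkIso D l i cert = true) : ∀ g : ↥(D.group K), g * phi hp K i (-1) = phi hp K i (-1) * g →
      ∀ x ∈ (phi hp K i).range, g * x * g⁻¹ ∈ (phi hp K i).range := by
  classical
  obtain ⟨p, hpc⟩ := CharP.exists K
  have hpp : p.Prime := (CharP.char_is_prime_or_zero K p).resolve_right (CharP.char_ne_zero_of_finite K p)
  have : Fact p.Prime := ⟨hpp⟩
  have h2K : (2 : K) ≠ 0 := two_ne_of_odd hK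
  have hp2 : Odd p := by
    rcases hpp.eq_two_or_odd' with rfl | h
    · exact absurd (by exact_mod_cast CharP.cast_eq_zero K 2) h2K
    · exact h
  let cs : CoxeterSystem M M.Group := M.toCoxeterSystem
  have hfin : Finite M.Group := finite_W hp cs
  have R := rgd (K := K) hp cs p
  rw [range_eq_JX hp K i]
  refine nrm_of_rgd R (KFacts.RgdRigid.GG_eq_top (G1_eq_top hp cs)) (neg_one_mem_T hp K i)
    (isRoot_sr cs hp.isCartan i) (fun x hx hx1 hx2 u hu v hv => ?_) (isolated hp K i h2K cs hc)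
  rw [← range_eq_JX hp K i] at hv
  rcases other hp K i cs h1 hx hx1 hx2 with h3 | h3
  · have h4 : u * u = 1 := by
      have h5 := h3 u (mem_ZX.1 hu).1
      rw [(mem_ZX.1 hu).2, mul_inv_cancel_right] at h5
      nth_rewrite 1 [h5]
      rw [inv_mul_cancel]
    have h5 : u = 1 := by
      obtain ⟨k, hk⟩ := R.pgrp' hx ⟨u, (mem_ZX.1 hu).1⟩
      have h6 : u ^ p ^ k = 1 := congrArg Subtype.val hk
      have h7 : orderOf u ∣ 2 := orderOf_dvd_of_pow_eq_one (by rw [pow_two, h4])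
      have h8 : orderOf u ∣ p ^ k := orderOf_dvd_of_pow_eq_one h6
      have h9 : orderOf u ∣ 1 := by
        have hc : Nat.Coprime 2 (p ^ k) := Nat.Coprime.pow_right _ (Nat.coprime_two_left.2 hp2)
        rw [← hc]
        exact Nat.dvd_gcd h7 h8
      rwa [Nat.dvd_one, orderOf_eq_one_iff] at h9
    subst h5
    rw [one_mul, mul_one]
  · exact h3 u (mem_ZX.1 hu).1 v hv

end Main

end Cfsg.Agent.H785.SpE7
end

-- part: H785/SpE7Idx
section
/-!
# The index of the centraliser of the long involution of `E₇(q)`, `q` odd, is odd (helper785)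
-/

set_option autoImplicit false
set_option linter.unusedSectionVars false

namespace Cfsg.Agent.H785.SpE7

open CoxeterSystem Cfsg.Agent.ChevalleyStructure.CoxeterGeom Cfsg.Agent.Tits.Roots Cfsg.Agent.Tits.Core
  Cfsg.Agent.Tits.Exchange Cfsg.Agent.Nodes.Reps Cfsg.Agent.Nodes.BNOf Cfsg.Agent.Nodes.StabComb
  Cfsg.Agent.Nodes.Bruhat Cfsg.Agent.Nodes.LeviDec Cfsg.Agent.Nodes.NormalForm Cfsg.Agent.Nodes.CardSup
open Cfsg Cfsg.Lie Cfsg.Lie.ChevalleyDatum
open Cfsg.Agent.ChevalleyStructure Cfsg.Agent.ChevalleyStructure.Elts Cfsg.Agent.ChevalleyStructure.NPerm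
  Cfsg.Agent.ChevalleyStructure.CoxeterGeomTypes Cfsg.Agent.ChevalleyStructure.RootVecTab
  Cfsg.Agent.ChevalleyStructure.RootVec
open Cfsg.Agent.Nodes.RGDChev Cfsg.Agent.OddHalf.LongSL Cfsg.Agent.OddHalf.LongSL.Chev
open Cfsg.Agent.KFacts.RgdChevCoord (TT XX)
open Cfsg.Agent.H81.PJTab Cfsg.Agent.H785.SpOdd

/-! ### `SL₂` -/

section SL

variable {F : Type*} [Field F]

/-- the Borel subgroup of `SL₂` -/
def B0 (F : Type*) [Field F] : Subgroup (Matrix.SpecialLinearGroup (Fin 2) F) where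
  carrier := {s | s.1 1 0 = 0}
  one_mem' := by
    show (1 : Matrix (Fin 2) (Fin 2) F) 1 0 = 0
    simp
  mul_mem' := by
    intro a b ha hb
    have ha' : a.1 1 0 = 0 := ha
    have hb' : b.1 1 0 = 0 := hb
    show (a.1 * b.1) 1 0 = 0
    rw [Matrix.mul_apply, Fin.sum_univ_two, ha', hb']
    ring
  inv_mem' := by
    intro a ha
    have ha' : a.1 1 0 = 0 := ha
    show (Matrix.adjugate a.1) 1 0 = 0
    rw [Matrix.adjugate_fin_two]
    simp [ha']

theorem card_B0 [Fintype F] : Nat.card ↥(B0 F) = (Fintype.card F - 1) * Fintype.card F := by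
  classical
  have h : Nat.card ↥(B0 F) = Nat.card (Fˣ × F) := by
    symm
    refine Nat.card_congr
      { toFun := fun x => ⟨⟨!![(x.1 : F), x.2; 0, ((x.1⁻¹ : Fˣ) : F)], by
          rw [Matrix.det_fin_two_of]; simp⟩, by
          show (!![(x.1 : F), x.2; 0, ((x.1⁻¹ : Fˣ) : F)] : Matrix (Fin 2) (Fin 2) F) 1 0 = 0
          simp⟩
        invFun := fun s => ⟨⟨s.1.1 0 0, s.1.1 1 1, by
            have h1 := s.1.2
            have h2 : s.1.1 1 0 = 0 := s.2
            rw [Matrix.det_fin_two, h2, mul_zero, sub_zero] at h1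
            exact h1, by
            have h1 := s.1.2
            have h2 : s.1.1 1 0 = 0 := s.2
            rw [Matrix.det_fin_two, h2, mul_zero, sub_zero] at h1
            rw [mul_comm]; exact h1⟩, s.1.1 0 1⟩
        left_inv := ?_
        right_inv := ?_ }
    · rintro ⟨u, x⟩
      refine Prod.ext (Units.ext ?_) ?_
      · simp
      · simp
    · rintro ⟨⟨s, hs⟩, hs0⟩
      have h2 : s 1 0 = 0 := hs0
      have h1 : s 0 0 * s 1 1 = 1 := by
        rw [Matrix.det_fin_two, h2, mul_zero, sub_zero] at hs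
        exact hs
      apply Subtype.ext
      apply Subtype.ext
      ext i j
      fin_cases i <;> fin_cases j
      · simp
      · simp
      · simp [h2]
      · simp
  rw [h, Nat.card_prod, Nat.card_eq_fintype_card, Nat.card_eq_fintype_card, Fintype.card_units]

/-- `|SL_n(q)| (q-1) = |GL_n(q)|`. -/
theorem card_sl_mul [Fintype F] (n : ℕ) [NeZero n] :
    Nat.card Fˣ * Nat.card (Matrix.SpecialLinearGroup (Fin n) F) = Nat.card (GL (Fin n) F) := by
  classical
  have h1 : (Matrix.GeneralLinearGroup.det (n := Fin n) (R := F)).range = ⊤ := by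
    rw [MonoidHom.range_eq_top]
    intro u
    refine ⟨Matrix.GeneralLinearGroup.mk' (Matrix.diagonal (Function.update 1 0 (u : F))) ?_, ?_⟩
    · rw [Matrix.det_diagonal, Finset.prod_update_of_mem (Finset.mem_univ _)]
      simp only [Pi.one_apply, Finset.prod_const_one, mul_one]
      exact invertibleOfNonzero u.ne_zero
    · ext
      change Matrix.det (Matrix.diagonal (Function.update 1 0 (u : F))) = u
      rw [Matrix.det_diagonal, Finset.prod_update_of_mem (Finset.mem_univ _)]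
      simp
  have h2 : Nat.card (Matrix.GeneralLinearGroup.det (n := Fin n) (R := F)).ker =
      Nat.card (Matrix.SpecialLinearGroup (Fin n) F) := by
    refine Nat.card_congr ⟨fun A => ⟨A.1.1, ?_⟩, fun A => ⟨Matrix.SpecialLinearGroup.toGL A, ?_⟩, ?_, ?_⟩
    · have := A.2
      rw [MonoidHom.mem_ker] at this
      simpa using congrArg Units.val this
    · rw [MonoidHom.mem_ker]
      ext
      simp
    · intro A
      ext
      rfl
    · intro A
      ext
      simp
  rw [← Subgroup.card_mul_index (Matrix.GeneralLinearGroup.det (n := Fin n) (R := F)).ker, h2,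
    Subgroup.index_ker, h1, mul_comm]
  simp

theorem card_SL [Fintype F] : Nat.card (Matrix.SpecialLinearGroup (Fin 2) F) =
    Nat.card ↥(B0 F) * (Fintype.card F + 1) := by
  classical
  rw [card_B0]
  have h := card_sl_mul (F := F) 2
  obtain ⟨q, hF⟩ : ∃ q, Fintype.card F = q := ⟨_, rfl⟩
  rw [Matrix.card_GL_field] at h
  simp only [Fin.prod_univ_two, Nat.card_eq_fintype_card, Fintype.card_units, hF] at h
  have hq : 2 ≤ q := hF ▸ Fintype.one_lt_card
  rw [Nat.card_eq_fintype_card, hF]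
  have h3 : (q - 1) * Fintype.card (Matrix.SpecialLinearGroup (Fin 2) F) = (q - 1) * ((q - 1) * q * (q + 1)) := by
    rw [h]
    obtain ⟨k, rfl⟩ : ∃ k, q = k + 1 := ⟨q - 1, by omega⟩
    simp
    have h4 : (k + 1) ^ 2 - (k + 1) = k * (k+1) := by
      rw [Nat.sub_eq_iff_eq_add (by nlinarith)]; ring
    have h5 : (k + 1) ^ 2 - 1 = k * (k + 2) := by
      rw [Nat.sub_eq_iff_eq_add (by nlinarith)]; ring
    rw [h4, h5]; ring
  exact Nat.eq_of_mul_eq_mul_left (by omega) h3

theorem exists_card [Fintype F] {H : Subgroup (Matrix.SpecialLinearGroup (Fin 2) F)} (hH : ∀ s ∈ H, s.1 1 0 = 0) :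
    ∃ c, c * (Fintype.card F + 1) * Nat.card H = Nat.card (Matrix.SpecialLinearGroup (Fin 2) F) := by
  have h1 : H ≤ B0 F := hH
  obtain ⟨c, hc⟩ := Subgroup.card_dvd_of_le h1
  refine ⟨c, ?_⟩
  rw [card_SL, hc]
  ring

end SL

section Main

variable {D : ChevalleyDatum} {l : ℕ} {M : CoxeterMatrix (Fin l)} (hp : IsType D l M) (K : Type) [Field K]
variable (i : Fin l)

include hp in
/-- subgroups of the `SL₂` normalising the root group -/
theorem hcard [Fintype K] (h2K : (2 : K) ≠ 0) (h2 : chkOdd D i = true) (H : Subgroup ↥(D.group K))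
    (hH : H ≤ XX D l K (sr i) ⊔ XX D l K (-sr i)) (hHn : H ≤ Subgroup.normalizer (XX D l K (sr i) : Set ↥(D.group K))) :
    ∃ c, c * (Fintype.card K + 1) * Nat.card H = Nat.card ↥(XX D l K (sr i) ⊔ XX D l K (-sr i)) := by
  have hinj := phi_injective hp K i h2K h2
  rw [← range_eq_sup hp K i] at hH ⊢
  have h3 : Nat.card ↥(phi hp K i).range = Nat.card (Matrix.SpecialLinearGroup (Fin 2) K) :=
    (Nat.card_congr (MonoidHom.ofInjective hinj).toEquiv).symm
  have h4 : Nat.card ↥(H.comap (phi hp K i)) = Nat.card H := by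
    have h5 : (H.comap (phi hp K i)).map (phi hp K i) = H := Subgroup.map_comap_eq_self hH
    rw [← Nat.card_congr ((H.comap (phi hp K i)).equivMapOfInjective _ hinj).toEquiv.symm, h5]
  rw [h3, ← h4]
  refine exists_card fun s hs => ?_
  have h5 : phi hp K i (SL2Hom.up 1) ∈ XX D l K (sr i) := (mem_XX_sr hp K i).2 ⟨1, rfl⟩
  have h6 := (Subgroup.mem_normalizer_iff.1 (hHn hs) _).1 h5
  obtain ⟨t, ht⟩ := (mem_XX_sr hp K i).1 h6
  rw [← map_mul, ← map_inv, ← map_mul] at ht
  have h7 := hinj ht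
  have h8 : SL2Hom.up t * s = s * SL2Hom.up 1 := by rw [h7]; group
  have h9 := congrArg (fun g : Matrix.SpecialLinearGroup (Fin 2) K => g.1 1 1) h8
  have e1 : (SL2Hom.up t * s).1 1 1 = s.1 1 1 := by
    show ((SL2Hom.up t).1 * s.1) 1 1 = _
    rw [Matrix.mul_apply, Fin.sum_univ_two]
    show (0 : K) * s.1 0 1 + 1 * s.1 1 1 = _
    ring
  have e2 : (s * SL2Hom.up (1 : K)).1 1 1 = s.1 1 0 + s.1 1 1 := by
    show (s.1 * (SL2Hom.up (1 : K)).1) 1 1 = _
    rw [Matrix.mul_apply, Fin.sum_univ_two]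
    show s.1 1 0 * 1 + s.1 1 1 * 1 = _
    ring
  simp only [e1, e2] at h9
  linear_combination -h9

/-- the action of a word on the indices of the roots -/
def act (D : ChevalleyDatum) {l : ℕ} (ω : List (Fin l)) (r : ℕ) : ℕ := ω.foldr (fun i s => D.reflectRoot i s) r

theorem rep_word {W : Type*} [Group W] (cs : CoxeterSystem M W) (ω : List (Fin l)) {r : ℕ} (hr : r < D.nroots) :
    act D ω r < D.nroots ∧ rep cs hp.isCartan (cs.wordProd ω) (vec D l r) = vec D l (act D ω r) := by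
  induction ω with
  | nil =>
    refine ⟨hr, ?_⟩
    rw [wordProd_nil, map_one, Module.End.one_apply]
    rfl
  | cons i ω ih =>
    refine ⟨reflectRoot_lt hp.inList (lt_rank hp i) ih.1, ?_⟩
    rw [wordProd_cons, rep_mul_apply, ih.2, rep_vec hp cs i ih.1]
    rfl

/-- the nodes `J` are orthogonal to the root `r` -/
def orthOK (D : ChevalleyDatum) {l : ℕ} (J : List (Fin l)) (r : ℕ) : Bool :=
  J.all fun j => D.reflectRoot j r == r && r != D.simple j && r != D.neg (D.simple j) && D.neg r != D.simple j &&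
    D.neg r != D.neg (D.simple j) && (D.commTerms (D.simple j) r).isEmpty && (D.commTerms (D.simple j) (D.neg r)).isEmpty

/-- **The index of the centraliser is odd.** -/
theorem index [Fintype K] (hK : Odd (Fintype.card K)) (h2 : chkOdd D i = true) {ω J : List (Fin l)}
    (h3 : orthOK D J (act D ω (D.simple i)) = true) {Al : List (List ℤ)}
    (hA : ∀ i j : Fin l, (Al.getD i []).getD j 0 = cartanOf D l i j) {l0 : List ℤ}
    {Tb : List (List ℤ × List (Fin l))} {Jall : List (Fin l)} (hall : ∀ j, j ∈ Jall)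
    (O : Ok l Al Jall l0 Tb) (hJ : ∀ j : Fin l, j ∈ J ↔ toF l l0 j = 0) {N : ℕ → ℕ} (hN : Odd (N (Fintype.card K)))
    (hsum : (Tb.map fun e => Fintype.card K ^ e.2.length).sum = (Fintype.card K + 1) * N (Fintype.card K)) :
    ¬ 2 ∣ (Subgroup.centralizer ({phi hp K i (-1)} : Set ↥(D.group K))).index := by
  classical
  obtain ⟨p, hpc⟩ := CharP.exists K
  have hpp : p.Prime := (CharP.char_is_prime_or_zero K p).resolve_right (CharP.char_ne_zero_of_finite K p)
  have : Fact p.Prime := ⟨hpp⟩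
  have h2K : (2 : K) ≠ 0 := two_ne_of_odd hK
  have hp2 : p ≠ 2 := by
    rintro rfl
    exact h2K (by exact_mod_cast CharP.cast_eq_zero K 2)
  let cs : CoxeterSystem M M.Group := M.toCoxeterSystem
  have hfin : Finite M.Group := finite_W hp cs
  have R := rgd (K := K) hp cs p
  have hft : Fintype ↥(WJ cs {j | j ∈ Jall}) := Fintype.ofFinite _
  have hft' : Fintype ↥(WJ cs {j | toF l l0 j = 0}) := Fintype.ofFinite _
  have hr0 := simple_lt hp.inList (lt_rank hp i)
  obtain ⟨hr, hrep⟩ := rep_word hp cs ω hr0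
  set r := act D ω (D.simple i) with hrd
  rw [vec_simple hp i] at hrep
  have hbr : IsRoot cs hp.isCartan (vec D l r) := isRoot_vec hp cs hr
  have hroot : IsRoot cs hp.isCartan (sr i) := isRoot_sr cs hp.isCartan i
  obtain ⟨g, hg⟩ := exists_rp cs R.nsys (cs.wordProd ω)
  have hc1 : cj g (XX D l K (sr i)) = XX D l K (vec D l r) := by rw [R.conj_rp hg hroot, hrep]
  have hc2 : cj g (XX D l K (-sr i)) = XX D l K (-vec D l r) := by rw [R.conj_rp hg hroot.neg, map_neg, hrep]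
  have hc3 : cj g (XX D l K (sr i) ⊔ XX D l K (-sr i)) = XX D l K (vec D l r) ⊔ XX D l K (-vec D l r) := by
    rw [cj_sup, hc1, hc2]
  have hJ' : ∀ j ∈ J, D.reflectRoot j r = r ∧ (r ≠ D.simple j ∧ r ≠ D.neg (D.simple j) ∧ D.neg r ≠ D.simple j ∧
      D.neg r ≠ D.neg (D.simple j)) ∧ D.commTerms (D.simple j) r = [] ∧ D.commTerms (D.simple j) (D.neg r) = [] := by
    intro j hj
    have h4 := List.all_eq_true.1 h3 j hj
    simp only [Bool.and_eq_true, beq_iff_eq, bne_iff_ne, List.isEmpty_iff] at h4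
    exact ⟨h4.1.1.1.1.1.1, ⟨h4.1.1.1.1.1.2, h4.1.1.1.1.2, h4.1.1.1.2, h4.1.1.2⟩, h4.1.2, h4.2⟩
  set z : ↥(D.group K) := phi hp K i (-1) with hz
  -- the index of the conjugate
  have hidx : (Subgroup.centralizer ({z} : Set ↥(D.group K))).index =
      (Subgroup.centralizer ({g * z * g⁻¹} : Set ↥(D.group K))).index := by
    have h4 : cj g (Subgroup.centralizer ({z} : Set ↥(D.group K))) =
        Subgroup.centralizer ({g * z * g⁻¹} : Set ↥(D.group K)) := by
      ext u
      rw [mem_cj, Subgroup.mem_centralizer_singleton_iff, Subgroup.mem_centralizer_singleton_iff]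
      constructor
      · intro h5
        calc u * (g * z * g⁻¹) = g * (g⁻¹ * u * g * z) * g⁻¹ := by group
          _ = g * (z * (g⁻¹ * u * g)) * g⁻¹ := by rw [h5]
          _ = g * z * g⁻¹ * u := by group
      · intro h5
        calc g⁻¹ * u * g * z = g⁻¹ * (u * (g * z * g⁻¹)) * g := by group
          _ = g⁻¹ * (g * z * g⁻¹ * u) * g := by rw [h5]
          _ = z * (g⁻¹ * u * g) := by group
    have h5 : Nat.card ↥(Subgroup.centralizer ({z} : Set ↥(D.group K))) =
        Nat.card ↥(Subgroup.centralizer ({g * z * g⁻¹} : Set ↥(D.group K))) := by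
      rw [← h4]
      exact Nat.card_congr ((Subgroup.centralizer ({z} : Set ↥(D.group K))).equivMapOfInjective _
        (MulAut.conj g).injective).toEquiv
    have h6 := Subgroup.card_mul_index (Subgroup.centralizer ({z} : Set ↥(D.group K)))
    rw [← Subgroup.card_mul_index (Subgroup.centralizer ({g * z * g⁻¹} : Set ↥(D.group K))), h5] at h6
    exact Nat.eq_of_mul_eq_mul_left Nat.card_pos h6
  rw [hidx]
  have hzT : g * z * g⁻¹ ∈ TT D K := (Subgroup.mem_normalizer_iff.1 hg.mem_normalizer z).1 (neg_one_mem_T hp K i)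
  have hzJ : z ∈ XX D l K (sr i) ⊔ XX D l K (-sr i) := by
    rw [← range_eq_sup hp K i]; exact ⟨-1, rfl⟩
  refine not_two_dvd_index R hp2 (J := {j | toF l l0 j = 0}) hbr (fun j hj => ?_) (fun j hj u hu v hv => ?_) hN
    (q := Fintype.card K) ?_ (fun H hH hHn => ?_) (fun t ht => T_comm hp K ht hzT) ?_ (fun v hv => ?_)
  · rw [rep_vec hp cs j hr, (hJ' j ((hJ j).2 hj)).1]
  · obtain ⟨e1, ⟨n1, n2, n3, n4⟩, c1, c2⟩ := hJ' j ((hJ j).2 hj)
    have hsj := simple_lt hp.inList (lt_rank hp j)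
    have hu' : ∃ t, (u : GL D.Idx K) = xG hp.inList (D.simple j) t := by
      rw [← vec_simple hp j] at hu
      exact (mem_XX_vec hp K hsj).1 hu
    obtain ⟨t, ht⟩ := hu'
    have h5 : XX D l K (vec D l r) ⊔ XX D l K (-vec D l r) ≤ Subgroup.centralizer ({u} : Set ↥(D.group K)) := by
      refine sup_le (fun v hv => ?_) (fun v hv => ?_)
      · rw [Subgroup.mem_centralizer_singleton_iff]
        obtain ⟨c, hcv⟩ := (mem_XX_vec hp K hr).1 hv
        apply Subtype.ext
        rw [Subgroup.coe_mul, Subgroup.coe_mul, hcv, ht]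
        exact commute_xG hp K hsj hr n1 n2 c1 t c
      · rw [Subgroup.mem_centralizer_singleton_iff]
        rw [← vec_neg hp hr] at hv
        obtain ⟨c, hcv⟩ := (mem_XX_vec hp K (neg_lt hp.inList hr)).1 hv
        apply Subtype.ext
        rw [Subgroup.coe_mul, Subgroup.coe_mul, hcv, ht]
        exact commute_xG hp K hsj (neg_lt hp.inList hr) n3 n4 c2 t c
    exact (Subgroup.mem_centralizer_singleton_iff.1 (h5 hv)).symm
  · -- the order
    have h4 := Cfsg.Agent.H296.FFourPar.card_PJ_gen R {j | j ∈ Jall}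
    have h5 := Cfsg.Agent.H296.FFourPar.card_PJ_gen R {j | toF l l0 j = 0}
    have h6 := sum_tab_eq R hA O
    have h7 : (fun i : Fin l => Nat.card ↥(XX D l K (sr i))) = fun _ => Fintype.card K := by
      funext i
      rw [card_X hp K cs (isRoot_sr cs hp.isCartan i), Nat.card_eq_fintype_card]
    have h8 : (Tb.map fun e => (e.2.map fun i => Nat.card ↥(XX D l K (sr i))).prod) =
        Tb.map fun e => Fintype.card K ^ e.2.length := by
      refine List.map_congr_left fun e _ => ?_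
      show (e.2.map fun i => Nat.card ↥(XX D l K (sr i))).prod = _
      rw [h7, List.map_const', List.prod_replicate]
    have h9 : PJ cs hp.isCartan (TT D K) (XX D l K) {j | j ∈ Jall} = ⊤ := by
      have h10 : ({j | j ∈ Jall} : Set (Fin l)) = Set.univ := Set.eq_univ_of_forall hall
      rw [h10, eq_top_iff]
      have h11 : GG cs hp.isCartan (TT D K) (XX D l K) = ⊤ := KFacts.RgdRigid.GG_eq_top (G1_eq_top hp cs)
      rw [← h11, ← LJ_univ]
      exact LJ_le_PJ
    rw [h9, Subgroup.card_top] at h4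
    rw [h4, h5]
    have h12 := h6
    rw [show (Tb.map fun e => (e.2.map fun i => Nat.card ↥((fun x => (XV D l K x).subgroupOf (D.group K)) (sr i))).prod) =
      Tb.map fun e => Fintype.card K ^ e.2.length from h8, hsum] at h12
    rw [h12]
    ring
  · -- subgroups normalising the root group
    have h4 : cj g⁻¹ H ≤ XX D l K (sr i) ⊔ XX D l K (-sr i) := by
      have h5 := cj_mono g⁻¹ hH
      rwa [← hc3, cj_inv_cj] at h5
    have h5 : cj g⁻¹ H ≤ Subgroup.normalizer (XX D l K (sr i) : Set ↥(D.group K)) := by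
      intro u hu
      rw [mem_cj, inv_inv] at hu
      have h6 : cj (g * u * g⁻¹) (XX D l K (vec D l r)) = XX D l K (vec D l r) := mem_normalizer_iff_cj.1 (hHn hu)
      rw [mem_normalizer_iff_cj]
      have h7 : cj g (cj u (XX D l K (sr i))) = cj g (XX D l K (sr i)) := by
        rw [← hc1, ← cj_mul, inv_mul_cancel_right, cj_mul] at h6
        exact h6
      have h8 := congrArg (cj g⁻¹) h7
      rwa [cj_inv_cj, cj_inv_cj] at h8
    obtain ⟨c, hc⟩ := hcard hp K i h2K h2 _ h4 h5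
    refine ⟨c, ?_⟩
    have h6 : Nat.card ↥(cj g⁻¹ H) = Nat.card H :=
      (Nat.card_congr (H.equivMapOfInjective _ (MulAut.conj g⁻¹).injective).toEquiv).symm
    have h7 : Nat.card ↥(XX D l K (vec D l r) ⊔ XX D l K (-vec D l r)) = Nat.card ↥(XX D l K (sr i) ⊔ XX D l K (-sr i)) := by
      rw [← hc3]
      exact (Nat.card_congr ((XX D l K (sr i) ⊔ XX D l K (-sr i)).equivMapOfInjective _
        (MulAut.conj g).injective).toEquiv).symm
    rw [h6] at hc
    rw [← h7] at hc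
    exact hc
  · rw [← hc3]
    exact conj_mem_cj.2 hzJ
  · rw [← hc3] at hv
    have h4 := mem_cj.1 hv
    rw [← range_eq_sup hp K i] at h4
    obtain ⟨s, hs⟩ := h4
    have h5 := neg_one_comm hp K i s
    rw [hs, ← hz] at h5
    calc v * (g * z * g⁻¹) = g * (g⁻¹ * v * g * z) * g⁻¹ := by group
      _ = g * (z * (g⁻¹ * v * g)) * g⁻¹ := by rw [h5]
      _ = g * z * g⁻¹ * v := by group

end Main

end Cfsg.Agent.H785.SpE7
end

-- part: H785/SpLg
section
/-!
# Long involutions: `Lg` from an injective homomorphism of `SL₂(q)`, `q` odd (helper785)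
-/

set_option autoImplicit false
set_option linter.unusedSectionVars false

namespace Cfsg.Agent.H785.SpSL

open Subgroup Cfsg.Agent.H336.SpSix Cfsg.Agent.H785.SpLong

local notation "SL2" => Matrix.SpecialLinearGroup (Fin 2)

variable {F : Type*} [Field F] [Fintype F]

theorem four_dvd (hF : Odd (Fintype.card F)) : 4 ∣ Nat.card (SL2 F) := by
  rw [Cfsg.Agent.H785.SpE7.card_SL, Cfsg.Agent.H785.SpE7.card_B0]
  obtain ⟨k, hk⟩ := hF
  rw [hk]
  have h1 : 2 * k + 1 - 1 = 2 * k := by omega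
  rw [h1]
  exact ⟨k * (2 * k + 1) * (k + 1), by ring⟩

/-- **The facts on the long involution**: `phi` is an injective homomorphism of `SL₂(q)`, `q` odd, and `C(phi(-1))` normalises
the image. -/
theorem lg_of_phi {K : Type*} [Group K] (hF : Odd (Fintype.card F)) (φ : SL2 F →* K) (hi : Function.Injective φ)
    (hn : ∀ g : K, g * φ (-1) = φ (-1) * g → ∀ x ∈ φ.range, g * x * g⁻¹ ∈ φ.range) : Lg (φ (-1)) φ.range := by
  classical
  have h2 : (2 : F) ≠ 0 := Cfsg.Agent.OddHalf.LongSL.two_ne_of_odd hF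
  have hne : (-1 : SL2 F) ≠ 1 := by
    intro h
    have h1 := congrArg (fun s : SL2 F => s.1 0 0) h
    have h3 : (-1 : F) = 1 := by simpa using h1
    apply h2
    linear_combination -h3
  have hneg : ∀ x : SL2 F, x * -1 = -1 * x := fun x => by rw [neg_one_mul, mul_neg_one]
  refine ⟨?_, ?_, ⟨-1, rfl⟩, ?_, hn, ?_, ?_, ?_, ?_, ?_⟩
  · intro h
    exact hne (hi (by rw [h, map_one]))
  · rw [← map_mul]
    have : (-1 : SL2 F) * -1 = 1 := by simp
    rw [this, map_one]
  · rintro _ ⟨s, rfl⟩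
    rw [← map_mul, ← map_mul, hneg]
  · rintro _ ⟨s, rfl⟩ h
    rw [← map_mul] at h
    rcases sl_sq hF (hi (h.trans (map_one φ).symm)) with rfl | rfl
    · left; exact map_one φ
    · right; rfl
  · intro D hD hDn hodd
    have hE : (D.comap φ).map φ = D := Subgroup.map_comap_eq_self hD
    have hcard : Nat.card ↥(D.comap φ) = Nat.card D := by
      rw [← Nat.card_congr ((D.comap φ).equivMapOfInjective _ hi).toEquiv.symm, hE]
    have hN : (D.comap φ).Normal := by
      refine ⟨fun x hx g => ?_⟩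
      show φ (g * x * g⁻¹) ∈ D
      rw [map_mul, map_mul, map_inv]
      exact hDn _ ⟨g, rfl⟩ _ hx
    have h3 : D.comap φ ≤ Cfsg.oddCore (SL2 F) := by
      refine Cfsg.Agent.Lib.Cores.le_pPrimeCore hN ?_
      rw [hcard]
      exact Nat.coprime_two_right.2 hodd
    rw [Cfsg.Agent.TypeLFive.LThreeSLTwo.oddCore_sl hF, le_bot_iff] at h3
    rw [← hE, h3, Subgroup.map_bot]
  · rw [← Nat.card_congr (MonoidHom.ofInjective hi).toEquiv]
    exact four_dvd hF
  · rintro _ ⟨s, rfl⟩ h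
    have h3 : ∀ x, s * x = x * s := fun x => hi (by rw [map_mul, map_mul]; exact h _ ⟨x, rfl⟩)
    rcases sl_center hF h3 with rfl | rfl
    · rw [map_one, one_mul]
    · rw [← map_mul]
      have : (-1 : SL2 F) * -1 = 1 := by simp
      rw [this, map_one]
  · intro f hf hfj hfi
    have h0 : f 0 = 1 := by
      have := hf 0 0
      rw [add_zero] at this
      exact left_eq_mul.mp this
    have hsq : ∀ u, f u * f u = 1 := fun u => by rw [← hf, v_add_self, h0]
    have hT : ∀ u s, ∃ t, φ t = f u * φ s * (f u)⁻¹ := fun u s => hn (f u) (hfj u) _ ⟨s, rfl⟩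
    choose T hT using hT
    have hTT : ∀ u s, T u (T u s) = s := fun u s => hi (by
      rw [hT, hT]
      have h3 : (f u)⁻¹ = f u := inv_eq_of_mul_eq_one_left (hsq u)
      calc f u * (f u * φ s * (f u)⁻¹) * (f u)⁻¹ = (f u * f u) * φ s * ((f u)⁻¹ * (f u)⁻¹) := by group
        _ = φ s := by rw [h3, hsq]; group)
    let Φ : V → MulAut (SL2 F) := fun u =>
      { toFun := T u
        invFun := T u
        left_inv := hTT u
        right_inv := hTT u
        map_mul' := fun x y => hi (by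
          show φ (T u (x * y)) = φ (T u x * T u y)
          rw [map_mul, hT, hT, hT, map_mul]; group) }
    have hΦ : ∀ u v, Φ (u + v) = Φ u * Φ v := by
      intro u v
      refine MulEquiv.ext fun s => hi ?_
      show φ (T (u + v) s) = φ (T u (T v s))
      rw [hT, hT, hT, hf]; group
    obtain ⟨a, ha⟩ : ∃ a : V, ∀ c, f c = φ (-1) → c = a := by
      by_cases h3 : ∃ a, f a = φ (-1)
      · obtain ⟨a, ha⟩ := h3
        exact ⟨a, fun c hc => hfi (hc.trans ha.symm)⟩
      · exact ⟨0, fun c hc => absurd ⟨c, hc⟩ h3⟩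
    obtain ⟨c, hc0, hca, hc⟩ := exists_ker hF Φ hΦ a
    refine ⟨c, hc0, fun h => hca (ha c h), ?_⟩
    rintro _ ⟨s, rfl⟩
    have h3 : T c s = s := by
      have := congrArg (fun A : MulAut (SL2 F) => A s) hc
      exact this
    have h4 := hT c s
    rw [h3] at h4
    exact (mul_inv_eq_iff_eq_mul.1 h4.symm)

end Cfsg.Agent.H785.SpSL
end

-- part: H785/SpE7End
section
/-!
# `E₇(q)`, `q` odd, has no elementary abelian subgroup of order 64 with automizer containing `Ω₆(2)'`-like groups (helper785)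

* `row_e7` : there are no `th`, `O`, `K0` with `Sit th O K0` in `E₇(q)`, `q` odd.
-/

set_option autoImplicit false
set_option linter.unusedSectionVars false

namespace Cfsg.Agent.H785.SpE7

open CoxeterSystem Cfsg.Agent.ChevalleyStructure.CoxeterGeom Cfsg.Agent.Tits.Roots Cfsg.Agent.Tits.Core
  Cfsg.Agent.Tits.Exchange Cfsg.Agent.Nodes.Reps Cfsg.Agent.Nodes.BNOf Cfsg.Agent.Nodes.StabComb
  Cfsg.Agent.Nodes.Bruhat Cfsg.Agent.Nodes.LeviDec Cfsg.Agent.Nodes.NormalForm Cfsg.Agent.Nodes.CardSup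
open Cfsg Cfsg.Lie Cfsg.Lie.ChevalleyDatum
open Cfsg.Agent.ChevalleyStructure Cfsg.Agent.ChevalleyStructure.Elts Cfsg.Agent.ChevalleyStructure.NPerm
  Cfsg.Agent.ChevalleyStructure.CoxeterGeomTypes Cfsg.Agent.ChevalleyStructure.RootVecTab
open Cfsg.Agent.Nodes.RGDChev Cfsg.Agent.OddHalf.LongSL Cfsg.Agent.OddHalf.LongSL.Chev
open Cfsg.Agent.KFacts.RgdChevCoord (TT XX)
open Cfsg.Agent.H81.PJTab Cfsg.Agent.H785.SpOdd Cfsg.Agent.H785.SpSL Cfsg.Agent.H785.SpLong Cfsg.Agent.H336.SpSix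

theorem typeE7 : IsType chevE7 7 CoxeterMatrix.E₇ := by simp [IsType, typeList]

private noncomputable def _root_.Cfsg.Agent.LsF.fb3e89c_9 : {f // @Cfsg.Lie.ChevalleyDatum.neg = f} := ⟨_, by first | (delta Cfsg.Lie.ChevalleyDatum.neg; rewrite [Cfsg.Agent.LsF.agetD_eq]; exact rfl) | exact rfl⟩
private noncomputable def _root_.Cfsg.Agent.LsF.fb3e89c_10 : {f // @Cfsg.Lie.ChevalleyDatum.chainEntry = f} := ⟨_, by first | (delta Cfsg.Lie.ChevalleyDatum.chainEntry; rewrite [Cfsg.Agent.LsF.instDecEq_eq, Cfsg.Agent.LsF.find?_eq, Cfsg.Agent.LsF.agetD_eq, Cfsg.Agent.LsF.decide_eq]; (try delta Cfsg.Lie.ChevalleyDatum.chainEntry.match_1); (try delta Option.casesOn); exact rfl) | exact rfl⟩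
private noncomputable def _root_.Cfsg.Agent.LsF.fb3e89c_11 : {f // @Cfsg.Lie.ChevalleyDatum.chainRoot = f} := ⟨_, by first | (delta Cfsg.Lie.ChevalleyDatum.chainRoot Option.map; rewrite [Cfsg.Agent.LsF.fb3e89c_10.2, Cfsg.Agent.LsF.nsub_pat, Cfsg.Agent.LsF.instGetElem?_eq]; (try delta Option.getD.match_1); (try delta Option.casesOn); exact rfl) | exact rfl⟩
private noncomputable def _root_.Cfsg.Agent.LsF.fb3e89c_12 : {f // @Cfsg.Lie.ChevalleyDatum.chainM = f} := ⟨_, by first | (delta Cfsg.Lie.ChevalleyDatum.chainM Option.map; rewrite [Cfsg.Agent.LsF.fb3e89c_10.2, Cfsg.Agent.LsF.nsub_pat, Cfsg.Agent.LsF.instGetElem?_eq, Cfsg.Agent.LsF.ogetD_eq]; (try delta Option.getD.match_1); (try delta Option.casesOn); exact rfl) | exact rfl⟩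
private noncomputable def _root_.Cfsg.Agent.LsF.fb3e89c_13 : {f // @Cfsg.Lie.ChevalleyDatum.commTerms = f} := ⟨_, by first | (delta Cfsg.Lie.ChevalleyDatum.commTerms Option.bind Option.map; rewrite [Cfsg.Agent.LsF.fb3e89c_11.2, Cfsg.Agent.LsF.fb3e89c_12.2, Cfsg.Agent.LsF.imul_pat, Cfsg.Agent.LsF.ineg_pat, Cfsg.Agent.LsF.filterMap_eq, Cfsg.Agent.LsF.ogetD_eq]; (try delta Option.bind.match_1); (try delta Option.getD.match_1); (try delta Option.casesOn); exact rfl) | exact rfl⟩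
private noncomputable def _root_.Cfsg.Agent.LsF.fb3e89c_14 : {f // @Cfsg.Agent.OddHalf.LongSL.Chev.chk = f} := ⟨_, by first | (delta Cfsg.Agent.OddHalf.LongSL.Chev.chk; rewrite [Cfsg.Agent.LsF.fb3e89c_4.2, Cfsg.Agent.LsF.fb3e89c_9.2, Cfsg.Agent.LsF.fb3e89c_3.2, Cfsg.Agent.LsF.fb3e89c_13.2, Cfsg.Agent.LsF.nbeq_pat, Cfsg.Agent.LsF.ineg_pat, Cfsg.Agent.LsF.ibeq_pat, Cfsg.Agent.LsF.and_eq, Cfsg.Agent.LsF.or_eq, Cfsg.Agent.LsF.all_eq, Cfsg.Agent.LsF.range_eq, Cfsg.Agent.LsF.isEmpty_eq]; exact rfl) | exact rfl⟩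
theorem chkE7 : Chev.chk chevE7 ((0 : Fin 7) : ℕ) = true := by ((try (rewrite [Cfsg.Agent.LsF.fb3e89c_14.2])); decide +kernel)

theorem chkOddE7 : chkOdd chevE7 ((0 : Fin 7) : ℕ) = true := by decide +kernel

/-- the certificate: triples `(r, s, t)` of indices of roots with even Cartan integers, `t = r + s` -/
def certE7 : List (ℕ × ℕ × ℕ) :=
  [(2, 69, 3), (3, 56, 2), (4, 55, 2), (5, 54, 2), (6, 53, 2), (7, 46, 2), (8, 45, 2), (9, 44, 2), (10, 43, 2), (11, 45,
   3), (12, 44, 3), (13, 43, 3), (14, 44, 4), (15, 43, 4), (16, 43, 5), (43, 10, 2), (44, 9, 2), (45, 8, 2), (46, 7, 2),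
   (47, 7, 3), (53, 6, 2), (54, 5, 2), (55, 4, 2), (56, 3, 2), (57, 6, 3), (58, 5, 3), (59, 4, 3), (60, 6, 4), (61, 5,
   4), (62, 6, 5), (63, 5, 6), (64, 4, 5), (65, 4, 6), (66, 3, 4), (67, 3, 5), (68, 3, 6), (69, 2, 3), (70, 2, 4), (71,
   2, 5), (72, 2, 6), (78, 3, 7), (79, 2, 7), (80, 2, 8), (81, 2, 9), (82, 2, 10), (109, 5, 43), (110, 4, 43), (111, 4,
   44), (112, 3, 43), (113, 3, 44), (114, 3, 45), (115, 2, 43), (116, 2, 44), (117, 2, 45), (118, 2, 46), (119, 2, 53),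
   (120, 2, 54), (121, 2, 55), (122, 2, 56), (123, 3, 69)]

private noncomputable def _root_.Cfsg.Agent.LsF.fb3e89c_15 : {f // @Cfsg.Agent.ChevalleyStructure.RootVecTab.dig = f} := ⟨_, by first | (delta Cfsg.Agent.ChevalleyStructure.RootVecTab.dig; rewrite [Cfsg.Agent.LsF.nmul_pat]; exact rfl) | exact rfl⟩
private noncomputable def _root_.Cfsg.Agent.LsF.fb3e89c_16 : {f // @Cfsg.Agent.ChevalleyStructure.RootVecTab.packTab = f} := ⟨_, by first | (delta Cfsg.Agent.ChevalleyStructure.RootVecTab.packTab; rewrite [Cfsg.Agent.LsF.instDecEq_eq, Cfsg.Agent.LsF.ite_eq]; exact rfl) | exact rfl⟩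
private noncomputable def _root_.Cfsg.Agent.LsF.fb3e89c_17 : {f // @Cfsg.Agent.ChevalleyStructure.RootVecTab.code = f} := ⟨_, by first | (delta Cfsg.Agent.ChevalleyStructure.RootVecTab.code; rewrite [Cfsg.Agent.LsF.fb3e89c_16.2, Cfsg.Agent.LsF.nmul_pat, Cfsg.Agent.LsF.npow_pat]; exact rfl) | exact rfl⟩
private noncomputable def _root_.Cfsg.Agent.LsF.fb3e89c_18 : {f // @Cfsg.Agent.ChevalleyStructure.RootVec.rt = f} := ⟨_, by first | (delta Cfsg.Agent.ChevalleyStructure.RootVec.rt; rewrite [Cfsg.Agent.LsF.fb3e89c_15.2, Cfsg.Agent.LsF.fb3e89c_17.2, Cfsg.Agent.LsF.nsub_pat, Cfsg.Agent.LsF.isub_pat, Cfsg.Agent.LsF.icast_pat, Cfsg.Agent.LsF.decLt_eq, Cfsg.Agent.LsF.dAnd_eq, Cfsg.Agent.LsF.ite_eq]; exact rfl) | exact rfl⟩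
private noncomputable def _root_.Cfsg.Agent.LsF.fb3e89c_19 : {f // @Cfsg.Agent.H785.SpE7.addOK = f} := ⟨_, by first | (delta Cfsg.Agent.H785.SpE7.addOK; rewrite [Cfsg.Agent.LsF.fb3e89c_18.2, Cfsg.Agent.LsF.iadd_pat, Cfsg.Agent.LsF.ibeq_pat, Cfsg.Agent.LsF.all_eq, Cfsg.Agent.LsF.range_eq]; exact rfl) | exact rfl⟩
private noncomputable def _root_.Cfsg.Agent.LsF.fb3e89c_20 : {f // @Cfsg.Agent.H785.SpE7.chkIso = f} := ⟨_, by first | (delta Cfsg.Agent.H785.SpE7.chkIso; rewrite [Cfsg.Agent.LsF.fb3e89c_3.2, Cfsg.Agent.LsF.fb3e89c_19.2, Cfsg.Agent.LsF.fb3e89c_4.2, Cfsg.Agent.LsF.fb3e89c_9.2, Cfsg.Agent.LsF.nbeq_pat, Cfsg.Agent.LsF.imod_pat, Cfsg.Agent.LsF.ibeq_pat, Cfsg.Agent.LsF.instIBEq_pat, Cfsg.Agent.LsF.and_eq, Cfsg.Agent.LsF.or_eq, Cfsg.Agent.LsF.not_eq, Cfsg.Agent.LsF.decLt_eq, Cfsg.Agent.LsF.all_eq, Cfsg.Agent.LsF.any_eq, Cfsg.Agent.LsF.range_eq, Cfsg.Agent.LsF.bne_eq, Cfsg.Agent.LsF.decide_eq]; exact rfl) | exact rfl⟩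
theorem chkIsoE7 : chkIso chevE7 7 ((0 : Fin 7) : ℕ) certE7 = true := by ((try (rewrite [Cfsg.Agent.LsF.fb3e89c_20.2])); decide +kernel)

/-- a word which takes the fundamental root `0` to the highest root -/
def wE7 : List (Fin 7) := [0, 2, 3, 4, 5, 6, 1, 3, 4, 5, 2, 3, 4, 1, 3, 2]

private noncomputable def _root_.Cfsg.Agent.LsF.fb3e89c_21 : {f // @Cfsg.Lie.ChevalleyDatum.reflectRoot = f} := ⟨_, by first | (delta Cfsg.Lie.ChevalleyDatum.reflectRoot; rewrite [Cfsg.Agent.LsF.fb3e89c_4.2, Cfsg.Agent.LsF.fb3e89c_3.2, Cfsg.Agent.LsF.fb3e89c_9.2, Cfsg.Agent.LsF.fb3e89c_11.2, Cfsg.Agent.LsF.ineg_pat, Cfsg.Agent.LsF.instDecEq_eq, Cfsg.Agent.LsF.ogetD_eq, Cfsg.Agent.LsF.toNat_eq, Cfsg.Agent.LsF.idecLt_eq, Cfsg.Agent.LsF.ite_eq]; exact rfl) | exact rfl⟩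
private noncomputable def _root_.Cfsg.Agent.LsF.fb3e89c_22 : {f // @Cfsg.Agent.H785.SpE7.orthOK = f} := ⟨_, by first | (delta Cfsg.Agent.H785.SpE7.orthOK; rewrite [Cfsg.Agent.LsF.fb3e89c_21.2, Cfsg.Agent.LsF.fb3e89c_4.2, Cfsg.Agent.LsF.fb3e89c_9.2, Cfsg.Agent.LsF.fb3e89c_13.2, Cfsg.Agent.LsF.nbeq_pat, Cfsg.Agent.LsF.nbne_pat, Cfsg.Agent.LsF.and_eq, Cfsg.Agent.LsF.all_eq, Cfsg.Agent.LsF.isEmpty_eq]; exact rfl) | exact rfl⟩
private noncomputable def _root_.Cfsg.Agent.LsF.fb3e89c_23 : {f // @Cfsg.Agent.H785.SpE7.act = f} := ⟨_, by first | (delta Cfsg.Agent.H785.SpE7.act; rewrite [Cfsg.Agent.LsF.fb3e89c_21.2, Cfsg.Agent.LsF.foldr_eq]; exact rfl) | exact rfl⟩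
theorem orthE7 : orthOK chevE7 [(1 : Fin 7), 2, 3, 4, 5, 6] (act chevE7 wE7 (chevE7.simple ((0 : Fin 7) : ℕ))) = true := by
  ((try (rewrite [Cfsg.Agent.LsF.fb3e89c_22.2, Cfsg.Agent.LsF.fb3e89c_23.2, Cfsg.Agent.LsF.fb3e89c_4.2])); decide +kernel)

theorem memE7 : ∀ j : Fin 7, j ∈ [(1 : Fin 7), 2, 3, 4, 5, 6] ↔ toF 7 [1, 0, 0, 0, 0, 0, 0] j = 0 := by decide +kernel

variable {F : Type} [Field F] [Fintype F]

theorem indexE7 (hF : Odd (Fintype.card F)) :
    ¬ 2 ∣ (Subgroup.centralizer ({phi typeE7 F 0 (-1)} : Set ↥(chevE7.group F))).index :=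
  index typeE7 F 0 hF chkOddE7 orthE7 aE7_ok (by decide) (ok_of_chkF tabE7_ok) memE7 (N := oddE7) (odd_oddE7 hF)
    (tabE7_sum _)

theorem lgE7 (hF : Odd (Fintype.card F)) : Lg (phi typeE7 F 0 (-1)) (phi typeE7 F 0).range :=
  lg_of_phi hF _ (phi_injective typeE7 F 0 (two_ne_of_odd hF) chkOddE7) (nrm typeE7 F 0 hF chkE7 chkIsoE7)

omit [Fintype F] in
/-- a field with `2 ≠ 0` has odd order -/
theorem odd_of_two_ne [Fintype F] (h : (2 : F) ≠ 0) : Odd (Fintype.card F) := by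
  rw [← Nat.not_even_iff_odd]
  intro he
  apply h
  have h1 : ringChar F ∣ 2 := by
    by_contra h2
    have := Fact.mk (CharP.char_is_prime F (ringChar F))
    obtain ⟨n, hn, hc⟩ := FiniteField.card F (ringChar F)
    rw [hc, Nat.even_pow] at he
    have h3 : ringChar F = 2 := by
      rcases hn.eq_two_or_odd' with h4 | h4
      · exact h4
      · exact absurd h4 (Nat.not_odd_iff_even.2 he.1)
    exact h2 (h3 ▸ dvd_refl _)
  have h2 : ((2 : ℕ) : F) = 0 := (ringChar.spec F 2).2 h1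
  exact_mod_cast h2

/-- **No group `E₇(q)`, `q` odd.** -/
theorem row_e7 {K : Type*} [Group K] [Finite K] {F : Type} [Field F] [Fintype F] (h2 : (2 : F) ≠ 0)
    (e : K ≃* ↥(Lie.chevE7.group F)) {th : V → K} {O K0 : Subgroup K} (h : Sit th O K0) : False := by
  have hF := odd_of_two_ne h2
  have L := (lgE7 hF).map e.symm
  refine false_of_lg h L ?_
  have h3 := indexE7 hF
  have h4 : (Subgroup.centralizer ({phi typeE7 F 0 (-1)} : Set ↥(chevE7.group F))).comap e.toMonoidHom =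
      Subgroup.centralizer ({e.symm (phi typeE7 F 0 (-1))} : Set K) := by
    ext x
    rw [Subgroup.mem_comap, Subgroup.mem_centralizer_singleton_iff, Subgroup.mem_centralizer_singleton_iff]
    constructor
    · intro h5
      apply e.injective
      rw [map_mul, map_mul, e.apply_symm_apply]
      exact h5
    · intro h5
      have h6 := congrArg e h5
      rw [map_mul, map_mul, e.apply_symm_apply] at h6
      exact h6
  rw [← h4, Subgroup.index_comap_of_surjective _ e.surjective]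
  exact h3

end Cfsg.Agent.H785.SpE7
end

private theorem dce_9027ccbf32e8 : _root_.True := by
  try have : _root_.True := by simp only [_root_.Cfsg.Agent.Classification.QDW.TypeHom.typ.congr_simp]
  try have : _root_.True := by simp only [_root_.Cfsg.Agent.H785.SpSL.bm.eq_1]
  try have : _root_.True := by simp only [_root_.Cfsg.Agent.KFacts.RgdChevCoord.TT.eq_1]
  try have : _root_.True := by simp only [_root_.Cfsg.Agent.KFacts.RgdChevCoord.XX.eq_1]
  exact _root_.True.intro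
end

-- part: H265/SpSix/Fischer
section
set_option linter.all false
open scoped Cfsg.Agent.FastGrp

-- part: H265/SpSix/Congr
section
/-!
# Transport of the situation along isomorphisms
-/

set_option autoImplicit false

namespace Cfsg.Agent.H265.SpSix

open Cfsg.Agent.H336.SpSix

theorem congr {K L : Type*} [Group K] [Group L] {th : V → K} {O K0 : Subgroup K} (h : Sit th O K0) (e : K ≃* L) :
    Sit (fun v => e (th v)) (O.map e.toMonoidHom) (K0.map e.toMonoidHom) := by
  have nrm : ∀ n : L, (∀ v, ∃ u, n * e (th v) * n⁻¹ = e (th u)) →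
      ∀ v, ∃ u, e.symm n * th v * (e.symm n)⁻¹ = th u := by
    intro n hn v
    obtain ⟨u, hu⟩ := hn v
    refine ⟨u, e.injective ?_⟩
    rw [map_mul, map_mul, map_inv, e.apply_symm_apply, hu]
  have tr : ∀ (n : L) (v u : V), n * e (th v) * n⁻¹ = e (th u) → e.symm n * th v * (e.symm n)⁻¹ = th u := by
    intro n v u hu
    apply e.injective
    rw [map_mul, map_mul, map_inv, e.apply_symm_apply, hu]
  refine ⟨fun u v => ?_, fun u v huv => h.inj (e.injective huv), ?_, ?_, ?_, ?_, ?_, ?_, ?_, ?_, ?_⟩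
  · rw [h.add, map_mul]
  · rw [Nat.card_congr (O.equivMapOfInjective e.toMonoidHom e.injective).toEquiv.symm]
    exact h.odd
  · rintro _ ⟨x, hx, rfl⟩ v
    show e x * e (th v) = e (th v) * e x
    rw [← map_mul, h.oc x hx, map_mul]
  · rintro _ ⟨x, hx, rfl⟩ n hn
    refine ⟨e.symm n * x * (e.symm n)⁻¹, h.oN x hx _ (nrm n hn), ?_⟩
    show e (e.symm n * x * (e.symm n)⁻¹) = n * e x * n⁻¹
    rw [map_mul, map_mul, map_inv, e.apply_symm_apply]
  · intro x hx
    obtain ⟨o, ho, v, hov⟩ := h.cent (e.symm x) (fun v => by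
      apply e.injective
      rw [map_mul, map_mul, e.apply_symm_apply, hx])
    refine ⟨e o, ⟨o, ho, rfl⟩, v, ?_⟩
    rw [← map_mul, ← hov, e.apply_symm_apply]
  · intro n hn u v u' v' hu hv
    exact h.act (e.symm n) (nrm n hn) u v u' v' (tr n u u' hu) (tr n v v' hv)
  · rintro _ ⟨k, hk, rfl⟩ v
    obtain ⟨u, hu⟩ := h.k0 k hk v
    refine ⟨u, ?_⟩
    show e k * e (th v) * (e k)⁻¹ = e (th u)
    rw [← hu, map_mul, map_mul, map_inv]
  · exact Subgroup.map_mono h.le
  · rintro _ ⟨k, hk, rfl⟩ hc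
    refine ⟨k, h.k0c k hk fun v => ?_, rfl⟩
    apply e.injective
    rw [map_mul, map_mul]
    exact hc v
  · intro g hg
    obtain ⟨k, hk, hk'⟩ := h.full g hg
    refine ⟨e k, ⟨k, hk, rfl⟩, fun v => ?_⟩
    rw [← hk' v, map_mul, map_mul, map_inv]

end Cfsg.Agent.H265.SpSix
end

-- part: H265/SpSix/Fischer
section
/-!
# The row `Fi₂₃`

An involution of a class of odd size commutes with a conjugate of `A`, hence is in the class of the elements of `A`;
the product of two commuting 3-transpositions is not a transposition.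
-/

set_option autoImplicit false

namespace Cfsg.Agent.H265.SpSix

open Cfsg Cfsg.Agent.H336.SpSix

/-- if `a`, `b` and `a b` are commuting 3-transpositions then `a b` commutes with all 3-transpositions -/
theorem comm_of_three {G : Type*} [Group G] {D : Set G} (hD : IsThreeTranspositionSet D) {a b d : G} (ha : a ∈ D)
    (hb : b ∈ D) (hab : a * b ∈ D) (hc : a * b = b * a) (hd : d ∈ D) : d * (a * b) = a * b * d := by
  have sq : ∀ x ∈ D, x * x = 1 := fun x hx => by
    have := pow_orderOf_eq_one x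
    rwa [hD.1 x hx, pow_two] at this
  have ne1 : ∀ x ∈ D, x ≠ 1 := fun x hx h1 => by
    have := hD.1 x hx
    rw [h1, orderOf_one] at this
    exact absurd this (by norm_num)
  have com : ∀ x ∈ D, ∀ y ∈ D, (x * y) ^ 2 = 1 → x * y = y * x := fun x hx y hy h1 => by
    have h2 : x⁻¹ = x := inv_eq_of_mul_eq_one_left (sq x hx)
    have h3 : y⁻¹ = y := inv_eq_of_mul_eq_one_left (sq y hy)
    have h4 : (x * y)⁻¹ = x * y := inv_eq_of_mul_eq_one_left (by rw [← pow_two, h1])
    rw [mul_inv_rev, h2, h3] at h4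
    exact h4.symm
  have brd : ∀ x ∈ D, ∀ y ∈ D, (x * y) ^ 3 = 1 → x * y * x = y * x * y := fun x hx y hy h1 => by
    have h2 : x⁻¹ = x := inv_eq_of_mul_eq_one_left (sq x hx)
    have h3 : y⁻¹ = y := inv_eq_of_mul_eq_one_left (sq y hy)
    have h4 : (x * y * x) * (y * x * y) = 1 := by
      rw [← h1]; simp only [pow_succ, pow_zero, one_mul, mul_assoc]
    have h5 : x * y * x = (y * x * y)⁻¹ := eq_inv_of_mul_eq_one_left h4
    rw [h5, mul_inv_rev, mul_inv_rev, h2, h3, mul_assoc]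
  have sa := sq a ha
  have sb := sq b hb
  have sd := sq d hd
  rcases hD.2 d hd _ hab with h1 | h1
  · exact com d hd _ hab h1
  rcases hD.2 d hd a ha with h2 | h2 <;> rcases hD.2 d hd b hb with h3 | h3
  · rw [← mul_assoc, com d hd a ha h2, mul_assoc, com d hd b hb h3, mul_assoc]
  · exfalso
    have h4 : Commute (d * b) a := by
      show d * b * a = a * (d * b)
      rw [mul_assoc, ← hc, ← mul_assoc, com d hd a ha h2, mul_assoc]
    have h5 : (d * (a * b)) ^ 3 = a := by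
      rw [hc, ← mul_assoc, h4.mul_pow, h3, one_mul, pow_succ, pow_two, sa, one_mul]
    rw [h1] at h5
    exact ne1 a ha h5.symm
  · exfalso
    have h4 : Commute (d * a) b := by
      show d * a * b = b * (d * a)
      rw [mul_assoc, hc, ← mul_assoc, com d hd b hb h3, mul_assoc]
    have h5 : (d * (a * b)) ^ 3 = b := by
      rw [← mul_assoc, h4.mul_pow, h2, one_mul, pow_succ, pow_two, sb, one_mul]
    rw [h1] at h5
    exact ne1 b hb h5.symm
  · have e1 := brd d hd a ha h2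
    have e2 := brd d hd b hb h3
    have h5 : (d * (a * b)) ^ 3 = a * b * d := by
      calc (d * (a * b)) ^ 3 = d * (a * b) * (d * (a * b)) * (d * (a * b)) := by
            simp only [pow_succ, pow_zero, one_mul]
        _ = d * (a * b) * (d * (b * a)) * (d * (a * b)) := by rw [← hc]
        _ = d * a * (b * d * b) * (a * d * a) * b := by simp only [mul_assoc]
        _ = d * a * (d * b * d) * (d * a * d) * b := by rw [← e1, ← e2]
        _ = (d * a * d) * b * (d * d) * a * d * b := by simp only [mul_assoc]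
        _ = (a * d * a) * b * a * d * b := by rw [sd, mul_one, e1]
        _ = a * d * a * (b * a) * d * b := by simp only [mul_assoc]
        _ = a * d * a * (a * b) * d * b := by rw [← hc]
        _ = a * d * (a * a) * b * d * b := by simp only [mul_assoc]
        _ = a * (d * b * d) * b := by rw [sa, mul_one]; simp only [mul_assoc]
        _ = a * (b * d * b) * b := by rw [e2]
        _ = a * b * d * (b * b) := by simp only [mul_assoc]
        _ = a * b * d := by rw [sb, mul_one]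
    rw [h1] at h5
    have h6 : a * b = d⁻¹ := eq_inv_of_mul_eq_one_left h5.symm
    rw [h6, mul_inv_cancel, inv_mul_cancel]

variable {K : Type*} [Group K] {th : V → K} {O K0 : Subgroup K}

/-- a conjugation invariant set of odd size contains an element commuting with `A` -/
theorem exists_comm (h : Sit th O K0) {D : Set K} (hD : ∀ g : K, ∀ d ∈ D, g * d * g⁻¹ ∈ D)
    (hodd : ¬ 2 ∣ Nat.card D) : ∃ d ∈ D, ∀ v, d * th v = th v * d := by
  let act : MulAction h.A D :=
    { smul := fun g d => ⟨g.1 * d.1 * g.1⁻¹, hD _ _ d.2⟩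
      one_smul := fun d => Subtype.ext (by show 1 * d.1 * 1⁻¹ = d.1; group)
      mul_smul := fun g g' d => Subtype.ext (by
        show g.1 * g'.1 * d.1 * (g.1 * g'.1)⁻¹ = g.1 * (g'.1 * d.1 * g'.1⁻¹) * g.1⁻¹; group) }
  have hp : IsPGroup 2 h.A := IsPGroup.of_card (n := 6) (by rw [h.card_A]; norm_num)
  obtain ⟨d, hd⟩ := hp.nonempty_fixed_point_of_prime_not_dvd_card D hodd
  refine ⟨d.1, d.2, fun v => ?_⟩
  have h1 : th v * d.1 * (th v)⁻¹ = d.1 := congrArg Subtype.val (hd ⟨th v, h.th_mem v⟩)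
  nth_rewrite 1 [← h1]
  rw [inv_mul_cancel_right]

/-- an involution whose class has odd size is conjugate to the elements of `A` -/
theorem mem_of_odd (h : Sit th O K0) {D : Set K} (hD : ∀ g : K, ∀ d ∈ D, g * d * g⁻¹ ∈ D)
    (h2 : ∀ d ∈ D, d * d = 1) (h1 : ∀ d ∈ D, d ≠ 1) (hodd : ¬ 2 ∣ Nat.card D) {v : V} (hv : v ≠ 0) : th v ∈ D := by
  obtain ⟨d, hd, hc⟩ := exists_comm h hD hodd
  obtain ⟨u, hu⟩ := h.mem_of_mul_self hc (h2 d hd)
  have hu0 : u ≠ 0 := fun h0 => h1 d hd (by rw [← hu, h0, h.zero])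
  obtain ⟨k, -, hk⟩ := h.exists_conj hu0 hv
  rw [← hk, hu]
  exact hD k d hd

/-- no class of 3-transpositions of odd size -/
theorem three (h : Sit th O K0) {D : Set K} (hD : IsThreeTranspositionClass D) (hodd : ¬ 2 ∣ Nat.card D) : False := by
  obtain ⟨hs, ⟨d0, hd0, hDd⟩, hcl⟩ := hD
  have hinv : ∀ g : K, ∀ d ∈ D, g * d * g⁻¹ ∈ D := by
    intro g d hd
    rw [hDd] at hd ⊢
    exact (show IsConj d0 _ from IsConj.trans hd (isConj_iff.2 ⟨g, rfl⟩))
  have hm : ∀ {v : V}, v ≠ 0 → th v ∈ D := fun {v} hv => mem_of_odd h hinv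
    (fun d hd => by
      have := pow_orderOf_eq_one d
      rwa [hs.1 d hd, pow_two] at this)
    (fun d hd h1 => by
      have := hs.1 d hd
      rw [h1, orderOf_one] at this
      exact absurd this (by norm_num)) hodd hv
  have e1 : (Pi.single (Sum.inl 0) 1 : V) ≠ 0 := by decide
  have e2 : (Pi.single (Sum.inl 1) 1 : V) ≠ 0 := by decide
  have e3 : (Pi.single (Sum.inl 0) 1 + Pi.single (Sum.inl 1) 1 : V) ≠ 0 := by decide
  have e4 : (Pi.single (Sum.inl 0) 1 + Pi.single (Sum.inl 1) 1 : V) ≠ Pi.single (Sum.inl 0) 1 := by decide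
  have hc : ∀ d ∈ D, d * th (Pi.single (Sum.inl 0) 1 + Pi.single (Sum.inl 1) 1) =
      th (Pi.single (Sum.inl 0) 1 + Pi.single (Sum.inl 1) 1) * d := by
    intro d hd
    rw [h.add]
    exact comm_of_three hs (hm e1) (hm e2) (by rw [← h.add]; exact hm e3) (h.comm _ _) hd
  have hz : th (Pi.single (Sum.inl 0) 1 + Pi.single (Sum.inl 1) 1) ∈ Subgroup.centralizer (Set.univ : Set K) := by
    have h1 : Subgroup.closure D ≤
        Subgroup.centralizer ({th (Pi.single (Sum.inl 0) 1 + Pi.single (Sum.inl 1) 1)} : Set K) := by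
      rw [Subgroup.closure_le]
      intro d hd
      rw [SetLike.mem_coe, Subgroup.mem_centralizer_singleton_iff]
      exact (hc d hd)
    rw [Subgroup.mem_centralizer_iff]
    intro g _
    have h3 : g ∈ Subgroup.centralizer ({th (Pi.single (Sum.inl 0) 1 + Pi.single (Sum.inl 1) 1)} : Set K) :=
      h1 (hcl ▸ Subgroup.mem_top g)
    rw [Subgroup.mem_centralizer_singleton_iff] at h3
    exact h3
  obtain ⟨k, -, hk⟩ := h.exists_conj e3 e1
  have h4 := Subgroup.mem_centralizer_iff.1 hz k (Set.mem_univ _)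
  rw [h4, mul_inv_cancel_right] at hk
  exact e4 (h.inj hk)

theorem fi23 (hK : Spor.IsoFi23 K) (h : Sit th O K0) : False := by
  obtain ⟨e⟩ := hK
  have h23 := Cfsg.Agent.S1697.result
  have hcard : Nat.card Cfsg.Spor.Fi23 = 4089470473293004800 := h23.2
  have hfin : Finite Cfsg.Spor.Fi23 := Nat.finite_of_card_ne_zero (by rw [hcard]; norm_num)
  obtain ⟨R, hR, hR0⟩ := Cfsg.Agent.Fischer.Fi23Class.exists_rank3 hcard.le
  have hD := R.isThreeTranspositionClass
  have hn : Nat.card (Set.range R.t) = 31671 := by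
    rw [R.card_range, ← Subgroup.index_eq_card]
    exact Cfsg.Agent.SporRec.Fi23Index.index_H
  refine three (congr h e) hD ?_
  rw [show Nat.card ↑(Set.range R.t) = 31671 from hn]
  norm_num

end Cfsg.Agent.H265.SpSix
end
end

-- part: H336/SpSix/Equiv
section
set_option linter.all false
open scoped Cfsg.Agent.FastGrp

/-!
# Transport of `Sit`
-/

set_option autoImplicit false

namespace Cfsg.Agent.H336.SpSix

open Subgroup

/-- transport along an isomorphism -/
theorem Sit.equiv {K L : Type*} [Group K] [Group L] {th : V → K} {O K0 : Subgroup K} (h : Sit th O K0)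
    (e : K ≃* L) : Sit (fun v => e (th v)) (O.map e.toMonoidHom) (K0.map e.toMonoidHom) where
  add u v := by rw [h.add, map_mul]
  inj u v huv := h.inj (e.injective huv)
  odd := by
    rw [← Nat.card_congr (O.equivMapOfInjective _ e.injective).toEquiv]
    exact h.odd
  oc := by
    rintro _ ⟨x, hx, rfl⟩ v
    have := congrArg e (h.oc x hx v)
    rwa [map_mul, map_mul] at this
  oN := by
    rintro _ ⟨x, hx, rfl⟩ n hn
    obtain ⟨m, rfl⟩ := e.surjective n
    refine ⟨m * x * m⁻¹, h.oN x hx m fun v => ?_, by simp⟩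
    obtain ⟨u, hu⟩ := hn v
    refine ⟨u, e.injective ?_⟩
    rw [← hu]; simp
  cent := by
    intro x hx
    obtain ⟨y, rfl⟩ := e.surjective x
    obtain ⟨o, ho, v, rfl⟩ := h.cent y fun v => e.injective (by
      rw [map_mul, map_mul]; exact hx v)
    exact ⟨e o, ⟨o, ho, rfl⟩, v, map_mul _ _ _⟩
  act := by
    intro n hn u v u' v' h1 h2
    obtain ⟨m, rfl⟩ := e.surjective n
    refine h.act m (fun v => ?_) u v u' v' ?_ ?_
    · obtain ⟨w, hw⟩ := hn v
      exact ⟨w, e.injective (by rw [← hw]; simp)⟩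
    · exact e.injective (by rw [← h1]; simp)
    · exact e.injective (by rw [← h2]; simp)
  k0 := by
    rintro _ ⟨k, hk, rfl⟩ v
    obtain ⟨u, hu⟩ := h.k0 k hk v
    exact ⟨u, by simp [← hu]⟩
  le := map_mono h.le
  k0c := by
    rintro _ ⟨k, hk, rfl⟩ hc
    refine ⟨k, h.k0c k hk fun v => e.injective ?_, rfl⟩
    rw [map_mul, map_mul]
    exact hc v
  full := by
    intro g hg
    obtain ⟨k, hk, hk'⟩ := h.full g hg
    exact ⟨e k, ⟨k, hk, rfl⟩, fun v => by rw [← hk' v]; simp⟩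

end Cfsg.Agent.H336.SpSix
end

-- part: H336/SpSix/Basic
section
set_option linter.all false
open scoped Cfsg.Agent.FastGrp

-- part: H336/SpSix/Iso
section
/-!
# The isometry group of `V` is `Sp_6(2)`; the homomorphism `N_K(A) → Sp_6(2)`
-/

set_option autoImplicit false

namespace Cfsg.Agent.H336.SpSix

open Matrix Cfsg.Agent.SporRec.TwoSp6
open Cfsg.Agent.ClassicalGeometry.SympBasic

/-- the symplectic group -/
abbrev S := Matrix.symplecticGroup (Fin 3) (ZMod 2)

theorem om_eq (u v : V) : Sp.om u v = om u v := by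
  change Cfsg.sympForm 3 (ZMod 2) u v = om u v
  rw [sympForm_eq_sum, om]
  refine Finset.sum_congr rfl fun i _ => ?_
  have : ∀ a b c d : ZMod 2, a * b - c * d = c * d + a * b := by decide
  rw [this]

/-- the action of the symplectic group -/
def actE (s : S) : V ≃+ V where
  toFun v := Sp.act s v
  invFun v := Sp.act s⁻¹ v
  left_inv v := by
    change Sp.act s⁻¹ (Sp.act s v) = v
    rw [← Sp.act_mul, inv_mul_cancel, Sp.act_one]
  right_inv v := by
    change Sp.act s (Sp.act s⁻¹ v) = v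
    rw [← Sp.act_mul, mul_inv_cancel, Sp.act_one]
  map_add' u v := Sp.act_add s u v

theorem actE_apply (s : S) (v : V) : actE s v = Sp.act s v := rfl

theorem isom_actE (s : S) : Isom (actE s) := fun u v => by
  rw [actE_apply, actE_apply, ← om_eq, Sp.act_om, om_eq]

theorem exists_act_of_isom {g : V ≃+ V} (hg : Isom g) : ∃ s : S, ∀ v, Sp.act s v = g v := by
  let f : V →ₗ[ZMod 2] V := (g : V →+ V).toZModLinearMap 2
  have hf : ∀ v, LinearMap.toMatrix' f *ᵥ v = g v := fun v => by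
    rw [← Matrix.toLin'_apply, Matrix.toLin'_toMatrix']; rfl
  have hM : LinearMap.toMatrix' f ∈ Matrix.symplecticGroup (Fin 3) (ZMod 2) := by
    rw [mem_symplecticGroup_iff]
    intro u v
    rw [hf, hf]
    have := hg u v
    rwa [← om_eq, ← om_eq] at this
  exact ⟨⟨_, hM⟩, hf⟩

theorem isSimple_S : IsSimpleGroup S := by
  have h1 : IsSimpleGroup (Cfsg.PSp 3 (ZMod 2)) :=
    Cfsg.Agent.S0270.result 3 (by norm_num) (fun h => absurd h (by norm_num))
  obtain ⟨e⟩ := Cfsg.Agent.StandardComponent.SpTwoAut.exists_equiv₀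
  exact e.symm.isSimpleGroup

theorem card_S : Nat.card S = 1451520 := Sp.card_S

end Cfsg.Agent.H336.SpSix
end

-- part: H336/SpSix/Basic
section
/-!
# Basic consequences of `Sit`

* `Sit.rep : N_K(A) →* Sp_6(2)`, kernel `C_K(A)`, onto already on `K0`; normal subgroups of `N_K(A)`;
* orders: `1451520 * 64 ∣ |K|`;
* all elements of `A#` are 2-central and every 2-central element of 2-power order is conjugate into `A`;
* `C_N(a)`-invariant subgroups of `A`; elements centralising `a^⊥`.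
-/

set_option autoImplicit false

namespace Cfsg.Agent.H336.SpSix

open Subgroup Pointwise Cfsg.Agent.SporRec.TwoSp6

/-! ### the vector space -/

/-- the subgroups of `V` invariant under the transvections fixing `a` -/
theorem inv_cases {a : V} (ha : a ≠ 0) (W : AddSubgroup V)
    (hW : ∀ c, om a c = 0 → ∀ w ∈ W, tv c w ∈ W) :
    W = ⊥ ∨ (∀ v, v ∈ W ↔ v = 0 ∨ v = a) ∨ (∀ v, v ∈ W ↔ om a v = 0) ∨ W = ⊤ := by
  by_cases h1 : ∀ w ∈ W, w = 0 ∨ w = a
  · by_cases haW : a ∈ W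
    · right; left
      intro v
      refine ⟨h1 v, ?_⟩
      rintro (rfl | rfl)
      · exact W.zero_mem
      · exact haW
    · left
      rw [AddSubgroup.eq_bot_iff_forall]
      intro w hw
      rcases h1 w hw with h | rfl
      · exact h
      · exact absurd hw haW
  push Not at h1
  obtain ⟨w, hw, hw0, hwa⟩ := h1
  have key : ∀ c, om a c = 0 → om c w = 1 → c ∈ W := by
    intro c hc h
    have := hW c hc w hw
    rw [tv_of_one h] at this
    have h2 := W.add_mem hw this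
    rwa [self_add_add] at h2
  have hperp : ∀ c, om a c = 0 → c ∈ W := by
    intro c hc
    rcases z2 (om c w) with h | h
    · obtain ⟨d, hd1, hd2⟩ := exists_om_one_zero hw0 ha hwa
      have h3 : d ∈ W := key d hd2 (by rw [om_comm]; exact hd1)
      have h4 : c + d ∈ W := key (c + d) (by rw [om_add_right, hc, hd2, add_zero]) (by
        rw [om_add_left, h, om_comm d, hd1, zero_add])
      have h5 := W.add_mem h4 h3
      rwa [add_add_self] at h5
    · exact key c hc h
  right; right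
  by_cases h2 : ∀ v ∈ W, om a v = 0
  · left
    exact fun v => ⟨h2 v, hperp v⟩
  · right
    push Not at h2
    obtain ⟨v, hv, hv1⟩ := h2
    have hv1 : om a v = 1 := (z2 _).resolve_left hv1
    rw [eq_top_iff]
    intro u _
    rcases z2 (om a u) with h | h
    · exact hperp u h
    · have h3 : u + v ∈ W := hperp _ (by rw [om_add_right, h, hv1]; decide)
      have h4 := W.add_mem h3 hv
      rwa [add_add_self] at h4

/-- an isometry trivial on `a^⊥` is `1` or the transvection -/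
theorem isom_trivial_perp {a : V} (ha : a ≠ 0) {g : V ≃+ V} (hg : Isom g) (h : ∀ v, om a v = 0 → g v = v) :
    (∀ v, g v = v) ∨ ∀ v, g v = tv a v := by
  obtain ⟨b, hb⟩ := exists_om ha
  have hd : g b + b = 0 ∨ g b + b = a := by
    by_contra hc
    push Not at hc
    obtain ⟨v, hv1, hv2⟩ := exists_om_one_zero hc.1 ha hc.2
    have h1 := hg b v
    rw [h v hv2] at h1
    rw [om_add_left, h1, z2_add_self] at hv1
    exact absurd hv1 (by decide)
  have hall : ∀ v, om a v = 1 → g v = v + (g b + b) := by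
    intro v hv
    have h1 : g (v + b) = v + b := h _ (by rw [om_add_right, hv, hb]; decide)
    rw [map_add] at h1
    have h2 : g v = g v + g b + g b := by rw [add_add_self]
    rw [h2, h1]; abel
  rcases hd with h0 | h0
  · left
    intro v
    rcases z2 (om a v) with h1 | h1
    · exact h v h1
    · rw [hall v h1, h0, add_zero]
  · right
    intro v
    rcases z2 (om a v) with h1 | h1
    · rw [h v h1, tv_of_zero h1]
    · rw [hall v h1, h0, tv_of_one h1]

namespace Sit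

variable {K : Type*} [Group K] {th : V → K} {O K0 : Subgroup K}

theorem exists_rep (h : Sit th O K0) (n : normalizer (h.A : Set K)) :
    ∃ s : S, ∀ v, (n : K) * th v * (n : K)⁻¹ = th (Sp.act s v) := by
  obtain ⟨g, hg, hg'⟩ := h.exists_isom_of_mem n.2
  obtain ⟨s, hs⟩ := exists_act_of_isom hg
  exact ⟨s, fun v => by rw [hg', hs]⟩

/-- the symplectic action of the normaliser -/
noncomputable def rep (h : Sit th O K0) : normalizer (h.A : Set K) →* S :=
  MonoidHom.mk' (fun n => (h.exists_rep n).choose) (by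
    intro m n
    apply Sp.act_ext
    intro v
    apply h.inj
    rw [Sp.act_mul, ← (h.exists_rep (m * n)).choose_spec, ← (h.exists_rep m).choose_spec,
      ← (h.exists_rep n).choose_spec]
    push_cast
    group)

theorem rep_spec (h : Sit th O K0) (n : normalizer (h.A : Set K)) (v : V) :
    (n : K) * th v * (n : K)⁻¹ = th (Sp.act (h.rep n) v) := (h.exists_rep n).choose_spec v

theorem rep_eq (h : Sit th O K0) (n : normalizer (h.A : Set K)) (s : S)
    (hs : ∀ v, (n : K) * th v * (n : K)⁻¹ = th (Sp.act s v)) : h.rep n = s := by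
  apply Sp.act_ext
  intro v
  apply h.inj
  rw [← h.rep_spec, hs]

theorem rep_eq_one (h : Sit th O K0) (n : normalizer (h.A : Set K)) :
    h.rep n = 1 ↔ ∀ v, (n : K) * th v = th v * n := by
  constructor
  · intro h1 v
    have := h.rep_spec n v
    rw [h1, Sp.act_one, mul_inv_eq_iff_eq_mul] at this
    exact this
  · intro h1
    apply h.rep_eq
    intro v
    rw [Sp.act_one, h1, mul_inv_cancel_right]

theorem rep_surj (h : Sit th O K0) (s : S) : ∃ k, ∃ hk : k ∈ K0, h.rep ⟨k, h.K0_le hk⟩ = s := by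
  obtain ⟨k, hk, hk'⟩ := h.full _ (isom_actE s)
  exact ⟨k, hk, h.rep_eq _ _ fun v => by rw [hk', actE_apply]⟩

theorem rep_surjective (h : Sit th O K0) : Function.Surjective h.rep := fun s => by
  obtain ⟨k, hk, h1⟩ := h.rep_surj s
  exact ⟨_, h1⟩

/-- a normal subgroup of the normaliser centralises `A` or induces the full symplectic group -/
theorem normal_cases (h : Sit th O K0) (M : Subgroup (normalizer (h.A : Set K))) [M.Normal] :
    M ≤ h.rep.ker ∨ M.map h.rep = ⊤ := by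
  have hs := isSimple_S
  rcases (Subgroup.Normal.map (inferInstance : M.Normal) h.rep h.rep_surjective).eq_bot_or_eq_top with h1 | h1
  · left
    rwa [Subgroup.map_eq_bot_iff] at h1
  · exact Or.inr h1

theorem card_dvd_normalizer (h : Sit th O K0) : 1451520 * 64 ∣ Nat.card (normalizer (h.A : Set K)) := by
  have h1 : Nat.card (normalizer (h.A : Set K)) = Nat.card S * Nat.card h.rep.ker := by
    rw [← Nat.card_congr (QuotientGroup.quotientKerEquivOfSurjective _ h.rep_surjective).toEquiv,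
      ← Subgroup.card_eq_card_quotient_mul_card_subgroup]
  rw [h1, card_S]
  apply Nat.mul_dvd_mul_left
  rw [← h.card_A]
  have h2 : h.A.subgroupOf (normalizer (h.A : Set K)) ≤ h.rep.ker := by
    rintro ⟨n, hn⟩ hA
    rw [mem_subgroupOf] at hA
    obtain ⟨u, rfl⟩ := hA
    rw [MonoidHom.mem_ker, h.rep_eq_one]
    intro v
    exact h.comm u v
  have h3 := Subgroup.card_dvd_of_le h2
  rwa [Nat.card_congr (Subgroup.subgroupOfEquivOfLe le_normalizer).toEquiv] at h3

theorem card_dvd (h : Sit th O K0) : 1451520 * 64 ∣ Nat.card K :=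
  h.card_dvd_normalizer.trans (Subgroup.card_subgroup_dvd_card _)

/-! ### Sylow subgroups -/

theorem isPGroup_A (h : Sit th O K0) : IsPGroup 2 h.A := by
  rintro ⟨_, v, rfl⟩
  exact ⟨1, Subtype.ext (by
    change th v ^ (2 ^ 1) = 1
    rw [pow_one, pow_two, h.sq])⟩

/-- an element of a 2-subgroup containing `A` and centralising it lies in `A` -/
theorem mem_of_pgroup (h : Sit th O K0) {P : Subgroup K} (hP : IsPGroup 2 P) {x : K} (hx : x ∈ P)
    (hc : ∀ v, x * th v = th v * x) : x ∈ h.A := by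
  obtain ⟨n, hn⟩ := hP ⟨x, hx⟩
  exact h.mem_of_sq hc (n := n) (congrArg Subtype.val hn)

theorem exists_sylow_le [Finite K] {x : K} {n : ℕ} (hx : x ^ 2 ^ n = 1) (hi : ¬ 2 ∣ (centralizer {x}).index) :
    ∃ Q : Sylow 2 K, x ∈ Q ∧ (Q : Subgroup K) ≤ centralizer {x} := by
  have : Fact (Nat.Prime 2) := ⟨Nat.prime_two⟩
  have hxC : x ∈ centralizer {x} := mem_centralizer_singleton_iff.2 rfl
  have h1 : IsPGroup 2 (zpowers (⟨x, hxC⟩ : centralizer {x})) := by
    rw [IsPGroup.iff_card]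
    rw [Nat.card_zpowers]
    have h2 : orderOf (⟨x, hxC⟩ : centralizer {x}) ∣ 2 ^ n := orderOf_dvd_of_pow_eq_one (Subtype.ext hx)
    obtain ⟨k, _, hk⟩ := (Nat.dvd_prime_pow Nat.prime_two).1 h2
    exact ⟨k, hk⟩
  obtain ⟨Q, hQ⟩ := h1.exists_le_sylow
  have hle : (Q : Subgroup (centralizer {x})).map (centralizer {x}).subtype ≤ centralizer {x} := map_subtype_le _
  refine ⟨Sylow.ofCard ((Q : Subgroup (centralizer {x})).map (centralizer {x}).subtype) ?_, ?_, ?_⟩
  · rw [Nat.card_congr ((Q : Subgroup (centralizer {x})).equivMapOfInjective _ (subtype_injective _)).toEquiv.symm,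
      Q.card_eq_multiplicity]
    congr 1
    rw [← (centralizer {x}).card_mul_index, Nat.factorization_mul Nat.card_pos.ne' Subgroup.index_ne_zero_of_finite,
      Finsupp.add_apply, Nat.factorization_eq_zero_of_not_dvd hi, add_zero]
  · change x ∈ (Q : Subgroup (centralizer {x})).map (centralizer {x}).subtype
    exact ⟨⟨x, hxC⟩, hQ (mem_zpowers _), rfl⟩
  · exact hle

/-- the centre of a Sylow subgroup containing `A` is contained in `A` and is nontrivial -/
theorem exists_central [Finite K] (h : Sit th O K0) : ∃ (P : Sylow 2 K) (v : V), v ≠ 0 ∧ h.A ≤ P ∧ ∀ x ∈ P, x * th v = th v * x := by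
  have : Fact (Nat.Prime 2) := ⟨Nat.prime_two⟩
  obtain ⟨P, hP⟩ := h.isPGroup_A.exists_le_sylow
  have hnt : Nontrivial P := by
    have : (Pi.single (Sum.inl 0) 1 : V) ≠ 0 := by
      intro hh; have := congrFun hh (Sum.inl 0); simp at this
    refine ⟨⟨⟨_, hP (h.th_mem (Pi.single (Sum.inl 0) 1))⟩, 1, fun hh => this ?_⟩⟩
    exact (h.eq_one_iff _).1 (congrArg Subtype.val hh)
  have := P.2.center_nontrivial
  obtain ⟨z, hz⟩ := exists_ne (1 : center P)
  have hz2 : ∀ x ∈ P, x * (z : K) = z * x := fun x hx =>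
    congrArg Subtype.val (mem_center_iff.1 z.2 ⟨x, hx⟩)
  obtain ⟨v, hv⟩ := h.mem_of_pgroup P.2 (z : P).2 (fun v => (hz2 _ (hP (h.th_mem v))).symm)
  refine ⟨P, v, ?_, hP, ?_⟩
  · rintro rfl
    rw [h.zero] at hv
    exact hz (Subtype.ext (Subtype.ext hv.symm))
  · intro x hx
    rw [hv, hz2 x hx]

/-- all nonzero elements of `A` are 2-central -/
theorem odd_index [Finite K] (h : Sit th O K0) {v : V} (hv : v ≠ 0) : ¬ 2 ∣ (centralizer {th v}).index := by
  have : Fact (Nat.Prime 2) := ⟨Nat.prime_two⟩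
  obtain ⟨P, u, hu, -, hP⟩ := h.exists_central
  have h1 : ¬ 2 ∣ (centralizer {th u}).index := by
    intro h2
    apply P.not_dvd_index
    refine h2.trans (index_dvd_of_le fun x hx => ?_)
    rw [mem_centralizer_singleton_iff]
    exact hP x hx
  obtain ⟨k, -, hk⟩ := h.exists_conj hu hv
  have h3 : centralizer {th v} = (centralizer {th u}).map (MulAut.conj k).toMonoidHom := by
    ext x
    rw [mem_centralizer_singleton_iff, mem_map]
    constructor
    · intro hx
      refine ⟨k⁻¹ * x * k, ?_, by simp [mul_assoc]⟩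
      rw [mem_centralizer_singleton_iff]
      have : th u = k⁻¹ * th v * k := by rw [← hk]; group
      rw [this]
      calc k⁻¹ * x * k * (k⁻¹ * th v * k) = k⁻¹ * (x * th v) * k := by group
        _ = k⁻¹ * (th v * x) * k := by rw [hx]
        _ = _ := by group
    · rintro ⟨y, hy, rfl⟩
      rw [mem_centralizer_singleton_iff] at hy
      rw [← hk]
      simp only [MulEquiv.coe_toMonoidHom, MulAut.conj_apply]
      calc k * y * k⁻¹ * (k * th u * k⁻¹) = k * (y * th u) * k⁻¹ := by group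
        _ = k * (th u * y) * k⁻¹ := by rw [hy]
        _ = _ := by group
  rw [h3]
  have h4 : (Subgroup.map (MulEquiv.toMonoidHom (MulAut.conj k)) (centralizer {th u})).index =
      (centralizer {th u}).index := Subgroup.index_map_equiv _ (MulAut.conj k)
  rw [h4]
  exact h1

/-- every 2-central element of 2-power order is conjugate to each nonzero element of `A` -/
theorem exists_conj_of_odd_index [Finite K] (h : Sit th O K0) {x : K} (hx1 : x ≠ 1) {n : ℕ} (hx : x ^ 2 ^ n = 1)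
    (hi : ¬ 2 ∣ (centralizer {x}).index) {v : V} (hv : v ≠ 0) : ∃ g : K, g * x * g⁻¹ = th v := by
  have : Fact (Nat.Prime 2) := ⟨Nat.prime_two⟩
  obtain ⟨Q, hxQ, hQ⟩ := exists_sylow_le hx hi
  obtain ⟨P, hP⟩ := h.isPGroup_A.exists_le_sylow
  obtain ⟨g, rfl⟩ := MulAction.exists_smul_eq K Q P
  have h1 : g * x * g⁻¹ ∈ h.A := by
    refine h.mem_of_pgroup (g • Q).2 (x := g * x * g⁻¹) ?_ ?_
    · change g * x * g⁻¹ ∈ (MulAut.conj g) • (Q : Subgroup K)
      rw [Subgroup.mem_pointwise_smul_iff_inv_smul_mem]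
      have h5 : (MulAut.conj g)⁻¹ • (g * x * g⁻¹) = x := by
        rw [← map_inv, MulAut.smul_def, MulAut.conj_apply]; group
      rw [h5]
      exact hxQ
    · intro u
      have h2 : g⁻¹ * th u * g ∈ Q := by
        have h3 := hP (h.th_mem u)
        change th u ∈ (MulAut.conj g) • (Q : Subgroup K) at h3
        rw [Subgroup.mem_pointwise_smul_iff_inv_smul_mem] at h3
        have h5 : (MulAut.conj g)⁻¹ • th u = g⁻¹ * th u * g := by
          rw [← map_inv, MulAut.smul_def, MulAut.conj_apply]; group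
        rw [h5] at h3
        exact h3
      have h4 := mem_centralizer_singleton_iff.1 (hQ h2)
      calc g * x * g⁻¹ * th u = g * (x * (g⁻¹ * th u * g)) * g⁻¹ := by group
        _ = g * ((g⁻¹ * th u * g) * x) * g⁻¹ := by rw [h4]
        _ = _ := by group
  obtain ⟨u, hu⟩ := h1
  have hu0 : u ≠ 0 := by
    rintro rfl
    rw [h.zero] at hu
    exact hx1 (by
      have : x = g⁻¹ * (g * x * g⁻¹) * g := by group
      rw [this, ← hu]; group)
  obtain ⟨k, -, hk⟩ := h.exists_conj hu0 hv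
  refine ⟨k * g, ?_⟩
  rw [← hk, hu]; group

/-! ### invariant subgroups -/

/-- intersections of `A` with subgroups normalised by `C_K(a)` -/
theorem inter_cases (h : Sit th O K0) {a : V} (ha : a ≠ 0) (Q : Subgroup K)
    (hQ : ∀ k ∈ K0, k * th a = th a * k → ∀ x ∈ Q, k * x * k⁻¹ ∈ Q) :
    (∀ v, th v ∈ Q ↔ v = 0) ∨ (∀ v, th v ∈ Q ↔ v = 0 ∨ v = a) ∨ (∀ v, th v ∈ Q ↔ om a v = 0) ∨ ∀ v, th v ∈ Q := by
  let W : AddSubgroup V :=
    { carrier := {v | th v ∈ Q}
      zero_mem' := by change th 0 ∈ Q; rw [h.zero]; exact Q.one_mem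
      add_mem' := fun {u v} hu hv => by change th (u + v) ∈ Q; rw [h.add]; exact Q.mul_mem hu hv
      neg_mem' := fun {u} hu => by change th (-u) ∈ Q; rw [v_neg]; exact hu }
  have hW : ∀ v, v ∈ W ↔ th v ∈ Q := fun v => Iff.rfl
  have hinv : ∀ c, om a c = 0 → ∀ w ∈ W, tv c w ∈ W := by
    intro c hc w hw
    obtain ⟨k, hk, hk'⟩ := h.exists_tv c
    rw [hW] at hw ⊢
    rw [← hk']
    refine hQ k hk ?_ _ hw
    have := hk' a
    rw [tv_of_zero (by rw [om_comm]; exact hc), mul_inv_eq_iff_eq_mul] at this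
    exact this
  rcases inv_cases ha W hinv with h1 | h1 | h1 | h1
  · left
    intro v
    rw [← hW, h1, AddSubgroup.mem_bot]
  · right; left; exact h1
  · right; right; left; exact h1
  · right; right; right
    intro v
    rw [← hW, h1]; trivial

/-- a normalising element that centralises `a^⊥` acts trivially or as the transvection -/
theorem act_of_perp (h : Sit th O K0) {a : V} (ha : a ≠ 0) {n : K} (hn : n ∈ normalizer (h.A : Set K))
    (hc : ∀ v, om a v = 0 → n * th v = th v * n) :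
    (∀ v, n * th v * n⁻¹ = th v) ∨ ∀ v, n * th v * n⁻¹ = th (tv a v) := by
  obtain ⟨g, hg, hg'⟩ := h.exists_isom_of_mem hn
  have h1 : ∀ v, om a v = 0 → g v = v := by
    intro v hv
    apply h.inj
    rw [← hg', hc v hv, mul_inv_cancel_right]
  rcases isom_trivial_perp ha hg h1 with h2 | h2
  · exact Or.inl fun v => by rw [hg', h2]
  · exact Or.inr fun v => by rw [hg', h2]

end Sit

end Cfsg.Agent.H336.SpSix
end
end

-- part: H848/SpSixRows
section
prune_inst 0x103075046c2200000000001000001c62b200000000480000d0e00502048f3c4000000820f8000f020000000400380000030000104000000000000000011c00a08002000290480104020006802802000000000000000000000000000000041000000000000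
set_option linter.all false
open scoped Cfsg.Agent.FastGrp

-- part: H848/SpSixLin
section
/-!
# Representations of `V / ⟨a⟩` over the field of two elements with a one-dimensional fixed space (S3405)

`bound` : let `V / ⟨a⟩` act on a space `W` with a perfect invariant form, with at most one nonzero fixed vector, such
that the transvections fixing `a` can be lifted to `W`.  If `|W| < 2 ^ 32` then `|W| ≤ 2 ^ 17`.
-/

set_option autoImplicit false

namespace Cfsg.Agent.H848.SpSixLin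

open Cfsg.Agent.H336.SpSix

/-! ### fixed vectors -/

/-- commuting operators of order two have a common nonzero fixed vector -/
theorem exists_fixed {I W : Type*} [Fintype I] [AddCommGroup W] [Module (ZMod 2) W] (T : I → W →ₗ[ZMod 2] W)
    (hc : ∀ i j w, T i (T j w) = T j (T i w)) (h2 : ∀ i w, T i (T i w) = w) (U : Submodule (ZMod 2) W)
    (hU : ∀ i, ∀ w ∈ U, T i w ∈ U) (hne : U ≠ ⊥) : ∃ x ∈ U, x ≠ 0 ∧ ∀ i, T i x = x := by
  classical
  have key : ∀ s : Finset I, ∃ x ∈ U, x ≠ 0 ∧ ∀ i ∈ s, T i x = x := by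
    intro s
    induction s using Finset.induction_on with
    | empty =>
      obtain ⟨x, hx, hx0⟩ := U.exists_mem_ne_zero_of_ne_bot hne
      exact ⟨x, hx, hx0, by simp⟩
    | insert j s hj ih =>
      obtain ⟨x, hx, hx0, hxs⟩ := ih
      by_cases h : T j x + x = 0
      · refine ⟨x, hx, hx0, fun i hi => ?_⟩
        rcases Finset.mem_insert.1 hi with rfl | hi
        · have h3 : x + x = 0 := by
            have : (2 : ZMod 2) • x = 0 := by
              have : (2 : ZMod 2) = 0 := by decide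
              rw [this, zero_smul]
            rwa [two_smul] at this
          exact add_right_cancel (h.trans h3.symm)
        · exact hxs i hi
      · refine ⟨T j x + x, U.add_mem (hU j x hx) hx, h, fun i hi => ?_⟩
        rcases Finset.mem_insert.1 hi with rfl | hi
        · rw [map_add, h2, add_comm]
        · rw [map_add, hc, hxs i hi]
  obtain ⟨x, hx, hx0, hxs⟩ := key Finset.univ
  exact ⟨x, hx, hx0, fun i => hxs i (Finset.mem_univ i)⟩

theorem w_add_self {W : Type*} [AddCommGroup W] [Module (ZMod 2) W] (x : W) : x + x = 0 := by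
  have : (2 : ZMod 2) • x = 0 := by
    have : (2 : ZMod 2) = 0 := by decide
    rw [this, zero_smul]
  rwa [two_smul] at this

/-! ### the complement -/

/-- the distinguished vector -/
def a : V := Pi.single (Sum.inl 0) 1

/-- functions on five points -/
abbrev X := Fin 5 → ZMod 2

/-- a complement to `⟨a⟩` in `V` -/
def io (x : X) : V := fun
  | Sum.inl i => ![0, x 0, x 1] i
  | Sum.inr i => ![x 2, x 3, x 4] i

/-- the projection -/
def ro (v : V) : X := ![v (Sum.inl 1), v (Sum.inl 2), v (Sum.inr 0), v (Sum.inr 1), v (Sum.inr 2)]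

theorem v_ext {u v : V} (h0 : u (Sum.inl 0) = v (Sum.inl 0)) (h1 : u (Sum.inl 1) = v (Sum.inl 1))
    (h2 : u (Sum.inl 2) = v (Sum.inl 2)) (h3 : u (Sum.inr 0) = v (Sum.inr 0))
    (h4 : u (Sum.inr 1) = v (Sum.inr 1)) (h5 : u (Sum.inr 2) = v (Sum.inr 2)) : u = v := by
  funext i
  rcases i with i | i <;> fin_cases i <;> assumption

theorem x_ext {u v : X} (h0 : u 0 = v 0) (h1 : u 1 = v 1) (h2 : u 2 = v 2) (h3 : u 3 = v 3) (h4 : u 4 = v 4) :
    u = v := by
  funext i
  fin_cases i <;> assumption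

theorem a_l0 : a (Sum.inl 0) = 1 := by simp [a]
theorem a_l1 : a (Sum.inl 1) = 0 := by simp [a]
theorem a_l2 : a (Sum.inl 2) = 0 := by simp [a]
theorem a_r (i : Fin 3) : a (Sum.inr i) = 0 := by simp [a]

theorem a_ne : a ≠ 0 := fun h => by
  have := congrFun h (Sum.inl 0)
  rw [a_l0] at this
  exact one_ne_zero this

theorem io_add (x y : X) : io (x + y) = io x + io y := by
  apply v_ext <;> simp [io]

theorem io_zero : io 0 = 0 := by
  apply v_ext <;> simp [io]

theorem ro_io (x : X) : ro (io x) = x := by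
  apply x_ext <;> rfl

theorem ro_add (u v : V) : ro (u + v) = ro u + ro v := by
  apply x_ext <;> rfl

theorem io_ro (v : V) : io (ro v) = v ∨ io (ro v) = v + a := by
  rcases z2 (v (Sum.inl 0)) with h | h
  · left
    apply v_ext <;> simp [io, ro, h]
  · right
    apply v_ext <;> simp [io, ro, h, a_l0, a_l1, a_l2, a_r, z2_add_self]

theorem io_inj {x y : X} (h : io x = io y) : x = y := by
  rw [← ro_io x, h, ro_io]

theorem io_ne_a (x : X) : io x ≠ a := fun h => by
  have := congrFun h (Sum.inl 0)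
  rw [a_l0] at this
  exact zero_ne_one this

/-- every coordinate function of the complement is `om y (io x)` with `y` orthogonal to `a` -/
theorem exists_coord (i : Fin 5) : ∃ y : V, om a y = 0 ∧ ∀ x, om y (io x) = x i := by
  fin_cases i
  · refine ⟨Pi.single (Sum.inr 1) 1, ?_, fun x => ?_⟩
    · rw [a, om_single_inl]; simp
    · rw [om_single_inr]; rfl
  · refine ⟨Pi.single (Sum.inr 2) 1, ?_, fun x => ?_⟩
    · rw [a, om_single_inl]; simp
    · rw [om_single_inr]; rfl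
  · refine ⟨Pi.single (Sum.inl 0) 1, ?_, fun x => ?_⟩
    · rw [a, om_single_inl]; simp
    · rw [om_single_inl]; rfl
  · refine ⟨Pi.single (Sum.inl 1) 1, ?_, fun x => ?_⟩
    · rw [a, om_single_inl]; simp
    · rw [om_single_inl]; rfl
  · refine ⟨Pi.single (Sum.inl 2) 1, ?_, fun x => ?_⟩
    · rw [a, om_single_inl]; simp
    · rw [om_single_inl]; rfl

/-- sums over the complement of functions invariant under `a` -/
theorem sum_tv {M : Type*} [AddCommMonoid M] (F : V → M) (hF : ∀ v, F (v + a) = F v) (c : V) (hc : om a c = 0) :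
    ∑ x : X, F (tv c (io x)) = ∑ x : X, F (io x) := by
  have hinj : Function.Injective (fun x : X => ro (tv c (io x))) := by
    intro x y hxy
    have h1 : ro (tv c (io (x + y))) = 0 := by
      rw [io_add, map_add, ro_add]
      have : ro (tv c (io x)) = ro (tv c (io y)) := hxy
      rw [this]
      funext i
      exact z2_add_self _
    have h2 : tv c (io (x + y)) = 0 ∨ tv c (io (x + y)) = a := by
      have h3 := io_ro (tv c (io (x + y)))
      rw [h1, io_zero] at h3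
      rcases h3 with h3 | h3
      · exact Or.inl h3.symm
      · right
        exact (Cfsg.Agent.H336.SpSix.add_eq_zero_iff _ _).1 h3.symm
    have h4 : io (x + y) = 0 := by
      rcases h2 with h2 | h2
      · exact (tv c).map_eq_zero_iff.1 h2
      · exfalso
        have h5 : tv c a = a := tv_of_zero (by rw [om_comm]; exact hc)
        exact io_ne_a _ ((tv c).injective (h2.trans h5.symm))
    rw [io_add] at h4
    exact io_inj ((Cfsg.Agent.H336.SpSix.add_eq_zero_iff _ _).1 h4)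
  have hbij : Function.Bijective (fun x : X => ro (tv c (io x))) := ⟨hinj, Finite.injective_iff_surjective.1 hinj⟩
  rw [← hbij.sum_comp (fun x : X => F (io x))]
  refine Finset.sum_congr rfl fun x _ => ?_
  rcases io_ro (tv c (io x)) with h | h
  · rw [h]
  · rw [h, hF]

/-! ### monomials -/

/-- monomials -/
def mo (R : Finset (Fin 5)) (x : X) : ZMod 2 := ∏ i ∈ R, x i

theorem mo_empty (x : X) : mo ∅ x = 1 := by simp [mo]

theorem mo_shift_notMem {R : Finset (Fin 5)} {i : Fin 5} (hi : i ∉ R) (x : X) :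
    mo R (x + Pi.single i 1) = mo R x := by
  refine Finset.prod_congr rfl fun j hj => ?_
  have : j ≠ i := fun h => hi (h ▸ hj)
  simp [this]

theorem mo_shift_mem {R : Finset (Fin 5)} {i : Fin 5} (hi : i ∈ R) (x : X) :
    mo R (x + Pi.single i 1) = mo R x + mo (R.erase i) x := by
  have h1 : ∀ y : X, mo R y = y i * mo (R.erase i) y := fun y => (Finset.mul_prod_erase R (fun j => y j) hi).symm
  rw [h1, mo_shift_notMem (Finset.notMem_erase i R), h1 x]
  simp only [Pi.add_apply, Pi.single_eq_same]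
  ring

theorem mo_univ (x : X) : mo Finset.univ x = if x = 1 then 1 else 0 := by
  split_ifs with h
  · subst h
    simp [mo]
  · rw [mo, Finset.prod_eq_zero_iff]
    by_contra hc
    push Not at hc
    refine h (funext fun i => ?_)
    exact (z2 (x i)).resolve_left (hc i (Finset.mem_univ i))

/-! ### the bound -/

section Bound

variable {W : Type*} [AddCommGroup W] [Module (ZMod 2) W] (T : V → W →ₗ[ZMod 2] W)

/-- the linear map from functions on the complement -/
def Phi (w : W) : (X → ZMod 2) →ₗ[ZMod 2] W where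
  toFun f := ∑ x : X, f x • T (io x) w
  map_add' f g := by
    simp only [Pi.add_apply, add_smul, Finset.sum_add_distrib]
  map_smul' c f := by
    simp only [Pi.smul_apply, smul_eq_mul, mul_smul, Finset.smul_sum, RingHom.id_apply]

theorem Phi_apply (w : W) (f : X → ZMod 2) : Phi T w f = ∑ x : X, f x • T (io x) w := rfl

variable {T}

theorem Phi_shift (hadd : ∀ u v w, T (u + v) w = T u (T v w)) (w : W) (f : X → ZMod 2) (u : X) :
    T (io u) (Phi T w f) = Phi T w (fun x => f (x + u)) := by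
  rw [Phi_apply, Phi_apply, map_sum]
  rw [← Equiv.sum_comp (Equiv.addRight u) (fun x : X => T (io u) (f x • T (io x) w))]
  refine Finset.sum_congr rfl fun x _ => ?_
  rw [Equiv.coe_addRight, map_smul, ← hadd, io_add, add_comm (io x), ← add_assoc, v_add_self, zero_add]

theorem Phi_add_shift (hadd : ∀ u v w, T (u + v) w = T u (T v w)) (w : W) (f : X → ZMod 2) (u : X) :
    T (io u) (Phi T w f) + Phi T w f = Phi T w (fun x => f (x + u) + f x) := by
  rw [Phi_shift hadd, ← map_add]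
  rfl

end Bound

section Main

variable {W : Type*} [AddCommGroup W] [Module (ZMod 2) W] [Finite W] {T : V → W →ₗ[ZMod 2] W}

omit [Finite W] in
/-- the singles generate -/
theorem all_of_singles (h0 : ∀ w, T 0 w = w) (hadd : ∀ u v w, T (u + v) w = T u (T v w)) (ha : ∀ w, T a w = w)
    {x : W} (h : ∀ i, T (io (Pi.single i 1)) x = x) (v : V) : T v x = x := by
  have h1 : ∀ (y : X), T (io y) x = x := by
    intro y
    have h2 : y = ∑ i, Pi.single i (y i) := (Finset.univ_sum_single y).symm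
    have h3 : ∀ s : Finset (Fin 5), T (io (∑ i ∈ s, Pi.single i (y i))) x = x := by
      intro s
      induction s using Finset.induction_on with
      | empty => rw [Finset.sum_empty, io_zero, h0]
      | insert j s hj ih =>
        rw [Finset.sum_insert hj, io_add, hadd, ih]
        rcases z2 (y j) with h4 | h4
        · rw [h4, Pi.single_zero, io_zero, h0]
        · rw [h4, h]
    rw [h2]
    exact h3 _
  rcases io_ro v with h5 | h5
  · rw [← h5]; exact h1 _
  · have : v = io (ro v) + a := by rw [h5, add_assoc, v_add_self, add_zero]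
    rw [this, hadd, ha, h1]

omit [Finite W] in
/-- an invariant subspace containing a vector not orthogonal to the fixed vector is everything -/
theorem eq_top (b : LinearMap.BilinForm (ZMod 2) W) (hdual : ∀ f : W →ₗ[ZMod 2] ZMod 2, ∃ v, ∀ w, b v w = f w)
    (h0 : ∀ w, T 0 w = w) (hadd : ∀ u v w, T (u + v) w = T u (T v w))
    (hTb : ∀ u v w, b (T u v) (T u w) = b v w)
    (hfix : ∀ x y, (∀ u, T u x = x) → (∀ u, T u y = y) → x ≠ 0 → y ≠ 0 → x = y)
    {s w0 : W} (hs : ∀ u, T u s = s) (hs0 : s ≠ 0) (hw0 : b s w0 ≠ 0) (U : Submodule (ZMod 2) W) (hU : w0 ∈ U)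
    (hUT : ∀ u, ∀ w ∈ U, T u w ∈ U) : U = ⊤ := by
  have hTT : ∀ u w, T u (T u w) = w := fun u w => by rw [← hadd, v_add_self, h0]
  by_contra hne
  obtain ⟨f, hf0, hf⟩ := Submodule.exists_le_ker_of_lt_top U (lt_top_iff_ne_top.2 hne)
  obtain ⟨v, hv⟩ := hdual f
  have hv0 : v ≠ 0 := by
    rintro rfl
    apply hf0
    ext w
    rw [← hv]
    simp
  let P : Submodule (ZMod 2) W :=
    { carrier := {y | ∀ u ∈ U, b y u = 0}
      zero_mem' := fun u _ => by simp
      add_mem' := fun {y y'} hy hy' u hu => by rw [map_add, LinearMap.add_apply, hy u hu, hy' u hu, add_zero]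
      smul_mem' := fun c y hy u hu => by rw [map_smul, LinearMap.smul_apply, hy u hu, smul_zero] }
  have hP : v ∈ P := fun u hu => by
    rw [hv]
    exact hf hu
  have hP0 : P ≠ ⊥ := fun h => hv0 (by rw [h] at hP; exact (Submodule.mem_bot _).1 hP)
  obtain ⟨x, hx, hx0, hxT⟩ := exists_fixed T (fun i j w => by rw [← hadd, ← hadd, add_comm]) hTT P
    (fun i y hy u hu => by
      rw [← hTb i, hTT]
      exact hy _ (hUT i u hu)) hP0
  have : x = s := hfix x s hxT hs hx0 hs0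
  exact hw0 (this ▸ hx w0 hU)

/-- the bound -/
theorem bound (b : LinearMap.BilinForm (ZMod 2) W) (hdual : ∀ f : W →ₗ[ZMod 2] ZMod 2, ∃ v, ∀ w, b v w = f w)
    (hnd : ∀ v, (∀ w, b v w = 0) → v = 0)
    (h0 : ∀ w, T 0 w = w) (hadd : ∀ u v w, T (u + v) w = T u (T v w)) (ha : ∀ w, T a w = w)
    (hTb : ∀ u v w, b (T u v) (T u w) = b v w)
    (hfix : ∀ x y, (∀ u, T u x = x) → (∀ u, T u y = y) → x ≠ 0 → y ≠ 0 → x = y)
    (hinv : ∀ c, om a c = 0 → ∃ g : W ≃ₗ[ZMod 2] W, ∀ v w, g (T v w) = T (tv c v) (g w))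
    (hcard : Nat.card W < 2 ^ 32) : Nat.card W ≤ 2 ^ 17 := by
  classical
  have hTT : ∀ u w, T u (T u w) = w := fun u w => by rw [← hadd, v_add_self, h0]
  have hcomm : ∀ i j w, T i (T j w) = T j (T i w) := fun i j w => by rw [← hadd, ← hadd, add_comm]
  by_cases htriv : (⊤ : Submodule (ZMod 2) W) = ⊥
  · have : Subsingleton W := by
      refine ⟨fun x y => ?_⟩
      have hx : x ∈ (⊤ : Submodule (ZMod 2) W) := trivial
      have hy : y ∈ (⊤ : Submodule (ZMod 2) W) := trivial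
      rw [htriv, Submodule.mem_bot] at hx hy
      rw [hx, hy]
    rw [Nat.card_unique]
    norm_num
  obtain ⟨s, -, hs0, hs⟩ := exists_fixed T hcomm hTT ⊤ (fun _ _ _ => trivial) htriv
  obtain ⟨w0, hw0⟩ : ∃ w0, b s w0 ≠ 0 := by
    by_contra hc
    push Not at hc
    exact hs0 (hnd s hc)
  have hfs : ∀ x, (∀ u, T u x = x) → x = 0 ∨ x = s := by
    intro x hx
    by_cases hx0 : x = 0
    · exact Or.inl hx0
    · exact Or.inr (hfix x s hx hs hx0 hs0)
  have htop := fun U hU hUT => eq_top b hdual h0 hadd hTb hfix hs hs0 hw0 U hU hUT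
  -- the kernel of a commuting operator
  have hall : ∀ (f : X → ZMod 2), Phi T w0 f = 0 → ∀ w, Phi T w f = 0 := by
    intro f hf w
    let U : Submodule (ZMod 2) W :=
      { carrier := {w | Phi T w f = 0}
        zero_mem' := by
          change Phi T 0 f = 0
          rw [Phi_apply]
          simp
        add_mem' := fun {x y} hx hy => by
          change Phi T (x + y) f = 0
          change Phi T x f = 0 at hx
          change Phi T y f = 0 at hy
          rw [Phi_apply] at hx hy ⊢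
          simp only [map_add, smul_add, Finset.sum_add_distrib, hx, hy, add_zero]
        smul_mem' := fun c x hx => by
          change Phi T (c • x) f = 0
          change Phi T x f = 0 at hx
          rw [Phi_apply] at hx ⊢
          simp only [map_smul, smul_comm _ c]
          rw [← Finset.smul_sum, hx, smul_zero] }
    have hU : U = ⊤ := by
      refine htop U hf fun u x hx => ?_
      change Phi T (T u x) f = 0
      change Phi T x f = 0 at hx
      have : Phi T (T u x) f = T u (Phi T x f) := by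
        rw [Phi_apply, Phi_apply, map_sum]
        refine Finset.sum_congr rfl fun y _ => ?_
        rw [map_smul, hcomm]
      rw [this, hx, map_zero]
    have : w ∈ U := by rw [hU]; trivial
    exact this
  -- the constant function
  have hone : Phi T w0 (fun _ => 1) = 0 := by
    have hker : LinearMap.ker (Phi T w0) ≠ ⊥ := by
      intro hk
      have hinj := LinearMap.ker_eq_bot.1 hk
      have h1 := Nat.card_le_card_of_injective _ hinj
      have h2 : Nat.card (X → ZMod 2) = 2 ^ 32 := by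
        rw [Nat.card_eq_fintype_card, Fintype.card_fun, Fintype.card_fun, ZMod.card, Fintype.card_fin]
        norm_num
      rw [h2] at h1
      exact absurd hcard (not_lt.2 h1)
    let S : X → (X → ZMod 2) →ₗ[ZMod 2] (X → ZMod 2) := fun u => LinearMap.funLeft (ZMod 2) (ZMod 2) (fun x => x + u)
    have hS : ∀ u f x, S u f x = f (x + u) := fun u f x => rfl
    obtain ⟨f, hf, hf0, hfu⟩ := exists_fixed S (fun i j w => by
      funext x
      rw [hS, hS, hS, hS, add_assoc, add_assoc, add_comm i]) (fun i w => by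
      funext x
      rw [hS, hS, add_assoc]
      congr 1
      have : i + i = 0 := by funext j; exact z2_add_self _
      rw [this, add_zero]) (LinearMap.ker (Phi T w0)) (fun i f hf => by
      rw [LinearMap.mem_ker] at hf ⊢
      have : Phi T w0 (S i f) = T (io i) (Phi T w0 f) := (Phi_shift hadd w0 f i).symm
      rw [this, hf, map_zero]) hker
    have h1 : ∀ x, f x = f 0 := fun x => by
      have := congrFun (hfu x) 0
      rw [hS, zero_add] at this
      exact this
    have h2 : f 0 = 1 := by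
      refine (z2 (f 0)).resolve_left fun h3 => hf0 (funext fun x => ?_)
      rw [h1 x, h3]; rfl
    have h3 : f = fun _ => 1 := funext fun x => by rw [h1 x, h2]
    rw [LinearMap.mem_ker, h3] at hf
    exact hf
  -- linear functions
  have hfixlin : ∀ (f : X → ZMod 2), (∀ u x, f (x + u) + f x = f u) → ∀ v, T v (Phi T w0 f) = Phi T w0 f := by
    intro f hf
    refine all_of_singles h0 hadd ha fun i => ?_
    have h1 := Phi_add_shift hadd w0 f (Pi.single i 1)
    have h2 : Phi T w0 (fun x => f (x + Pi.single i 1) + f x) = 0 := by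
      have h3 : (fun x => f (x + Pi.single i 1) + f x) = f (Pi.single i 1) • (fun _ : X => (1 : ZMod 2)) := by
        funext x
        rw [hf]; simp
      rw [h3, map_smul, hone, smul_zero]
    rw [h2] at h1
    exact add_right_cancel (h1.trans (w_add_self _).symm)
  have hlin : ∀ y, om a y = 0 → Phi T w0 (fun x => om y (io x)) = 0 := by
    let H : AddSubgroup V :=
      { carrier := {y | om a y = 0 ∧ Phi T w0 (fun x => om y (io x)) = 0}
        zero_mem' := by
          refine ⟨om_zero_right a, ?_⟩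
          have : (fun x => om 0 (io x)) = (0 : X → ZMod 2) := funext fun x => om_zero_left _
          rw [this, map_zero]
        add_mem' := fun {y y'} hy hy' => by
          refine ⟨by rw [om_add_right, hy.1, hy'.1, add_zero], ?_⟩
          have : (fun x => om (y + y') (io x)) = (fun x => om y (io x)) + (fun x => om y' (io x)) :=
            funext fun x => om_add_left _ _ _
          rw [this, map_add, hy.2, hy'.2, add_zero]
        neg_mem' := fun {y} hy => by rw [v_neg]; exact hy }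
    have hmem : ∀ y, y ∈ H ↔ om a y = 0 ∧ Phi T w0 (fun x => om y (io x)) = 0 := fun y => Iff.rfl
    have hH : ∀ c, om a c = 0 → ∀ y ∈ H, tv c y ∈ H := by
      intro c hc y hy
      rw [hmem] at hy ⊢
      have hca : tv c a = a := tv_of_zero (by rw [om_comm]; exact hc)
      have h1 : om a (tv c y) = 0 := by
        rw [← hca, isom_tv c a y]; exact hy.1
      refine ⟨h1, ?_⟩
      obtain ⟨g, hg⟩ := hinv c hc
      obtain ⟨w, hw⟩ := g.surjective w0
      have h2 := hall _ hy.2 w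
      have h3 := congrArg g h2
      rw [map_zero, Phi_apply, map_sum] at h3
      rw [Phi_apply, ← h3, ← sum_tv (fun v => om (tv c y) v • T v w0) (fun v => by
        rw [om_add_right, om_comm _ a, h1, add_zero, hadd, ha]) c hc]
      refine Finset.sum_congr rfl fun x _ => ?_
      rw [isom_tv c, map_smul, hg, hw]
    -- two orthogonal vectors
    have hcases := fun y => hfs (Phi T w0 (fun x => om y (io x))) (hfixlin _ fun u x => by
      rw [io_add, om_add_right, add_comm (om y (io x)), add_assoc, z2_add_self, add_zero])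
    obtain ⟨y, hy, hy0, hya⟩ : ∃ y ∈ H, y ≠ 0 ∧ y ≠ a := by
      let y1 : V := Pi.single (Sum.inl 1) 1
      let y2 : V := Pi.single (Sum.inl 2) 1
      have e1 : om a y1 = 0 := by rw [a, om_single_inl]; simp [y1]
      have e2 : om a y2 = 0 := by rw [a, om_single_inl]; simp [y2]
      have e3 : om a (y1 + y2) = 0 := by rw [om_add_right, e1, e2, add_zero]
      have n1 : y1 (Sum.inl 1) = 1 := by simp [y1]
      have n2 : y2 (Sum.inl 2) = 1 := by simp [y2]
      have n3 : (y1 + y2) (Sum.inl 1) = 1 := by simp [y1, y2]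
      have f1 : ∀ y : V, y (Sum.inl 1) = 1 → y ≠ 0 ∧ y ≠ a := by
        intro y hy
        constructor
        · rintro rfl; exact zero_ne_one hy
        · rintro rfl; rw [a_l1] at hy; exact zero_ne_one hy
      have f2 : ∀ y : V, y (Sum.inl 2) = 1 → y ≠ 0 ∧ y ≠ a := by
        intro y hy
        constructor
        · rintro rfl; exact zero_ne_one hy
        · rintro rfl; rw [a_l2] at hy; exact zero_ne_one hy
      rcases hcases y1 with h1 | h1
      · exact ⟨y1, (hmem _).2 ⟨e1, h1⟩, f1 _ n1⟩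
      rcases hcases y2 with h2 | h2
      · exact ⟨y2, (hmem _).2 ⟨e2, h2⟩, f2 _ n2⟩
      refine ⟨y1 + y2, (hmem _).2 ⟨e3, ?_⟩, f1 _ n3⟩
      have : (fun x => om (y1 + y2) (io x)) = (fun x => om y1 (io x)) + (fun x => om y2 (io x)) :=
        funext fun x => om_add_left _ _ _
      rw [this, map_add, h1, h2]
      exact w_add_self s
    intro v hv
    -- invariance gives everything
    have key : ∀ c, om a c = 0 → om c y = 1 → c ∈ H := by
      intro c hc h
      have := hH c hc y hy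
      rw [tv_of_one h] at this
      have h2 := H.add_mem hy this
      rwa [self_add_add] at h2
    have : v ∈ H := by
      rcases z2 (om v y) with h | h
      · obtain ⟨d, hd1, hd2⟩ := exists_om_one_zero hy0 a_ne hya
        have h3 : d ∈ H := key d hd2 (by rw [om_comm]; exact hd1)
        have h4 : v + d ∈ H := key (v + d) (by rw [om_add_right, hv, hd2, add_zero]) (by
          rw [om_add_left, h, om_comm d, hd1, zero_add])
        have h5 := H.add_mem h4 h3
        rwa [add_add_self] at h5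
      · exact key v hv h
    exact ((hmem v).1 this).2
  -- monomials
  have hm0 : Phi T w0 (mo ∅) = 0 := by
    have : mo ∅ = fun _ => 1 := funext fun x => mo_empty x
    rw [this]; exact hone
  have hm1 : ∀ i, Phi T w0 (mo {i}) = 0 := by
    intro i
    obtain ⟨y, hy, hy'⟩ := exists_coord i
    have : mo {i} = fun x => om y (io x) := funext fun x => by rw [hy']; simp [mo]
    rw [this]
    exact hlin y hy
  have hmT : ∀ R i, T (io (Pi.single i 1)) (Phi T w0 (mo R)) =
      Phi T w0 (mo R) + if i ∈ R then Phi T w0 (mo (R.erase i)) else 0 := by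
    intro R i
    rw [Phi_shift hadd]
    split_ifs with hi
    · rw [← map_add]
      congr 1
      funext x
      exact mo_shift_mem hi x
    · rw [add_zero]
      congr 1
      funext x
      exact mo_shift_notMem hi x
  have hm2 : ∀ R : Finset (Fin 5), R.card ≤ 1 → Phi T w0 (mo R) = 0 := by
    intro R hR
    rcases Nat.le_one_iff_eq_zero_or_eq_one.1 hR with h | h
    · rw [Finset.card_eq_zero.1 h]; exact hm0
    · obtain ⟨i, rfl⟩ := Finset.card_eq_one.1 h
      exact hm1 i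
  have hm3 : ∀ R : Finset (Fin 5), R.card ≤ 2 → Phi T w0 (mo R) = 0 ∨ Phi T w0 (mo R) = s := by
    intro R hR
    refine hfs _ (all_of_singles h0 hadd ha fun i => ?_)
    rw [hmT]
    split_ifs with hi
    · rw [hm2 (R.erase i) (by rw [Finset.card_erase_of_mem hi]; omega), add_zero]
    · rw [add_zero]
  -- the spanning set
  let I := Option {R : Finset (Fin 5) // 3 ≤ R.card}
  let g : I → W := fun o => o.elim s (fun R => Phi T w0 (mo R.1))
  have hgs : g none = s := rfl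
  have hgR : ∀ (R : Finset (Fin 5)) (hR : 3 ≤ R.card), g (some ⟨R, hR⟩) = Phi T w0 (mo R) := fun _ _ => rfl
  have hallm : ∀ R, Phi T w0 (mo R) ∈ Submodule.span (ZMod 2) (Set.range g) := by
    intro R
    by_cases hR : 3 ≤ R.card
    · rw [← hgR R hR]
      exact Submodule.subset_span ⟨_, rfl⟩
    · rcases hm3 R (by omega) with h | h
      · rw [h]; exact Submodule.zero_mem _
      · rw [h, ← hgs]
        exact Submodule.subset_span ⟨_, rfl⟩
  have hspan1 : ∀ i, ∀ w ∈ Submodule.span (ZMod 2) (Set.range g),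
      T (io (Pi.single i 1)) w ∈ Submodule.span (ZMod 2) (Set.range g) := by
    intro i w hw
    induction hw using Submodule.span_induction with
    | mem x hx =>
      obtain ⟨o, rfl⟩ := hx
      rcases o with _ | ⟨R, hR⟩
      · rw [hgs, hs]
        exact Submodule.subset_span ⟨none, rfl⟩
      · rw [hgR, hmT]
        refine Submodule.add_mem _ (hallm R) ?_
        split_ifs
        · exact hallm _
        · exact Submodule.zero_mem _
    | zero => rw [map_zero]; exact Submodule.zero_mem _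
    | add x y _ _ hx hy => rw [map_add]; exact Submodule.add_mem _ hx hy
    | smul c x _ hx => rw [map_smul]; exact Submodule.smul_mem _ _ hx
  have hspan2 : ∀ y : X, ∀ w ∈ Submodule.span (ZMod 2) (Set.range g),
      T (io y) w ∈ Submodule.span (ZMod 2) (Set.range g) := by
    intro y
    have h2 : y = ∑ i, Pi.single i (y i) := (Finset.univ_sum_single y).symm
    have h3 : ∀ t : Finset (Fin 5), ∀ w ∈ Submodule.span (ZMod 2) (Set.range g),
        T (io (∑ i ∈ t, Pi.single i (y i))) w ∈ Submodule.span (ZMod 2) (Set.range g) := by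
      intro t
      induction t using Finset.induction_on with
      | empty => intro w hw; rw [Finset.sum_empty, io_zero, h0]; exact hw
      | insert j t hj ih =>
        intro w hw
        rw [Finset.sum_insert hj, io_add, hadd]
        rcases z2 (y j) with h4 | h4
        · rw [h4, Pi.single_zero, io_zero, h0]; exact ih w hw
        · rw [h4]; exact hspan1 j _ (ih w hw)
    rw [h2]
    exact h3 _
  have hspan3 : ∀ v : V, ∀ w ∈ Submodule.span (ZMod 2) (Set.range g),
      T v w ∈ Submodule.span (ZMod 2) (Set.range g) := by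
    intro v w hw
    rcases io_ro v with h5 | h5
    · rw [← h5]; exact hspan2 _ w hw
    · have : v = io (ro v) + a := by rw [h5, add_assoc, v_add_self, add_zero]
      rw [this, hadd, ha]
      exact hspan2 _ w hw
  have hw0mem : w0 ∈ Submodule.span (ZMod 2) (Set.range g) := by
    have h1 : Phi T w0 (mo Finset.univ) = T (io 1) w0 := by
      rw [Phi_apply, Finset.sum_eq_single (1 : X)]
      · rw [mo_univ, if_pos rfl, one_smul]
      · intro x _ hx
        rw [mo_univ, if_neg hx, zero_smul]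
      · intro h; exact absurd (Finset.mem_univ _) h
    have h2 := hspan3 (io 1) _ (hallm Finset.univ)
    rw [h1, hTT] at h2
    exact h2
  have hfull := htop _ hw0mem hspan3
  have hsurj : Function.Surjective (Fintype.linearCombination (ZMod 2) g) := by
    rw [← LinearMap.range_eq_top, Fintype.range_linearCombination, hfull]
  have hle := Nat.card_le_card_of_surjective _ hsurj
  refine hle.trans ?_
  rw [Nat.card_eq_fintype_card, Fintype.card_fun, ZMod.card]
  have : Fintype.card I = 17 := by decide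
  rw [this]

end Main

end Cfsg.Agent.H848.SpSixLin
end

-- part: H848/SpSixLarge
section
/-!
# `Sit` in groups with a large extraspecial subgroup (S3405)

`main` : `Sit th O K0` in `K` and `Large Q z` with `z` 2-central in `K` and `|Q| ≥ 2 ^ 13`; then `|Q|` is `≤ 2 ^ 18` or
`≥ 2 ^ 33`, and `2 ^ 13 * |Q|` divides `|K|`.
-/

set_option autoImplicit false

namespace Cfsg.Agent.H848.SpSixLarge

open Subgroup Cfsg.Agent.H336.SpSix Cfsg.Agent.Co2Type.Quad Cfsg.Agent.H848.SpSixLin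

/-! ### counting -/

theorem ncard_le_two {M : Type*} [AddCommGroup M] [Module (ZMod 2) M] [Finite M] (S S' : Set M)
    (h : ∀ x ∈ S, ∀ y ∈ S, x ∉ S' → y ∉ S' → x + y ∈ S') : S.ncard ≤ 2 * S'.ncard := by
  by_cases hc : ∃ y ∈ S, y ∉ S'
  · obtain ⟨y, hy, hy'⟩ := hc
    have h1 : S ⊆ S' ∪ (fun x => x + y) '' S' := by
      intro x hx
      by_cases hx' : x ∈ S'
      · exact Or.inl hx'
      · exact Or.inr ⟨x + y, h x hx y hy hx' hy', by
          change x + y + y = x
          rw [add_assoc, w_add_self, add_zero]⟩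
    calc S.ncard ≤ (S' ∪ (fun x => x + y) '' S').ncard := Set.ncard_le_ncard h1 (Set.toFinite _)
      _ ≤ S'.ncard + ((fun x => x + y) '' S').ncard := Set.ncard_union_le _ _
      _ ≤ S'.ncard + S'.ncard := Nat.add_le_add_left (Set.ncard_image_le (Set.toFinite _)) _
      _ = 2 * S'.ncard := by ring
  · push Not at hc
    have h1 : S ⊆ S' := hc
    have := Set.ncard_le_ncard h1 (Set.toFinite _)
    omega

theorem card_le_mul {M N : Type*} [AddCommGroup M] [Module (ZMod 2) M] [Finite M] [Finite N] (f : M → N) (S : Set M)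
    (h : ∀ x y, f x = f y → x + y ∈ S) : Nat.card M ≤ Nat.card N * S.ncard := by
  classical
  have h1 : ∀ x : M, ∃ y, f y = f x := fun x => ⟨x, rfl⟩
  let c : N → M := fun n => if hn : ∃ y, f y = n then hn.choose else 0
  have hc : ∀ x, f (c (f x)) = f x := fun x => by
    have hn : ∃ y, f y = f x := ⟨x, rfl⟩
    change f (if hn : ∃ y, f y = f x then hn.choose else 0) = f x
    rw [dif_pos hn]
    exact hn.choose_spec
  let F : M → N × S := fun x => (f x, ⟨x + c (f x), h _ _ (hc x).symm⟩)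
  have hF : Function.Injective F := by
    intro x y hxy
    have h2 : f x = f y := congrArg Prod.fst hxy
    have h3 : x + c (f x) = y + c (f y) := congrArg (fun t => (t.2 : M)) hxy
    rw [h2] at h3
    exact add_right_cancel h3
  have := Nat.card_le_card_of_injective F hF
  rwa [Nat.card_prod, Nat.card_coe_set_eq] at this

section

variable {K : Type*} [Group K] {th : V → K} {O K0 Q : Subgroup K}

theorem mem_cen (h : Sit th O K0) (v : V) : th v ∈ centralizer ({th a} : Set K) :=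
  mem_centralizer_singleton_iff.2 (h.comm v a)

/-- `A` acting on `Q / ⟨z⟩` -/
noncomputable def T (h : Sit th O K0) (L : Large Q (th a)) (v : V) : L.V →ₗ[ZMod 2] L.V :=
  (L.act ⟨th v, mem_cen h v⟩).toLinearMap

theorem T_apply (h : Sit th O K0) (L : Large Q (th a)) (v : V) (w : L.V) :
    T h L v w = L.act ⟨th v, mem_cen h v⟩ w := rfl

theorem T_add (h : Sit th O K0) (L : Large Q (th a)) (u v : V) (w : L.V) :
    T h L (u + v) w = T h L u (T h L v w) := by
  have : (⟨th (u + v), mem_cen h (u + v)⟩ : centralizer ({th a} : Set K)) =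
      ⟨th u, mem_cen h u⟩ * ⟨th v, mem_cen h v⟩ := Subtype.ext (h.add u v)
  rw [T_apply, this, map_mul]
  rfl

theorem T_zero (h : Sit th O K0) (L : Large Q (th a)) (w : L.V) : T h L 0 w = w := by
  have : (⟨th 0, mem_cen h 0⟩ : centralizer ({th a} : Set K)) = 1 := Subtype.ext h.zero
  rw [T_apply, this, map_one]
  rfl

theorem T_a (h : Sit th O K0) (L : Large Q (th a)) (w : L.V) : T h L a w = w := by
  rw [T_apply, L.act_mem _ (show th a ∈ Q from L.z_mem)]
  rfl

theorem T_b (h : Sit th O K0) (L : Large Q (th a)) (u : V) (v w : L.V) : L.b (T h L u v) (T h L u w) = L.b v w :=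
  L.b_act _ v w

theorem T_pr (h : Sit th O K0) (L : Large Q (th a)) (v : V) (x : Q) :
    T h L v (L.pr x) = L.pr x ↔ (x : K) * th v * (x : K)⁻¹ = th v ∨ (x : K) * th v * (x : K)⁻¹ = th (v + a) := by
  rw [T_apply, L.act_pr, L.pr_eq_pr, L.conjQ_coe]
  have hx : (x : K) * th a = th a * x := L.comm_z x x.2
  constructor
  · rintro (h1 | h1)
    · left
      have h1' : th v * (x : K) * (th v)⁻¹ = x := h1
      rw [mul_inv_eq_iff_eq_mul] at h1' ⊢
      exact h1'.symm
    · right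
      have h1' : th v * (x : K) * (th v)⁻¹ = x * th a := h1
      rw [mul_inv_eq_iff_eq_mul] at h1' ⊢
      rw [h.add, mul_assoc, ← hx, ← mul_assoc, h1', mul_assoc, mul_assoc, h.comm v a, ← mul_assoc (th a),
        h.sq, one_mul]
  · rintro (h1 | h1)
    · left
      change th v * (x : K) * (th v)⁻¹ = x
      rw [mul_inv_eq_iff_eq_mul] at h1 ⊢
      exact h1.symm
    · right
      change th v * (x : K) * (th v)⁻¹ = x * th a
      rw [mul_inv_eq_iff_eq_mul] at h1 ⊢
      rw [mul_assoc (x : K), h.comm a v, ← mul_assoc, h1, h.add]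
      rw [mul_assoc, mul_assoc, hx, ← mul_assoc (th a), h.sq, one_mul]

/-- elements of `Q` centralising `A` are in `A` -/
theorem mem_of_comm (h : Sit th O K0) (L : Large Q (th a)) {x : K} (hx : x ∈ Q) (hc : ∀ v, x * th v = th v * x) :
    ∃ v, th v = x := by
  refine h.mem_of_sq hc (n := 2) ?_
  have h1 : x ^ (2 ^ 2) = (x * x) * (x * x) := by
    rw [show (2 : ℕ) ^ 2 = 2 * 2 from rfl, pow_mul, pow_two, pow_two]
  rw [h1]
  rcases L.sq x hx with h2 | h2 <;> rw [h2]
  · rw [one_mul]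
  · exact h.sq a

/-- elements of `Q` acting trivially modulo `z` act as `1` or as the transvection -/
theorem act_cases (h : Sit th O K0) {x : K}
    (hx : ∀ v, x * th v * x⁻¹ = th v ∨ x * th v * x⁻¹ = th (v + a)) :
    (∀ v, x * th v * x⁻¹ = th v) ∨ ∀ v, x * th v * x⁻¹ = th (tv a v) := by
  have hn : x ∈ normalizer (h.A : Set K) := h.mem_normalizer.2 fun v => by
    rcases hx v with h1 | h1
    · exact ⟨v, h1⟩
    · exact ⟨_, h1⟩
  obtain ⟨g, hg, hg'⟩ := h.exists_isom_of_mem hn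
  have h1 : ∀ v, g v = v ∨ g v = v + a := fun v => by
    rcases hx v with h1 | h1
    · left; exact h.inj ((hg' v).symm.trans h1)
    · right; exact h.inj ((hg' v).symm.trans h1)
  have h2 : ∀ v, om a v = 0 → g v = v := by
    intro v hv
    refine (h1 v).resolve_right fun h3 => a_ne (eq_zero_of_om fun u => ?_)
    have h4 := hg v u
    have h5 : ∀ w, om w a = 0 → om w (g u) = om w u := by
      intro w hw
      rcases h1 u with h6 | h6 <;> rw [h6]
      rw [om_add_right, hw, add_zero]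
    rw [h3, om_add_left, h5 v (by rw [om_comm]; exact hv), h5 a (om_self a)] at h4
    rw [om_comm]
    have : om v u + om a u = om v u + 0 := by rw [h4, add_zero]
    exact add_left_cancel this
  rcases isom_trivial_perp a_ne hg h2 with h3 | h3
  · exact Or.inl fun v => by rw [hg', h3]
  · exact Or.inr fun v => by rw [hg', h3]

theorem comm_of_conj {x y : K} (h : x * y * x⁻¹ = y) : x * y = y * x := by
  rwa [mul_inv_eq_iff_eq_mul] at h

/-- two elements of `Q` with the same action differ by an element of `A` -/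
theorem mul_mem_of_same (h : Sit th O K0) (L : Large Q (th a)) {x y : K} (hx : x ∈ Q) (hy : y ∈ Q)
    (hx' : ∀ v, x * th v * x⁻¹ = th (tv a v)) (hy' : ∀ v, y * th v * y⁻¹ = th (tv a v)) : ∃ v, th v = x⁻¹ * y := by
  refine mem_of_comm h L (Q.mul_mem (Q.inv_mem hx) hy) fun v => ?_
  have h1 : y * th v = th (tv a v) * y := mul_inv_eq_iff_eq_mul.1 (hy' v)
  have h2 : x * th v = th (tv a v) * x := mul_inv_eq_iff_eq_mul.1 (hx' v)
  rw [mul_assoc, h1, ← mul_assoc, ← mul_assoc]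
  congr 1
  rw [inv_mul_eq_iff_eq_mul, ← mul_assoc, h2, mul_inv_cancel_right]

/-- the fixed space has at most one nonzero vector -/
theorem hfix (h : Sit th O K0) (L : Large Q (th a)) (hX : ∀ v, th v ∈ Q ↔ v = 0 ∨ v = a) (x y : L.V)
    (hx : ∀ u, T h L u x = x) (hy : ∀ u, T h L u y = y) (hx0 : x ≠ 0) (hy0 : y ≠ 0) : x = y := by
  obtain ⟨x, rfl⟩ := L.pr_surjective x
  obtain ⟨y, rfl⟩ := L.pr_surjective y
  have key : ∀ w : Q, (∀ u, T h L u (L.pr w) = L.pr w) → L.pr w ≠ 0 →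
      ∀ v, (w : K) * th v * (w : K)⁻¹ = th (tv a v) := by
    intro w hw hw0
    refine (act_cases h fun v => (T_pr h L v w).1 (hw v)).resolve_left fun h1 => hw0 ?_
    obtain ⟨v, hv⟩ := mem_of_comm h L w.2 fun v => comm_of_conj (h1 v)
    have h2 : th v ∈ Q := by rw [hv]; exact w.2
    rw [L.pr_eq_zero, ← hv]
    rcases (hX v).1 h2 with h3 | h3
    · left; rw [h3, h.zero]
    · right; rw [h3]
  obtain ⟨v, hv⟩ := mul_mem_of_same h L x.2 y.2 (key x hx hx0) (key y hy hy0)
  have h2 : th v ∈ Q := by rw [hv]; exact Q.mul_mem (Q.inv_mem x.2) y.2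
  have h3 : (y : K) = x * th v := by rw [hv, mul_inv_cancel_left]
  refine Eq.symm (L.pr_eq_pr.2 ?_)
  rcases (hX v).1 h2 with h4 | h4
  · left; rw [h3, h4, h.zero, mul_one]
  · right; rw [h3, h4]

theorem hinv (h : Sit th O K0) (L : Large Q (th a)) (c : V) (hc : om a c = 0) :
    ∃ g : L.V ≃ₗ[ZMod 2] L.V, ∀ v w, g (T h L v w) = T h L (tv c v) (g w) := by
  obtain ⟨k, -, hk⟩ := h.exists_tv c
  have hk' : k * th a = th a * k := by
    have := hk a
    rw [tv_of_zero (by rw [om_comm]; exact hc)] at this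
    exact comm_of_conj this
  refine ⟨L.act ⟨k, mem_centralizer_singleton_iff.2 hk'⟩, fun v w => ?_⟩
  rw [T_apply, T_apply]
  have h1 : (⟨k, mem_centralizer_singleton_iff.2 hk'⟩ : centralizer ({th a} : Set K)) * ⟨th v, mem_cen h v⟩ =
      ⟨th (tv c v), mem_cen h _⟩ * ⟨k, mem_centralizer_singleton_iff.2 hk'⟩ := by
    apply Subtype.ext
    change k * th v = th (tv c v) * k
    rw [← hk, inv_mul_cancel_right]
  have h2 := congrArg (fun t => L.act t w) h1
  simp only [map_mul] at h2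
  exact h2

/-- the projection of `A ∩ Q` -/
noncomputable def be (L : Large Q (th a)) (x : X) : L.V := by
  classical exact if hx : th (io x) ∈ Q then L.pr ⟨th (io x), hx⟩ else 0

theorem be_of_mem (L : Large Q (th a)) {x : X} (hx : th (io x) ∈ Q) : be L x = L.pr ⟨th (io x), hx⟩ := by
  rw [be, dif_pos hx]

theorem exists_be (h : Sit th O K0) (L : Large Q (th a)) {v : V} (hv : th v ∈ Q) : ∃ x, be L x = L.pr ⟨th v, hv⟩ := by
  have h1 : th (io (ro v)) ∈ Q := by
    rcases io_ro v with h1 | h1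
    · rw [h1]; exact hv
    · rw [h1, h.add]; exact Q.mul_mem hv L.z_mem
  refine ⟨ro v, ?_⟩
  rw [be_of_mem L h1, L.pr_eq_pr]
  rcases io_ro v with h2 | h2
  · left
    change th (io (ro v)) = th v
    rw [h2]
  · right
    change th (io (ro v)) = th v * th a
    rw [h2, h.add]

theorem exists_of_be (h : Sit th O K0) (L : Large Q (th a)) {w : L.V} (hw : w ∈ Set.range (be L)) :
    ∃ v, ∃ hv : th v ∈ Q, w = L.pr ⟨th v, hv⟩ := by
  obtain ⟨x, rfl⟩ := hw
  by_cases hx : th (io x) ∈ Q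
  · exact ⟨_, hx, be_of_mem L hx⟩
  · refine ⟨0, by rw [h.zero]; exact Q.one_mem, ?_⟩
    rw [be, dif_neg hx]
    symm
    rw [L.pr_eq_zero]
    left; exact h.zero

theorem mem_be_of_comm (h : Sit th O K0) (L : Large Q (th a)) (w : Q) (hw : ∀ v, (w : K) * th v = th v * w) :
    L.pr w ∈ Set.range (be L) := by
  obtain ⟨v, hv⟩ := mem_of_comm h L w.2 hw
  have hv' : th v ∈ Q := by rw [hv]; exact w.2
  obtain ⟨x, hx⟩ := exists_be h L hv'
  refine ⟨x, ?_⟩
  rw [hx]
  congr 1
  exact Subtype.ext hv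

theorem ncard_be (L : Large Q (th a)) : (Set.range (be L)).ncard ≤ 32 := by
  rw [← Set.image_univ]
  refine (Set.ncard_image_le (Set.toFinite _)).trans ?_
  rw [Set.ncard_univ, Nat.card_eq_fintype_card, Fintype.card_fun, ZMod.card, Fintype.card_fin]
  norm_num

theorem comm_add (h : Sit th O K0) {w : K} {u v : V} (hu : w * th u = th u * w) (hv : w * th v = th v * w) :
    w * th (u + v) = th (u + v) * w := by
  rw [h.add, ← mul_assoc, hu, mul_assoc, hv, mul_assoc]

/-- an element centralising `a^⊥` and moving `u` modulo `a^⊥` -/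
theorem act_perp (h : Sit th O K0) {x : K} {u v' : V} (hu : om a u = 1)
    (hx : ∀ v, om a v = 0 → x * th v = th v * x) (hxu : x * th u = th (u + v') * x) :
    x * th u * x⁻¹ = th u ∨ x * th u * x⁻¹ = th (u + a) := by
  have hn : x ∈ normalizer (h.A : Set K) := h.mem_normalizer.2 fun v => by
    rcases z2 (om a v) with h3 | h3
    · exact ⟨v, by rw [hx v h3, mul_inv_cancel_right]⟩
    · refine ⟨v + v', ?_⟩
      have h4 : v = (v + u) + u := by rw [add_add_self]
      have h5 : om a (v + u) = 0 := by rw [om_add_right, h3, hu]; decide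
      rw [mul_inv_eq_iff_eq_mul]
      calc x * th v = x * th ((v + u) + u) := by rw [← h4]
        _ = x * th (v + u) * th u := by rw [h.add, mul_assoc]
        _ = th (v + u) * (x * th u) := by rw [hx _ h5, mul_assoc]
        _ = th (v + u) * th (u + v') * x := by rw [hxu, mul_assoc]
        _ = th (v + v') * x := by
          rw [← h.add]
          congr 2
          rw [← add_assoc, add_add_self]
  rcases h.act_of_perp a_ne hn hx with h1 | h1
  · exact Or.inl (h1 u)
  · right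
    rw [h1, tv_of_one hu]

variable [Finite K]

/-- the case `A ≤ Q` -/
theorem case_top (h : Sit th O K0) (L : Large Q (th a)) (hX : ∀ v, th v ∈ Q) : Nat.card L.V ≤ 2 ^ 11 := by
  let f : L.V → (Fin 5 → ZMod 2) := fun w i => L.b w (L.pr ⟨th (io (Pi.single i 1)), hX _⟩)
  have h1 : ∀ x y, f x = f y → x + y ∈ Set.range (be L) := by
    intro x y hxy
    obtain ⟨w, hw⟩ := L.pr_surjective (x + y)
    have h2 : ∀ i, (w : K) * th (io (Pi.single i 1)) = th (io (Pi.single i 1)) * w := by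
      intro i
      have h3 : L.b (L.pr w) (L.pr ⟨th (io (Pi.single i 1)), hX _⟩) = 0 := by
        rw [hw, map_add, LinearMap.add_apply]
        have := congrFun hxy i
        change L.b x _ = L.b y _ at this
        rw [this]
        exact z2_add_self _
      exact (L.b_pr _ _).1 h3
    have h3 : ∀ v, (w : K) * th v = th v * w := by
      have h5 : ∀ y : X, (w : K) * th (io y) = th (io y) * w := by
        intro y
        have h6 : y = ∑ i, Pi.single i (y i) := (Finset.univ_sum_single y).symm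
        have h7 : ∀ s : Finset (Fin 5), (w : K) * th (io (∑ i ∈ s, Pi.single i (y i))) =
            th (io (∑ i ∈ s, Pi.single i (y i))) * w := by
          intro s
          induction s using Finset.induction_on with
          | empty => rw [Finset.sum_empty, io_zero, h.zero, mul_one, one_mul]
          | insert j s hj ih =>
            rw [Finset.sum_insert hj, io_add]
            refine comm_add h ?_ ih
            rcases z2 (y j) with h8 | h8
            · rw [h8, Pi.single_zero, io_zero, h.zero, mul_one, one_mul]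
            · rw [h8]; exact h2 j
        rw [h6]
        exact h7 _
      intro v
      rcases io_ro v with h8 | h8
      · rw [← h8]; exact h5 _
      · have : v = io (ro v) + a := by rw [h8, add_assoc, v_add_self, add_zero]
        rw [this]
        exact comm_add h (h5 _) (L.comm_z w w.2)
    rw [← hw]
    exact mem_be_of_comm h L w h3
  have h2 := card_le_mul f _ h1
  have h3 := ncard_be L
  rw [Nat.card_eq_fintype_card (α := Fin 5 → ZMod 2), Fintype.card_fun, ZMod.card, Fintype.card_fin] at h2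
  calc Nat.card L.V ≤ 2 ^ 5 * (Set.range (be L)).ncard := h2
    _ ≤ 2 ^ 5 * 32 := Nat.mul_le_mul_left _ h3
    _ ≤ 2 ^ 11 := by norm_num

/-- four vectors generating `a^⊥` together with `a` -/
def fo : Fin 4 → V := ![Pi.single (Sum.inl 1) 1, Pi.single (Sum.inl 2) 1, Pi.single (Sum.inr 1) 1,
  Pi.single (Sum.inr 2) 1]

theorem om_fo (i : Fin 4) : om a (fo i) = 0 := by
  rw [a, om_single_inl]
  fin_cases i <;> simp [fo]

theorem perp_sum {v : V} (hv : om a v = 0) : v = v (Sum.inl 0) • a + v (Sum.inl 1) • fo 0 + v (Sum.inl 2) • fo 1 +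
    v (Sum.inr 1) • fo 2 + v (Sum.inr 2) • fo 3 := by
  rw [a, om_single_inl] at hv
  apply v_ext <;> simp [fo, a, hv]

/-- the case `A ∩ Q = a^⊥` -/
theorem case_perp (h : Sit th O K0) (L : Large Q (th a)) (hX : ∀ v, th v ∈ Q ↔ om a v = 0) :
    Nat.card L.V ≤ 2 ^ 11 := by
  have hfo : ∀ i, th (fo i) ∈ Q := fun i => (hX _).2 (om_fo i)
  let f : L.V → (Fin 4 → ZMod 2) := fun w i => L.b w (L.pr ⟨th (fo i), hfo i⟩)
  -- the perpendicular space
  let R : Set L.V := {w | ∀ v, ∀ hv : th v ∈ Q, L.b w (L.pr ⟨th v, hv⟩) = 0}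
  have hR : ∀ w : Q, L.pr w ∈ R → ∀ v, om a v = 0 → (w : K) * th v = th v * w := by
    intro w hw v hv
    exact (L.b_pr _ _).1 (hw v ((hX v).2 hv))
  have hR' : ∀ w : Q, (∀ v, om a v = 0 → (w : K) * th v = th v * w) → L.pr w ∈ R := by
    intro w hw v hv
    exact (L.b_pr _ _).2 (hw v ((hX v).1 hv))
  have hRadd : ∀ x ∈ R, ∀ y ∈ R, x + y ∈ R := by
    intro x hx y hy v hv
    rw [map_add, LinearMap.add_apply, hx v hv, hy v hv, add_zero]
  obtain ⟨u, hu⟩ := exists_om a_ne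
  let Y : Set L.V := {w | w ∈ R ∧ T h L u w = w}
  -- an element of `R` commuting with `th u` modulo `B` commutes modulo `z`
  have hRT : ∀ w ∈ R, T h L u w ∈ R := by
    intro w hw v hv
    have h1 : T h L u (L.pr ⟨th v, hv⟩) = L.pr ⟨th v, hv⟩ := by
      rw [T_pr]
      left
      change th v * th u * (th v)⁻¹ = th u
      rw [h.comm v u, mul_inv_cancel_right]
    rw [← h1, T_b]
    exact hw v hv
  have hY1 : ∀ w ∈ R, T h L u w + w ∈ Set.range (be L) → T h L u w = w := by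
    intro w hw hwB
    obtain ⟨x, rfl⟩ := L.pr_surjective w
    obtain ⟨v, hv, hv'⟩ := exists_of_be h L hwB
    have h1 : T h L u (L.pr x) = L.pr (⟨th v, hv⟩ * x) := by
      rw [L.pr_mul, ← hv', add_assoc, w_add_self, add_zero]
    rw [T_apply, L.act_pr, L.pr_eq_pr, L.conjQ_coe] at h1
    have hxc := hR x hw
    obtain ⟨v', hv0, h2⟩ : ∃ v', om a v' = 0 ∧ th u * (x : K) * (th u)⁻¹ = th v' * x := by
      have hva := (hX v).1 hv
      rcases h1 with h1 | h1
      · exact ⟨v, hva, h1⟩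
      · refine ⟨v + a, by rw [om_add_right, hva, om_self, add_zero], ?_⟩
        have h1' : th u * (x : K) * (th u)⁻¹ = th v * x * th a := h1
        rw [h1', h.add, mul_assoc, mul_assoc, hxc a (om_self a)]
    rw [mul_inv_eq_iff_eq_mul] at h2
    rw [T_pr]
    refine act_perp h hu hxc (v' := v') ?_
    rw [h.add, h.comm u v', mul_assoc, h2, mul_assoc (th v'), ← mul_assoc (th v') (th v'), h.sq, one_mul]
  have hYB : ∀ x ∈ Y, ∀ y ∈ Y, x ∉ Set.range (be L) → y ∉ Set.range (be L) → x + y ∈ Set.range (be L) := by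
    have key : ∀ x : Q, L.pr x ∈ Y → L.pr x ∉ Set.range (be L) → ∀ v, (x : K) * th v * (x : K)⁻¹ = th (tv a v) := by
      intro x hx hxB
      refine (act_cases h fun v => ?_).resolve_left fun h1 => hxB (mem_be_of_comm h L x fun v => comm_of_conj (h1 v))
      rcases z2 (om a v) with h1 | h1
      · left
        rw [hR x hx.1 v h1, mul_inv_cancel_right]
      · have h2 : ∀ v, T h L v (L.pr x) = L.pr x := by
          intro v
          rcases z2 (om a v) with h3 | h3
          · rw [T_pr]; left; rw [hR x hx.1 v h3, mul_inv_cancel_right]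
          · have h4 : v = (v + u) + u := by rw [add_add_self]
            rw [h4, T_add, hx.2, T_pr]
            left
            rw [hR x hx.1 _ (by rw [om_add_right, h3, hu]; decide), mul_inv_cancel_right]
        exact (T_pr h L v x).1 (h2 v)
    intro x hx y hy hxB hyB
    obtain ⟨x, rfl⟩ := L.pr_surjective x
    obtain ⟨y, rfl⟩ := L.pr_surjective y
    obtain ⟨v, hv⟩ := mul_mem_of_same h L x.2 y.2 (key x hx hxB) (key y hy hyB)
    have h1 : L.pr x + L.pr y = L.pr (x⁻¹ * y) := by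
      rw [L.pr_mul, L.pr_inv, L.neg_eq]
    rw [h1]
    refine mem_be_of_comm h L _ fun v' => ?_
    have h2 : ((x⁻¹ * y : Q) : K) = th v := hv.symm
    rw [h2, h.comm]
  have hRY : ∀ x ∈ R, ∀ y ∈ R, x ∉ Y → y ∉ Y → x + y ∈ Y := by
    have hTT : ∀ w, T h L u (T h L u w) = w := fun w => by rw [← T_add, v_add_self, T_zero]
    have key : ∀ x ∈ R, x ∉ Y → T h L u x + x ∈ Y ∧ T h L u x + x ∉ Set.range (be L) := by
      intro x hx hxY
      refine ⟨⟨hRadd _ (hRT x hx) _ hx, ?_⟩, fun hB => hxY ⟨hx, hY1 x hx hB⟩⟩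
      rw [map_add, hTT, add_comm]
    intro x hx y hy hxY hyY
    obtain ⟨h1, h2⟩ := key x hx hxY
    obtain ⟨h3, h4⟩ := key y hy hyY
    have h5 := hYB _ h1 _ h3 h2 h4
    refine ⟨hRadd _ hx _ hy, hY1 _ (hRadd _ hx _ hy) ?_⟩
    have h6 : T h L u (x + y) + (x + y) = T h L u x + x + (T h L u y + y) := by
      rw [map_add]; abel
    rw [h6]
    exact h5
  have hfR : ∀ x y, f x = f y → x + y ∈ R := by
    intro x y hxy
    obtain ⟨w, hw⟩ := L.pr_surjective (x + y)
    have h2 : ∀ i, (w : K) * th (fo i) = th (fo i) * w := by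
      intro i
      have h3 : L.b (L.pr w) (L.pr ⟨th (fo i), hfo i⟩) = 0 := by
        rw [hw, map_add, LinearMap.add_apply]
        have := congrFun hxy i
        change L.b x _ = L.b y _ at this
        rw [this]
        exact z2_add_self _
      exact (L.b_pr _ _).1 h3
    have h3 : ∀ (c : ZMod 2) (v : V), (w : K) * th v = th v * w → (w : K) * th (c • v) = th (c • v) * w := by
      intro c v hv
      rcases z2 c with rfl | rfl
      · rw [zero_smul, h.zero, mul_one, one_mul]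
      · rw [one_smul]; exact hv
    rw [← hw]
    refine hR' w fun v hv => ?_
    rw [perp_sum hv]
    exact comm_add h (comm_add h (comm_add h (comm_add h (h3 _ _ (L.comm_z w w.2)) (h3 _ _ (h2 0))) (h3 _ _ (h2 1)))
      (h3 _ _ (h2 2))) (h3 _ _ (h2 3))
  have c1 := card_le_mul f R hfR
  have c2 := ncard_le_two R Y hRY
  have c3 := ncard_le_two Y (Set.range (be L)) hYB
  have c4 := ncard_be L
  rw [Nat.card_eq_fintype_card (α := Fin 4 → ZMod 2), Fintype.card_fun, ZMod.card, Fintype.card_fin] at c1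
  calc Nat.card L.V ≤ 2 ^ 4 * R.ncard := c1
    _ ≤ 2 ^ 4 * (2 * (2 * 32)) := Nat.mul_le_mul_left _ (by omega)
    _ ≤ 2 ^ 11 := by norm_num

/-- the remaining case: `A ∩ Q = ⟨z⟩` -/
theorem inter_eq (h : Sit th O K0) (L : Large Q (th a)) (hQ : 2 ^ 13 ≤ Nat.card Q) (v : V) :
    th v ∈ Q ↔ v = 0 ∨ v = a := by
  have hc := L.card_eq
  rcases h.inter_cases a_ne Q (fun k _ hk x hx => L.conj_mem k hk x hx) with h1 | h1 | h1 | h1
  · exact absurd ((h1 a).1 L.z_mem) a_ne
  · exact h1 v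
  · have := case_perp h L h1
    omega
  · have := case_top h L h1
    omega

theorem card_lt_or (h : Sit th O K0) (L : Large Q (th a)) (hQ : 2 ^ 13 ≤ Nat.card Q) :
    Nat.card Q ≤ 2 ^ 18 ∨ 2 ^ 33 ≤ Nat.card Q := by
  have hX := inter_eq h L hQ
  have hc := L.card_eq
  by_contra hcon
  push Not at hcon
  have := bound (T := T h L) L.b L.exists_b_eq (fun v hv => L.b_nondeg hv) (T_zero h L) (T_add h L) (T_a h L)
    (T_b h L) (hfix h L hX) (hinv h L) (by omega)
  omega

/-! ### the order -/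

omit [Finite K] in
theorem card_subgroupOf (H C : Subgroup K) : Nat.card (H.subgroupOf C) = Nat.card (H ⊓ C : Subgroup K) := by
  rw [← Subgroup.subgroupOf_map_subtype, Nat.card_congr
    ((H.subgroupOf C).equivMapOfInjective C.subtype C.subtype_injective).toEquiv]

omit [Finite K] in
/-- the part of the normaliser in the centraliser of `th a` -/
theorem dvd_card_stab (h : Sit th O K0) :
    2 ^ 15 ∣ Nat.card (((normalizer (h.A : Set K))).subgroupOf (centralizer ({th a} : Set K))) := by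
  classical
  let N := normalizer (h.A : Set K)
  let C := centralizer ({th a} : Set K)
  let act : MulAction N K := MulAction.compHom K ((MulAut.conj (G := K)).comp N.subtype)
  have hact : ∀ (n : N) (x : K), act.toSMul.smul n x = (n : K) * x * (n : K)⁻¹ := fun n x => rfl
  have hO : MulAction.orbit N (th a) = th '' {v | v ≠ 0} := by
    ext x
    constructor
    · rintro ⟨n, rfl⟩
      change (n : K) * th a * (n : K)⁻¹ ∈ _
      obtain ⟨g, -, hg⟩ := h.exists_isom_of_mem n.2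
      rw [hg]
      exact ⟨g a, fun h0 => a_ne (g.map_eq_zero_iff.1 h0), rfl⟩
    · rintro ⟨v, hv, rfl⟩
      obtain ⟨k, hk, hk'⟩ := h.exists_conj a_ne hv
      exact ⟨⟨k, h.K0_le hk⟩, hk'⟩
  have hOc : Nat.card (MulAction.orbit N (th a)) = 63 := by
    rw [hO, Nat.card_coe_set_eq, Set.ncard_image_of_injective _ h.inj]
    have h1 : ({v | v ≠ 0} : Set V) = {0}ᶜ := rfl
    rw [h1, Set.ncard_compl, Set.ncard_singleton, Nat.card_eq_fintype_card]
    simp
  have hS : MulAction.stabilizer N (th a) = C.subgroupOf N := by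
    ext n
    rw [MulAction.mem_stabilizer_iff, mem_subgroupOf, mem_centralizer_singleton_iff]
    change (n : K) * th a * (n : K)⁻¹ = th a ↔ _
    rw [mul_inv_eq_iff_eq_mul]
  have h1 : Nat.card N = 63 * Nat.card (C.subgroupOf N) := by
    rw [← hOc, ← hS, Nat.card_congr (MulAction.orbitEquivQuotientStabilizer N (th a))]
    exact Subgroup.card_eq_card_quotient_mul_card_subgroup _
  have h2 := h.card_dvd_normalizer
  have h3 : Nat.card (N.subgroupOf C) = Nat.card (C.subgroupOf N) := by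
    rw [card_subgroupOf, card_subgroupOf, inf_comm]
  change 2 ^ 15 ∣ Nat.card (N.subgroupOf C)
  rw [h3]
  have h4 : 2 ^ 15 ∣ 63 * Nat.card (C.subgroupOf N) := by
    rw [← h1]
    exact (show 2 ^ 15 ∣ 1451520 * 64 by norm_num).trans h2
  exact (Nat.Coprime.dvd_mul_left (by norm_num)).1 h4

/-- the order of `K` -/
theorem dvd_card (h : Sit th O K0) (L : Large Q (th a)) (hQ : 2 ^ 13 ≤ Nat.card Q) :
    2 ^ 13 * Nat.card Q ∣ Nat.card K := by
  classical
  have hX := inter_eq h L hQ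
  let C := centralizer ({th a} : Set K)
  let H : Subgroup C := (normalizer (h.A : Set K)).subgroupOf C
  let f : H →* (L.V ≃ₗ[ZMod 2] L.V) := L.act.comp H.subtype
  -- the kernel on `H`
  have hk0 : ∀ x : f.ker, ∃ hx : (((x : H) : C) : K) ∈ Q, ∀ u, T h L u (L.pr ⟨_, hx⟩) = L.pr ⟨_, hx⟩ := by
    intro x
    have hxQ : ((((x : H) : C) : K)) ∈ Q := L.mem_of_act _ x.2
    refine ⟨hxQ, fun u => ?_⟩
    rw [T_pr]
    have h1 : ((((x : H) : C) : K)) ∈ normalizer (h.A : Set K) := (x : H).2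
    obtain ⟨g, hg, hg'⟩ := h.exists_isom_of_mem h1
    change (((x : H) : C) : K) * th u * (((x : H) : C) : K)⁻¹ = th u ∨ _
    have h2 : th (g u + u) ∈ Q := by
      rw [h.add, ← hg', ← h.inv u]
      have h3 : (((x : H) : C) : K) * th u * (((x : H) : C) : K)⁻¹ * (th u)⁻¹ =
        (((x : H) : C) : K) * (th u * (((x : H) : C) : K) * (th u)⁻¹)⁻¹ := by group
      rw [h.inv u] at h3
      rw [h.inv u, h3]
      refine Q.mul_mem hxQ (Q.inv_mem ?_)
      have h4 := L.conj_mem (th u) (h.comm u a) _ hxQ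
      rwa [h.inv u] at h4
    rcases (hX _).1 h2 with h3 | h3
    · left
      rw [hg']
      congr 1
      exact (Cfsg.Agent.H336.SpSix.add_eq_zero_iff _ _).1 h3
    · right
      rw [hg']
      congr 1
      rw [← h3, add_comm u, add_add_self]
  have hk1 : Nat.card f.ker ≤ 4 := by
    obtain ⟨x0, hx0⟩ : ∃ x0 : K, ∀ x : f.ker, (((x : H) : C) : K) = 1 ∨ (((x : H) : C) : K) = th a ∨
        (((x : H) : C) : K) = x0 ∨ (((x : H) : C) : K) = x0 * th a := by
      by_cases hc : ∃ x : f.ker, L.pr ⟨_, (hk0 x).choose⟩ ≠ 0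
      · obtain ⟨x0, hx0⟩ := hc
        refine ⟨(((x0 : H) : C) : K), fun x => ?_⟩
        by_cases hx : L.pr ⟨_, (hk0 x).choose⟩ = 0
        · rcases L.pr_eq_zero.1 hx with h1 | h1
          · left; exact h1
          · right; left; exact h1
        · have h2 := hfix h L hX _ _ (hk0 x).choose_spec (hk0 x0).choose_spec hx hx0
          rcases L.pr_eq_pr.1 h2 with h1 | h1
          · right; right; left; exact h1
          · right; right; right; exact h1
      · push Not at hc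
        refine ⟨1, fun x => ?_⟩
        rcases L.pr_eq_zero.1 (hc x) with h1 | h1
        · left; exact h1
        · right; left; exact h1
    let F : f.ker → ({1, th a, x0, x0 * th a} : Finset K) := fun x => ⟨(((x : H) : C) : K), by
      simp only [Finset.mem_insert, Finset.mem_singleton]
      exact hx0 x⟩
    have hF : Function.Injective F := by
      intro x y hxy
      have h7 : (F x : K) = F y := congrArg Subtype.val hxy
      exact Subtype.ext (Subtype.ext (Subtype.ext h7))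
    refine (Nat.card_le_card_of_injective F hF).trans ?_
    rw [Nat.card_eq_fintype_card, Fintype.card_coe]
    exact Finset.card_le_four
  obtain ⟨j, hj, hj'⟩ : ∃ j, j ≤ 2 ∧ Nat.card f.ker = 2 ^ j := by
    have : Fact (Nat.Prime 2) := ⟨Nat.prime_two⟩
    have hp : IsPGroup 2 f.ker := by
      intro x
      refine ⟨2, ?_⟩
      apply Subtype.ext
      apply Subtype.ext
      apply Subtype.ext
      change (((x : H) : C) : K) ^ (2 ^ 2) = 1
      obtain ⟨hxQ, -⟩ := hk0 x
      rw [show (2 : ℕ) ^ 2 = 2 * 2 from rfl, pow_mul, pow_two, pow_two]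
      rcases L.sq _ hxQ with h2 | h2 <;> rw [h2]
      · rw [one_mul]
      · exact h.sq a
    obtain ⟨j, hj⟩ := IsPGroup.iff_card.1 hp
    refine ⟨j, ?_, hj⟩
    rw [hj] at hk1
    exact (Nat.pow_le_pow_iff_right (by norm_num : 1 < 2)).1 (hk1.trans (by norm_num : 4 ≤ 2 ^ 2))
  have hcard : ∀ {G1 G2 : Type _} [Group G1] [Group G2] (F : G1 →* G2), Nat.card G1 = Nat.card F.range * Nat.card F.ker := by
    intro G1 G2 _ _ F
    rw [← Nat.card_congr (QuotientGroup.quotientKerEquivRange F).toEquiv]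
    exact Subgroup.card_eq_card_quotient_mul_card_subgroup _
  have h1 : 2 ^ 15 ∣ Nat.card f.range * 2 ^ j := by
    rw [← hj', ← hcard f]
    exact dvd_card_stab h
  have h2 : 2 ^ 13 ∣ Nat.card f.range := by
    have h3 : 2 ^ 15 ∣ Nat.card f.range * 2 ^ 2 := h1.trans (Nat.mul_dvd_mul_left _ (pow_dvd_pow 2 hj))
    have h4 : 2 ^ 13 * 2 ^ 2 ∣ Nat.card f.range * 2 ^ 2 := by
      rw [← pow_add]; exact h3
    exact Nat.dvd_of_mul_dvd_mul_right (by norm_num) h4
  have h3 : Nat.card f.range ∣ Nat.card L.act.range := by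
    refine Subgroup.card_dvd_of_le ?_
    rintro _ ⟨x, rfl⟩
    exact ⟨(x : C), rfl⟩
  have h4 : Nat.card L.act.ker = Nat.card Q := by
    have hQC : Q ≤ C := fun x hx => mem_centralizer_singleton_iff.2 (L.comm_z x hx)
    have h5 : L.act.ker = Q.subgroupOf C := by
      ext x
      constructor
      · intro hx; exact L.mem_of_act x hx
      · intro hx; exact L.act_mem x hx
    rw [h5]
    exact Nat.card_congr (Subgroup.subgroupOfEquivOfLe hQC).toEquiv
  have h5 : Nat.card C = Nat.card L.act.range * Nat.card Q := by rw [← h4]; exact hcard L.act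
  have h6 : 2 ^ 13 * Nat.card Q ∣ Nat.card C := by
    rw [h5]
    exact Nat.mul_dvd_mul_right (h2.trans h3) _
  exact h6.trans (Subgroup.card_subgroup_dvd_card C)

omit [Finite K] in
theorem isPGroup_large {z : K} (L : Large Q z) : IsPGroup 2 Q := by
  intro x
  refine ⟨2, Subtype.ext ?_⟩
  change (x : K) ^ 2 ^ 2 = 1
  rw [show (2 : ℕ) ^ 2 = 2 * 2 from rfl, pow_mul, pow_two, pow_two]
  rcases L.sq x x.2 with h1 | h1 <;> rw [h1]
  · rw [one_mul]
  · exact L.z_sq

/-- `z` is 2-central -/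
theorem odd_of_large {z : K} (L : Large Q z) : ¬ 2 ∣ (centralizer ({z} : Set K)).index := by
  have : Fact (Nat.Prime 2) := ⟨Nat.prime_two⟩
  obtain ⟨S, hQS⟩ := (isPGroup_large L).exists_le_sylow
  have hzS : ∀ s ∈ S, s * z = z * s := by
    have : Nontrivial ↥S := ⟨⟨⟨z, hQS L.z_mem⟩, 1, fun e => L.z_ne (congrArg Subtype.val e)⟩⟩
    obtain ⟨w, hwc', hw⟩ := (nontrivial_iff_exists_ne_one (center ↥S)).1 (S.isPGroup'.center_nontrivial)
    have hwc : ∀ s ∈ S, s * (w : K) = w * s := fun s hs =>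
      congrArg Subtype.val (mem_center_iff.1 hwc' ⟨s, hs⟩)
    have hwQ : (w : K) ∈ Q := L.self _ (hwc z (hQS L.z_mem)).symm fun y hy => (hwc y (hQS hy)).symm
    rcases L.cent _ hwQ (fun y hy => (hwc y (hQS hy)).symm) with e | e
    · exact absurd (Subtype.ext e) hw
    · rw [← e]; exact hwc
  intro h2
  apply S.not_dvd_index
  refine h2.trans (index_dvd_of_le fun x hx => ?_)
  rw [mem_centralizer_singleton_iff]
  exact hzS x hx

/-- the general statement -/
theorem main (h : Sit th O K0) {z : K} (L : Large Q z) (hQ : 2 ^ 13 ≤ Nat.card Q) :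
    (Nat.card Q ≤ 2 ^ 18 ∨ 2 ^ 33 ≤ Nat.card Q) ∧ 2 ^ 13 * Nat.card Q ∣ Nat.card K := by
  obtain ⟨g, hg⟩ := h.exists_conj_of_odd_index L.z_ne (n := 1) (by rw [pow_one, pow_two]; exact L.z_sq)
    (odd_of_large L) a_ne
  have hL := L.conj g
  have hc : Nat.card (Q.map (MulAut.conj g).toMonoidHom) = Nat.card Q :=
    (Nat.card_congr (Q.equivMapOfInjective _ (MulAut.conj g).injective).toEquiv).symm
  generalize hQ' : Q.map (MulAut.conj g).toMonoidHom = Q' at hL hc
  rw [hg] at hL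
  rw [← hc] at hQ ⊢
  exact ⟨card_lt_or h hL hQ, dvd_card h hL hQ⟩

/-- large groups -/
theorem false_of_large (h : Sit th O K0) {z : K} (L : Large Q z) (h1 : 2 ^ 18 < Nat.card Q)
    (h2 : Nat.card Q < 2 ^ 33) : False := by
  have := (main h L (by omega)).1
  omega

/-- small centralisers -/
theorem false_of_card (h : Sit th O K0) {z : K} (L : Large Q z) (h1 : 2 ^ 13 ≤ Nat.card Q)
    (h2 : ¬ 2 ^ 26 ∣ Nat.card K) : False := by
  refine h2 ?_
  have h3 := (main h L h1).2
  have : Fact (Nat.Prime 2) := ⟨Nat.prime_two⟩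
  obtain ⟨n, hn⟩ := IsPGroup.iff_card.1 (isPGroup_large L)
  rw [hn] at h1 h3
  have h4 : 13 ≤ n := (Nat.pow_le_pow_iff_right (by norm_num : 1 < 2)).1 h1
  refine dvd_trans ?_ h3
  rw [← pow_add]
  exact pow_dvd_pow 2 (by omega)

end

end Cfsg.Agent.H848.SpSixLarge
end

-- part: H848/SpSixRows
section
/-!
# S3405: the rows `Fi24'`, `B`, `M`

`row_fi24`, `row_b`, `row_m` : no `Sit` in these groups.
-/

set_option autoImplicit false

namespace Cfsg.Agent.H848.SpSixRows

open Cfsg Subgroup Cfsg.Agent.H336.SpSix Cfsg.Agent.Co2Type.Quad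

/-! ### `Fi24'` -/

section Fi

open Cfsg.Spor
open Cfsg.Agent.CTwoTab.FiTF (z0 R0 R0_le R0_norm R0_card R0_cent z0_mem)
open Cfsg.Agent.R08.FiTwentyFour (L finite_Fi24)

theorem large_fi : Large R0 z0 where
  z_mem := z0_mem
  z_ne h := KFacts.FiTF.frame.z1 (congrArg Subtype.val h)
  z_sq := Subtype.ext KFacts.FiTF.frame.zz
  comm_z x hx := mem_centralizer_singleton_iff.1 (R0_le hx)
  conj_mem g hg x hx := R0_norm g (mem_centralizer_singleton_iff.2 hg) x hx
  sq x hx := by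
    rcases KFacts.FiTF.frame.sq x (mem_subgroupOf.1 hx) with h | h
    · exact Or.inl (Subtype.ext h)
    · exact Or.inr (Subtype.ext h)
  comm x hx y hy := by
    rcases (KFacts.FiTF.Abs.large KFacts.FiTF.frame).comm x (mem_subgroupOf.1 hx) y (mem_subgroupOf.1 hy) with h | h
    · exact Or.inl (Subtype.ext h)
    · exact Or.inr (Subtype.ext h)
  cent x _ hc := R0_cent x hc
  self g _ hc := by
    rcases R0_cent g hc with rfl | rfl
    · exact R0.one_mem
    · exact z0_mem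

theorem card_fi : Nat.card Spor.Fi24' = 1255205709190661721292800 := R08.FiTwentyFour.card_commutator

theorem row_fi24 {K : Type*} [Group K] (hK : Spor.IsoFi24' K) {th : V → K} {O K0 : Subgroup K} (h : Sit th O K0) :
    False := by
  obtain ⟨e⟩ := hK
  have : Finite Spor.Fi24' := Nat.finite_of_card_ne_zero (by rw [card_fi]; norm_num)
  refine SpSixLarge.false_of_card (h.equiv e) large_fi (le_of_eq R0_card.symm) ?_
  rw [card_fi]
  norm_num

end Fi

/-! ### `M` -/

theorem row_m {K : Type*} [Group K] (hK : Spor.IsoM K) {th : V → K} {O K0 : Subgroup K} (h : Sit th O K0) :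
    False := by
  obtain ⟨e⟩ := hK
  have := MonsterSetup.finite
  obtain ⟨Q, z, eta, pi, c⟩ := MonsterSetup.exists_chart
  have hc : Nat.card Q = 2 ^ 25 := c.card_Q
  exact SpSixLarge.false_of_large (h.equiv e) c.large (by rw [hc]; norm_num) (by rw [hc]; norm_num)

/-! ### `B` -/

section Baby

open Cfsg.Agent.BabyM Cfsg.Agent.BabyM.Model Cfsg.Agent.BabyU.ClosModel
open Cfsg.Agent.BabyU.ClosLane Cfsg.Agent.KFacts

theorem card_baby : Nat.card (PP Inst.M) = 2 ^ 23 := by
  rw [← A.grp.Q_card]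
  exact Nat.card_congr (Subgroup.subgroupOfEquivOfLe (A.grp.Q_le.trans A.C_le_G)).toEquiv

theorem row_b {K : Type*} [Group K] (hK : Spor.IsoB K) {th : V → K} {O K0 : Subgroup K} (h : Sit th O K0) :
    False := by
  obtain ⟨e⟩ := hK
  have := A.finite_G
  exact SpSixLarge.false_of_large (h.equiv (e.trans BM.KHAll.iso)) (Baby.Inst.large A) (by rw [card_baby]; norm_num)
    (by rw [card_baby]; norm_num)

end Baby

end Cfsg.Agent.H848.SpSixRows
end

private theorem dce_87ef0b80b1af : _root_.True := by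
  try have : _root_.True := by simp only [_root_.Cfsg.Agent.H848.SpSixLin.io.eq_2]
  try have : _root_.True := by simp only [_root_.Cfsg.Agent.H848.SpSixLin.a.eq_1]
  try have : _root_.True := by simp only [_root_.Cfsg.Agent.H848.SpSixLarge.fo.eq_1]
  try have : _root_.True := by simp only [_root_.Cfsg.Agent.H848.SpSixLarge.be.eq_1]
  try have : _root_.True := by simp only [_root_.Cfsg.Agent.H848.SpSixLin.io.eq_1]
  try have : _root_.True := by simp only [_root_.Cfsg.Agent.H848.SpSixLin.mo.eq_1]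
  try have : _root_.True := by simp only [_root_.Cfsg.Agent.H848.SpSixLin.ro.eq_1]
  exact _root_.True.intro
end

-- part: H318/SpSix/RadSit
section
prune_inst 0x30303504548000000000059001003c46ee000190006b0000f1e00b420e8e7f0180008720fc301a12010a22a440380040030000d94010000000000200411c00a0802b50029218ac04520007809884000000000000000000000000000000041004000000000
set_option linter.all false
open scoped Cfsg.Agent.FastGrp

-- part: H318/SpSix/Radical
section
/-!
# Radical `p`-subgroups of groups of Lie type of characteristic `p` (helper318)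

* `Rad p K` : `K = O_p(N(K))`;
* `normalizer_index` : for a simple group with a filtered root group datum of characteristic `p` the normaliser of a
  radical `p`-subgroup `K ≠ 1` has index prime to `p` (it is a parabolic subgroup).
-/

set_option autoImplicit false

namespace Cfsg.Agent.H318.SpSix.Radical

open Subgroup Cfsg.Agent.ChevalleyStructure.CoxeterGeom Cfsg.Agent.Tits.Roots
  Cfsg.Agent.Nodes.Reps Cfsg.Agent.Nodes.BNOf
  Cfsg.Agent.Nodes.Bruhat Cfsg.Agent.Nodes.OppDec Cfsg.Agent.Nodes.LeviDec Cfsg.Agent.Nodes.NormX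
  Cfsg.Agent.KFacts.RgdPar Cfsg.Agent.KFacts.RgdCent
  Cfsg.Agent.KFacts.RgdEx Cfsg.Agent.KFacts.RgdVJ Cfsg.Agent.KFacts.RgdCharP
  Cfsg.Agent.KFacts.RgdBorelTits Cfsg.Agent.KFacts.RgdFilt

/-- `K` contains every `p`-subgroup which is normal in `N(K)` -/
def Rad (p : ℕ) {G : Type*} [Group G] (K : Subgroup G) : Prop :=
  ∀ M : Subgroup G, IsPGroup p M → M ≤ normalizer (K : Set G) →
    (∀ g ∈ normalizer (K : Set G), ∀ m ∈ M, g * m * g⁻¹ ∈ M) → M ≤ K

/-- a radical subgroup is equal to every `p`-subgroup which contains it and is normalised by `N(K)` -/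
theorem Rad.eq {p : ℕ} [Fact p.Prime] {G : Type*} [Group G] [Finite G] {K V : Subgroup G} (hK : Rad p K)
    (hV : IsPGroup p V) (hKV : K ≤ V) (hN : normalizer (K : Set G) ≤ normalizer (V : Set G)) : K = V := by
  by_contra hne
  have h1 : K.subgroupOf V < ⊤ := by
    rw [lt_top_iff_ne_top]
    intro h2
    rw [subgroupOf_eq_top] at h2
    exact hne (le_antisymm hKV h2)
  have : Group.IsNilpotent V := hV.isNilpotent
  have h2 := Group.normalizerCondition_of_isNilpotent (G := V) _ h1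
  obtain ⟨v, hv, hv'⟩ := SetLike.exists_of_lt h2
  apply hv'
  rw [mem_subgroupOf]
  have hvK : (v : G) ∈ normalizer (K : Set G) := by
    rw [mem_normalizer_iff]
    intro k
    constructor
    · intro hk
      have h3 := (mem_normalizer_iff.1 hv ⟨k, hKV hk⟩).1 hk
      exact h3
    · intro hk
      have hkV : k ∈ V := by
        have h4 : (v : G) * k * (v : G)⁻¹ ∈ V := hKV hk
        have h5 : k = (v : G)⁻¹ * ((v : G) * k * (v : G)⁻¹) * v := by group
        rw [h5]
        exact mul_mem (mul_mem (inv_mem v.2) h4) v.2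
      exact (mem_normalizer_iff.1 hv ⟨k, hkV⟩).2 hk
  refine hK (V ⊓ normalizer (K : Set G)) (hV.to_le inf_le_left) inf_le_right ?_ ⟨v.2, hvK⟩
  rintro g hg m ⟨hm, hm'⟩
  exact ⟨(mem_normalizer_iff.1 (hN hg) m).1 hm,
    (normalizer (K : Set G)).mul_mem ((normalizer (K : Set G)).mul_mem hg hm') ((normalizer (K : Set G)).inv_mem hg)⟩

/-- **The normaliser of a radical subgroup contains a Sylow subgroup.** -/
theorem normalizer_index {p : ℕ} [Fact p.Prime] {G : Type*} [Group G] [Finite G] [IsSimpleGroup G]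
    (hG : HasFilt p G) (hc : ∃ a b : G, a * b ≠ b * a) {K : Subgroup G} (hK : IsPGroup p K) (hK1 : K ≠ ⊥)
    (hR : Rad p K) : ¬ p ∣ (normalizer (K : Set G)).index := by
  obtain ⟨l, M, A, h, T, n, X, R, hW, hBT, hGG, hN, hconn, hX, hl⟩ := hG.data hc
  obtain ⟨g, J, hJ, h1, h2⟩ := hBT K hK hK1
  have hP : cj g (PJ M.toCoxeterSystem h T X J) ≤
      normalizer ((cj g (VJ M.toCoxeterSystem h X J) : Subgroup G) : Set G) := by
    rw [normalizer_cj]
    exact cj_mono g (PJ_le_normalizer_VJ R J)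
  have hKV : K = cj g (VJ M.toCoxeterSystem h X J) :=
    hR.eq ((isPGroup_VJ R J).map _) h1 (h2.trans hP)
  have hU : cj g (RGD.Sup X (RGD.Pos M.toCoxeterSystem h)) ≤ normalizer (K : Set G) := by
    rw [hKV]
    exact (cj_mono g (RGD.U_le_B.trans B_le_PJ)).trans hP
  have h3 : ¬ p ∣ (RGD.Sup X (RGD.Pos M.toCoxeterSystem h)).index := by
    have h4 := Cfsg.Agent.KFacts.RgdSyl.not_dvd_relIndex R
    rwa [hGG, relIndex_top_right] at h4
  intro h4
  apply h3
  have h5 : (cj g (RGD.Sup X (RGD.Pos M.toCoxeterSystem h))).index =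
      (RGD.Sup X (RGD.Pos M.toCoxeterSystem h)).index := index_map_equiv _ (MulAut.conj g)
  rw [← h5]
  exact h4.trans (index_dvd_of_le hU)

end Cfsg.Agent.H318.SpSix.Radical
end

-- part: H318/SpSix/TwoPart
section
/-!
# The 2-part of the order of a group of Lie type of characteristic two (helper318)
-/

set_option autoImplicit false

namespace Cfsg.Agent.H318.SpSix.TwoPart

open Cfsg Cfsg.Agent.KFacts.RgdLieCharP

theorem fact_of {a N m k : ℕ} (hm : Odd m) (hk : Odd k) (h : k * N = 2 ^ a * m) : N.factorization 2 = a := by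
  have hN : N ≠ 0 := by
    rintro rfl
    have h1 : 2 ^ a * m ≠ 0 := by
      have := hm.pos
      positivity
    exact h1 (by rw [← h]; simp)
  have h1 : (k * N).factorization 2 = N.factorization 2 := by
    rw [Nat.factorization_mul hk.pos.ne' hN, Finsupp.add_apply,
      Nat.factorization_eq_zero_of_not_dvd (by rw [← even_iff_two_dvd, Nat.not_even_iff_odd]; exact hk), zero_add]
  rw [← h1, h, Nat.factorization_mul (by positivity) hm.pos.ne', Finsupp.add_apply,
    Nat.factorization_eq_zero_of_not_dvd (n := m) (by rw [← even_iff_two_dvd, Nat.not_even_iff_odd]; exact hm), add_zero,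
    Nat.Prime.factorization_pow Nat.prime_two, Finsupp.single_eq_same]

theorem odd_prod {ι : Type*} (s : Finset ι) (f : ι → ℕ) (h : ∀ i ∈ s, Odd (f i)) : Odd (∏ i ∈ s, f i) := by
  classical
  induction s using Finset.induction_on with
  | empty => simp
  | insert a s ha ih =>
    rw [Finset.prod_insert ha]
    exact (h a (Finset.mem_insert_self _ _)).mul (ih fun i hi => h i (Finset.mem_insert_of_mem hi))

theorem odd_gcd {a b : ℕ} (h : Odd b) : Odd (Nat.gcd a b) := by
  obtain ⟨c, hc⟩ := Nat.gcd_dvd_right a b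
  rw [hc] at h
  exact (Nat.odd_mul.1 h).1

variable {f : ℕ}

theorem even_q (hf : 1 ≤ f) {k : ℕ} (hk : 1 ≤ k) : Even ((2 ^ f) ^ k) := by
  rw [← pow_mul]
  exact (Nat.even_pow.2 ⟨even_two, by positivity⟩)

theorem odd_sub (hf : 1 ≤ f) {k : ℕ} (hk : 1 ≤ k) : Odd ((2 ^ f) ^ k - 1) := by
  refine Nat.Even.sub_odd ?_ (even_q hf hk) odd_one
  exact Nat.one_le_pow _ _ (by positivity)

theorem odd_add (hf : 1 ≤ f) {k : ℕ} (hk : 1 ≤ k) : Odd ((2 ^ f) ^ k + 1) := (even_q hf hk).add_one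

theorem odd_sub' (hf : 1 ≤ f) : Odd (2 ^ f - 1) := by
  have := odd_sub hf (k := 1) le_rfl
  rwa [pow_one] at this

theorem odd_add' (hf : 1 ≤ f) : Odd (2 ^ f + 1) := by
  have := odd_add hf (k := 1) le_rfl
  rwa [pow_one] at this

theorem two_pow_of_char {F : Type*} [Field F] [Fintype F] [CharP F 2] : ∃ f, 1 ≤ f ∧ Fintype.card F = 2 ^ f := by
  obtain ⟨n, -, hn⟩ := FiniteField.card F 2
  exact ⟨n, n.pos, hn⟩

theorem card_psl {F : Type*} [Field F] [Fintype F] (hf : 1 ≤ f) (hF : Fintype.card F = 2 ^ f) (n : ℕ) (hn : 2 ≤ n) :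
    (Nat.card (Matrix.ProjectiveSpecialLinearGroup (Fin n) F)).factorization 2 = f * (n * (n - 1) / 2) := by
  have h := Cfsg.Agent.S0243.result hF n hn
  have h1 : ∏ i : Fin n, ((2 ^ f) ^ n - (2 ^ f) ^ (i : ℕ)) =
      2 ^ (f * (n * (n - 1) / 2)) * ∏ i : Fin n, ((2 ^ f) ^ (n - (i : ℕ)) - 1) := by
    have h2 : ∀ i : Fin n, (2 ^ f) ^ n - (2 ^ f) ^ (i : ℕ) = (2 ^ f) ^ (i : ℕ) * ((2 ^ f) ^ (n - (i : ℕ)) - 1) := by
      intro i
      rw [Nat.mul_sub, ← pow_add, mul_one]
      congr 2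
      have := i.2
      omega
    rw [Finset.prod_congr rfl fun i _ => h2 i, Finset.prod_mul_distrib]
    congr 1
    rw [Finset.prod_pow_eq_pow_sum, ← pow_mul]
    congr 2
    rw [Finset.sum_fin_eq_sum_range]
    rw [← Finset.sum_range_id]
    exact Finset.sum_congr rfl fun i hi => by rw [dif_pos (Finset.mem_range.1 hi)]
  rw [h1] at h
  rw [← mul_assoc] at h
  refine fact_of ?_ ?_ h
  · refine odd_prod _ _ fun i _ => odd_sub hf ?_
    have := i.2
    omega
  · exact (odd_gcd (odd_sub' hf)).mul (odd_sub' hf)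

theorem card_psu {F : Type*} [Field F] [Fintype F] (hf : 1 ≤ f) {q : ℕ} (hq : q = 2 ^ f) (hF : Fintype.card F = q ^ 2)
    (n : ℕ) (hn : 2 ≤ n) : (Nat.card (Cfsg.PSU n F q)).factorization 2 = f * (n * (n - 1) / 2) := by
  have h := Cfsg.Agent.S0280.result hF n hn
  subst hq
  rw [← mul_assoc, ← pow_mul] at h
  refine fact_of ?_ ?_ h
  · refine odd_prod _ _ fun i _ => ?_
    split
    · exact odd_add hf (by omega)
    · exact odd_sub hf (by omega)
  · exact (odd_gcd (odd_add' hf)).mul (odd_add' hf)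

theorem card_psp {F : Type*} [Field F] [Fintype F] (hf : 1 ≤ f) (hF : Fintype.card F = 2 ^ f) (m : ℕ) (hm : 1 ≤ m) :
    (Nat.card (PSp m F)).factorization 2 = f * m ^ 2 := by
  have h1 := Cfsg.Agent.S0245.result hF m
  have h2 := Cfsg.Agent.S0246.result hF m hm
  have h4 := Subgroup.card_mul_index (Subgroup.center (Matrix.symplecticGroup (Fin m) F))
  rw [h2, h1] at h4
  have h5 : (Subgroup.center (Matrix.symplecticGroup (Fin m) F)).index = Nat.card (PSp m F) := rfl
  rw [h5, ← pow_mul] at h4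
  exact fact_of (odd_prod _ _ fun i _ => odd_sub hf (by omega)) (odd_gcd (odd_sub' hf)) h4

theorem card_plus {F : Type*} [Field F] [Fintype F] (hf : 1 ≤ f) (hF : Fintype.card F = 2 ^ f) (m : ℕ) (hm : 4 ≤ m) :
    (Nat.card (POmega F (quadFormPlus m F))).factorization 2 = f * (m * (m - 1)) := by
  have h := Cfsg.Agent.S0293.result hF m hm
  rw [mul_assoc ((2 ^ f) ^ (m * (m - 1))), ← pow_mul 2 f (m * (m - 1))] at h
  exact fact_of ((odd_sub hf (by omega)).mul (odd_prod _ _ fun i _ => odd_sub hf (by omega)))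
    (odd_gcd (odd_sub hf (by omega))) h

theorem card_minus {F : Type*} [Field F] [Fintype F] (hf : 1 ≤ f) (hF : Fintype.card F = 2 ^ f) (m : ℕ) (hm : 4 ≤ m)
    (a b : F) (hab : ∀ z₁ z₂ : F, z₁ ^ 2 + a * z₁ * z₂ + b * z₂ ^ 2 = 0 → z₁ = 0 ∧ z₂ = 0) :
    (Nat.card (POmega F (quadFormMinus (m - 1) F a b))).factorization 2 = f * (m * (m - 1)) := by
  have h := Cfsg.Agent.S0294.result hF m hm a b hab
  rw [mul_assoc ((2 ^ f) ^ (m * (m - 1))), ← pow_mul 2 f (m * (m - 1))] at h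
  exact fact_of ((odd_add hf (by omega)).mul (odd_prod _ _ fun i _ => odd_sub hf (by omega)))
    (odd_gcd (odd_add hf (by omega))) h

theorem fact_q {a N m k : ℕ} (hm : Odd m) (hk : Odd k) (h : k * N = (2 ^ f) ^ a * m) : N.factorization 2 = f * a := by
  rw [← pow_mul] at h
  exact fact_of hm hk h

theorem card_g2 {F : Type*} [Field F] [Fintype F] (hf : 1 ≤ f) (hF : Fintype.card F = 2 ^ f) :
    (Nat.card (Cfsg.Lie.chevG2.group F)).factorization 2 = f * 6 := by
  have h := Cfsg.Agent.S1059.result hF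
  refine fact_q (a := 6) (m := ((2 ^ f) ^ 2 - 1) * ((2 ^ f) ^ 6 - 1)) ?_ odd_one (by rw [one_mul, h]; ring)
  exact (odd_sub hf (by norm_num)).mul (odd_sub hf (by norm_num))

theorem card_f4 {F : Type*} [Field F] [Fintype F] (hf : 1 ≤ f) (hF : Fintype.card F = 2 ^ f) :
    (Nat.card (Cfsg.Lie.chevF4.group F)).factorization 2 = f * 24 := by
  have h := Cfsg.Agent.S1062.result hF
  refine fact_q (a := 24) (m := ((2 ^ f) ^ 2 - 1) * ((2 ^ f) ^ 6 - 1) * ((2 ^ f) ^ 8 - 1) * ((2 ^ f) ^ 12 - 1)) ?_ odd_one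
    (by rw [one_mul, h]; ring)
  exact (((odd_sub hf (by norm_num)).mul (odd_sub hf (by norm_num))).mul (odd_sub hf (by norm_num))).mul
    (odd_sub hf (by norm_num))

theorem card_e6 {F : Type*} [Field F] [Fintype F] (hf : 1 ≤ f) (hF : Fintype.card F = 2 ^ f) :
    (Nat.card (Cfsg.Lie.chevE6.group F)).factorization 2 = f * 36 := by
  have h := Cfsg.Agent.S1063.result hF
  refine fact_q (a := 36) (m := ((2 ^ f) ^ 2 - 1) * ((2 ^ f) ^ 5 - 1) * ((2 ^ f) ^ 6 - 1) * ((2 ^ f) ^ 8 - 1) *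
    ((2 ^ f) ^ 9 - 1) * ((2 ^ f) ^ 12 - 1)) ?_ (odd_gcd (odd_sub' hf)) (by rw [h]; ring)
  exact (((((odd_sub hf (by norm_num)).mul (odd_sub hf (by norm_num))).mul (odd_sub hf (by norm_num))).mul
    (odd_sub hf (by norm_num))).mul (odd_sub hf (by norm_num))).mul (odd_sub hf (by norm_num))

theorem card_e7 {F : Type*} [Field F] [Fintype F] (hf : 1 ≤ f) (hF : Fintype.card F = 2 ^ f) :
    (Nat.card (Cfsg.Lie.chevE7.group F)).factorization 2 = f * 63 := by
  have h := Cfsg.Agent.S1064.result hF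
  refine fact_q (a := 63) (m := ((2 ^ f) ^ 2 - 1) * ((2 ^ f) ^ 6 - 1) * ((2 ^ f) ^ 8 - 1) * ((2 ^ f) ^ 10 - 1) *
    ((2 ^ f) ^ 12 - 1) * ((2 ^ f) ^ 14 - 1) * ((2 ^ f) ^ 18 - 1)) ?_ (odd_gcd (odd_sub' hf)) (by rw [h]; ring)
  exact ((((((odd_sub hf (by norm_num)).mul (odd_sub hf (by norm_num))).mul (odd_sub hf (by norm_num))).mul
    (odd_sub hf (by norm_num))).mul (odd_sub hf (by norm_num))).mul (odd_sub hf (by norm_num))).mul
    (odd_sub hf (by norm_num))

theorem card_e8 {F : Type*} [Field F] [Fintype F] (hf : 1 ≤ f) (hF : Fintype.card F = 2 ^ f) :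
    (Nat.card (Cfsg.Lie.chevE8.group F)).factorization 2 = f * 120 := by
  have h := Cfsg.Agent.S1065.result hF
  refine fact_q (a := 120) (m := ((2 ^ f) ^ 2 - 1) * ((2 ^ f) ^ 8 - 1) * ((2 ^ f) ^ 12 - 1) * ((2 ^ f) ^ 14 - 1) *
    ((2 ^ f) ^ 18 - 1) * ((2 ^ f) ^ 20 - 1) * ((2 ^ f) ^ 24 - 1) * ((2 ^ f) ^ 30 - 1)) ?_ odd_one
    (by rw [one_mul, h]; ring)
  exact (((((((odd_sub hf (by norm_num)).mul (odd_sub hf (by norm_num))).mul (odd_sub hf (by norm_num))).mul
    (odd_sub hf (by norm_num))).mul (odd_sub hf (by norm_num))).mul (odd_sub hf (by norm_num))).mul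
    (odd_sub hf (by norm_num))).mul (odd_sub hf (by norm_num))

theorem card_twE6 {K : Type*} [Field K] [Fintype K] (hf : 1 ≤ f) {q : ℕ} (hq : q = 2 ^ f) (hK : Fintype.card K = q ^ 2) :
    (Nat.card (Cfsg.Lie.twistedE6 K q)).factorization 2 = f * 36 := by
  subst hq
  have h := Cfsg.Agent.S1066.result ((Nat.prime_two.isPrimePow.pow (by omega))) hK
  refine fact_q (a := 36) (m := ((2 ^ f) ^ 2 - 1) * ((2 ^ f) ^ 5 + 1) * ((2 ^ f) ^ 6 - 1) * ((2 ^ f) ^ 8 - 1) *
    ((2 ^ f) ^ 9 + 1) * ((2 ^ f) ^ 12 - 1)) ?_ (odd_gcd (odd_add' hf)) (by rw [h]; ring)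
  exact (((((odd_sub hf (by norm_num)).mul (odd_add hf (by norm_num))).mul (odd_sub hf (by norm_num))).mul
    (odd_sub hf (by norm_num))).mul (odd_add hf (by norm_num))).mul (odd_sub hf (by norm_num))

theorem card_twD4 {K : Type*} [Field K] [Fintype K] (hf : 1 ≤ f) {q : ℕ} (hq : q = 2 ^ f) (hK : Fintype.card K = q ^ 3) :
    (Nat.card (Cfsg.Lie.twistedD4 K q)).factorization 2 = f * 12 := by
  subst hq
  have h := Cfsg.Agent.S1067.result ((Nat.prime_two.isPrimePow.pow (by omega))) hK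
  refine fact_q (a := 12) (m := ((2 ^ f) ^ 2 - 1) * ((2 ^ f) ^ 6 - 1) * ((2 ^ f) ^ 8 + (2 ^ f) ^ 4 + 1)) ?_ odd_one
    (by rw [one_mul, h]; ring)
  exact ((odd_sub hf (by norm_num)).mul (odd_sub hf (by norm_num))).mul
    ((even_q hf (by norm_num)).add (even_q hf (by norm_num))).add_one

/-- a root of a power of two -/
theorem pow_of_pow {q k n : ℕ} (hk : k ≠ 0) (h : q ^ k = 2 ^ n) (hn : 1 ≤ n) : ∃ f, 1 ≤ f ∧ q = 2 ^ f := by
  have h1 : q ∣ 2 ^ n := h ▸ dvd_pow_self q hk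
  obtain ⟨f, -, hf⟩ := (Nat.dvd_prime_pow Nat.prime_two).1 h1
  refine ⟨f, ?_, hf⟩
  rcases Nat.eq_zero_or_pos f with rfl | h2
  · rw [hf, pow_zero, one_pow] at h
    have : 2 ≤ 2 ^ n := by
      calc 2 = 2 ^ 1 := rfl
        _ ≤ 2 ^ n := Nat.pow_le_pow_right (by norm_num) hn
    omega
  · exact h2

universe u

/-- **The 2-parts of the orders.** -/
theorem two_part {K : Type u} [Group K] (hK : IsLieFilt 2 K) :
    (∃ (F : Type) (_ : Field F) (_ : Fintype F) (f n : ℕ), 1 ≤ f ∧ Fintype.card F = 2 ^ f ∧ 2 ≤ n ∧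
      Nonempty (K ≃* Matrix.ProjectiveSpecialLinearGroup (Fin n) F) ∧
      (Nat.card K).factorization 2 = f * (n * (n - 1) / 2)) ∨
    (∃ (F : Type) (_ : Field F) (_ : Fintype F) (f n q : ℕ), 1 ≤ f ∧ q = 2 ^ f ∧ Fintype.card F = q ^ 2 ∧ 3 ≤ n ∧
      Nonempty (K ≃* PSU n F q) ∧ (Nat.card K).factorization 2 = f * (n * (n - 1) / 2)) ∨
    (∃ f m : ℕ, 1 ≤ f ∧ 2 ≤ m ∧ (Nat.card K).factorization 2 = f * m ^ 2) ∨
    (∃ f m : ℕ, 1 ≤ f ∧ 4 ≤ m ∧ (Nat.card K).factorization 2 = f * (m * (m - 1))) ∨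
    (∃ f : ℕ, 1 ≤ f ∧ ((Nat.card K).factorization 2 = f * 6 ∨ (Nat.card K).factorization 2 = f * 24 ∨
      (Nat.card K).factorization 2 = f * 36 ∨ (Nat.card K).factorization 2 = f * 63 ∨
      (Nat.card K).factorization 2 = f * 120 ∨ (Nat.card K).factorization 2 = f * 12)) := by
  rcases hK with h | h | h | h | h | h | h | h
  · obtain ⟨F, _, _, _, n, hn, -, ⟨e⟩⟩ := h
    obtain ⟨f, hf, hF⟩ := two_pow_of_char (F := F)
    exact Or.inl ⟨F, _, _, f, n, hf, hF, hn, ⟨e⟩, by rw [Nat.card_congr e.toEquiv]; exact card_psl hf hF n hn⟩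
  · obtain ⟨F, _, _, _, m, hm, -, ⟨e⟩⟩ := h
    obtain ⟨f, hf, hF⟩ := two_pow_of_char (F := F)
    exact Or.inr (Or.inr (Or.inl ⟨f, m, hf, hm, by rw [Nat.card_congr e.toEquiv]; exact card_psp hf hF m (by omega)⟩))
  · obtain ⟨F, _, _, _, n, q, hFq, hn, -, ⟨e⟩⟩ := h
    obtain ⟨f, hf, hF⟩ := two_pow_of_char (F := F)
    obtain ⟨g, hg, hq⟩ := pow_of_pow two_ne_zero (hFq.symm.trans hF) hf
    exact Or.inr (Or.inl ⟨F, _, _, g, n, q, hg, hq, hFq, hn, ⟨e⟩, by
      rw [Nat.card_congr e.toEquiv]; exact card_psu hg hq hFq n (by omega)⟩)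
  · obtain ⟨F, _, _, _, m, hm, ho, -⟩ := h
    obtain ⟨f, hf, hF⟩ := two_pow_of_char (F := F)
    exfalso
    rw [hF] at ho
    have h1 := even_q (f := f) hf (k := 1) le_rfl
    rw [pow_one] at h1
    exact (Nat.not_odd_iff_even.2 h1) ho
  · obtain ⟨F, _, _, _, m, hm, ⟨e⟩⟩ := h
    obtain ⟨f, hf, hF⟩ := two_pow_of_char (F := F)
    exact Or.inr (Or.inr (Or.inr (Or.inl ⟨f, m, hf, hm, by rw [Nat.card_congr e.toEquiv]; exact card_plus hf hF m hm⟩)))
  · obtain ⟨F, _, _, _, m, a, b, hm, hab, ⟨e⟩⟩ := h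
    obtain ⟨f, hf, hF⟩ := two_pow_of_char (F := F)
    exact Or.inr (Or.inr (Or.inr (Or.inl ⟨f, m, hf, hm, by
      rw [Nat.card_congr e.toEquiv]; exact card_minus hf hF m hm a b hab⟩)))
  · obtain ⟨F, _, _, _, h⟩ := h
    obtain ⟨f, hf, hF⟩ := two_pow_of_char (F := F)
    refine Or.inr (Or.inr (Or.inr (Or.inr ⟨f, hf, ?_⟩)))
    rcases h with ⟨-, ⟨e⟩⟩ | h | h | h | h
    rotate_left
    all_goals try obtain ⟨e⟩ := h
    rotate_right
    all_goals rw [Nat.card_congr e.toEquiv]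
    · exact Or.inl (card_g2 hf hF)
    · exact Or.inr (Or.inl (card_f4 hf hF))
    · exact Or.inr (Or.inr (Or.inl (card_e6 hf hF)))
    · exact Or.inr (Or.inr (Or.inr (Or.inl (card_e7 hf hF))))
    · exact Or.inr (Or.inr (Or.inr (Or.inr (Or.inl (card_e8 hf hF)))))
  · obtain ⟨F, _, _, _, q, -, h⟩ := h
    obtain ⟨f, hf, hF⟩ := two_pow_of_char (F := F)
    rcases h with ⟨hFq, ⟨e⟩⟩ | ⟨hFq, ⟨e⟩⟩
    · obtain ⟨g, hg, hq⟩ := pow_of_pow two_ne_zero (hFq.symm.trans hF) hf
      refine Or.inr (Or.inr (Or.inr (Or.inr ⟨g, hg, Or.inr (Or.inr (Or.inl ?_))⟩)))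
      rw [Nat.card_congr e.toEquiv]
      exact card_twE6 hg hq hFq
    · obtain ⟨g, hg, hq⟩ := pow_of_pow three_ne_zero (hFq.symm.trans hF) hf
      refine Or.inr (Or.inr (Or.inr (Or.inr ⟨g, hg, Or.inr (Or.inr (Or.inr (Or.inr (Or.inr ?_))))⟩)))
      rw [Nat.card_congr e.toEquiv]
      exact card_twD4 hg hq hFq

end Cfsg.Agent.H318.SpSix.TwoPart
end

-- part: H318/SpSix/RadSit
section
/-!
# `A` is a radical subgroup; the 2-part of `|K|` (helper318)
-/

set_option autoImplicit false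

namespace Cfsg.Agent.H318.SpSix.RadSit

open Subgroup Cfsg Cfsg.Agent.H336.SpSix Cfsg.Agent.H318.SpSix.Radical Cfsg.Agent.KFacts.RgdLieCharP
  Cfsg.Agent.H318.SpSix.TwoPart

/-- A subgroup of a group, transitively permuted, self-centralising for 2-elements, is radical. -/
theorem rad_of_trans {K : Type*} [Group K] [Finite K] {p : ℕ} [Fact p.Prime] {A : Subgroup K} (hA : IsPGroup p A)
    (hA1 : A ≠ ⊥)
    (htr : ∀ a ∈ A, a ≠ 1 → ∀ b ∈ A, b ≠ 1 → ∃ k ∈ normalizer (A : Set K), k * a * k⁻¹ = b)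
    (hc : ∀ x : K, (∀ a ∈ A, x * a = a * x) → ∀ n : ℕ, x ^ p ^ n = 1 → x ∈ A) : Rad p A := by
  intro M hM hMN hMn
  -- the fixed points of `M` in `A`
  let : MulDistribMulAction M A :=
    MulDistribMulAction.compHom A
      ((MulAut.conjNormal (H := A.subgroupOf (normalizer (A : Set K)))).comp (inclusion hMN) |> fun f =>
        ((MulAut.congr (subgroupOfEquivOfLe le_normalizer)).toMonoidHom.comp f : M →* MulAut A))
  have hact : ∀ (m : M) (a : A), ((m • a : A) : K) = m * a * (m : K)⁻¹ := fun m a => rfl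
  have h1 : ∃ b ∈ MulAction.fixedPoints M A, (1 : A) ≠ b := by
    refine hM.exists_fixed_point_of_prime_dvd_card_of_fixed_point A ?_ (a := 1) ?_
    · obtain ⟨n, hn⟩ := hA.exists_card_eq
      rw [hn]
      rcases Nat.eq_zero_or_pos n with rfl | h
      · exact absurd (card_eq_one.1 (by rw [hn, pow_zero])) hA1
      · exact dvd_pow_self p h.ne'
    · intro m
      exact smul_one m
  obtain ⟨b, hb, hb1⟩ := h1
  have hb2 : ∀ m ∈ M, m * (b : K) = b * m := fun m hm => by
    have := congrArg Subtype.val (hb ⟨m, hm⟩)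
    rw [hact, mul_inv_eq_iff_eq_mul] at this
    exact this
  intro x hx
  obtain ⟨n, hn⟩ := hM ⟨x, hx⟩
  refine hc x ?_ n (congrArg Subtype.val hn)
  intro a ha
  by_cases ha1 : a = 1
  · rw [ha1, mul_one, one_mul]
  obtain ⟨k, hk, hk'⟩ := htr b b.2 (fun h => hb1 (Subtype.ext h.symm)) a ha ha1
  have h2 : k⁻¹ * x * k ∈ M := by
    have := hMn k⁻¹ (inv_mem hk) x hx
    rwa [inv_inv] at this
  rw [← hk']
  calc x * (k * b * k⁻¹) = k * ((k⁻¹ * x * k) * b) * k⁻¹ := by group
    _ = k * (b * (k⁻¹ * x * k)) * k⁻¹ := by rw [hb2 _ h2]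
    _ = k * b * k⁻¹ * x := by group

variable {K : Type*} [Group K] {th : V → K} {O K0 : Subgroup K}

theorem exists_ne : ∃ v : V, v ≠ 0 := ⟨Pi.single (Sum.inl 0) 1, fun h => by
  have := congrFun h (Sum.inl 0)
  simp at this⟩

theorem A_ne_bot (h : Sit th O K0) : h.A ≠ ⊥ := by
  intro h1
  have h2 := h.card_A
  rw [h1, card_bot] at h2
  exact absurd h2 (by norm_num)

theorem rad [Finite K] (h : Sit th O K0) : Rad 2 h.A := by
  have : Fact (Nat.Prime 2) := ⟨Nat.prime_two⟩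
  refine rad_of_trans h.isPGroup_A (A_ne_bot h) ?_ ?_
  · rintro _ ⟨u, rfl⟩ hu _ ⟨v, rfl⟩ hv
    obtain ⟨k, hk, hk'⟩ := h.exists_conj (u := u) (v := v) (fun e : u = 0 => hu (by rw [e, h.zero]))
      (fun e : v = 0 => hv (by rw [e, h.zero]))
    exact ⟨k, h.K0_le hk, hk'⟩
  · intro x hx n hn
    exact h.mem_of_sq (fun v => hx _ ⟨v, rfl⟩) hn

theorem card_ker [Finite K] (h : Sit th O K0) : Nat.card h.rep.ker ∣ Nat.card O * 64 := by
  classical
  -- `O × A → C(A)` is surjective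
  let E : Subgroup K := centralizer (h.A : Set K)
  have hO : O ≤ E := fun x hx => by
    rw [mem_centralizer_iff]
    rintro _ ⟨v, rfl⟩
    exact (h.oc x hx v).symm
  have hA : h.A ≤ E := by
    rintro _ ⟨u, rfl⟩
    rw [mem_centralizer_iff]
    rintro _ ⟨v, rfl⟩
    exact h.comm v u
  have hcomm : ∀ (x : O) (y : h.A), Commute (O.subtype x) (h.A.subtype y) := by
    rintro ⟨x, hx⟩ ⟨_, v, rfl⟩
    exact h.oc x hx v
  let f : O × h.A →* K := MonoidHom.noncommCoprod O.subtype h.A.subtype hcomm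
  have hf : ∀ p : O × h.A, f p = p.1 * p.2 := fun p => rfl
  have hr : f.range = E := by
    apply le_antisymm
    · rintro _ ⟨p, rfl⟩
      rw [hf]
      exact mul_mem (hO p.1.2) (hA p.2.2)
    · intro x hx
      obtain ⟨o, ho, v, rfl⟩ := h.cent x fun v => (mem_centralizer_iff.1 hx _ ⟨v, rfl⟩).symm
      exact ⟨(⟨o, ho⟩, ⟨_, h.th_mem v⟩), rfl⟩
  have h1 : Nat.card f.range ∣ Nat.card O * 64 := by
    have := Subgroup.card_range_dvd f
    rwa [Nat.card_prod, h.card_A] at this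
  rw [hr] at h1
  refine dvd_trans ?_ h1
  have h2 : h.rep.ker.map (normalizer (h.A : Set K)).subtype ≤ E := by
    rintro _ ⟨n, hn, rfl⟩
    rw [SetLike.mem_coe, MonoidHom.mem_ker, h.rep_eq_one] at hn
    rw [mem_centralizer_iff]
    rintro _ ⟨v, rfl⟩
    exact (hn v).symm
  have h3 := Subgroup.card_dvd_of_le h2
  rwa [Nat.card_congr (equivMapOfInjective _ _ (subtype_injective _)).toEquiv.symm] at h3

theorem card_normalizer [Finite K] (h : Sit th O K0) :
    Nat.card (normalizer (h.A : Set K)) ∣ 2 ^ 15 * (2835 * Nat.card O) := by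
  have h1 : Nat.card (normalizer (h.A : Set K)) = Nat.card S * Nat.card h.rep.ker := by
    rw [← Nat.card_congr (QuotientGroup.quotientKerEquivOfSurjective _ h.rep_surjective).toEquiv,
      ← Subgroup.card_eq_card_quotient_mul_card_subgroup]
  rw [h1, card_S]
  refine (Nat.mul_dvd_mul_left _ (card_ker h)).trans ?_
  rw [show 1451520 * (Nat.card O * 64) = 2 ^ 15 * (2835 * Nat.card O) by ring]

/-- **The 2-part of the order of `K`.** -/
theorem two_part_eq [Finite K] [IsSimpleGroup K] (hK : IsLieFilt 2 K) (hc : ∃ a b : K, a * b ≠ b * a)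
    (h : Sit th O K0) : (Nat.card K).factorization 2 = 15 := by
  have : Fact (Nat.Prime 2) := ⟨Nat.prime_two⟩
  have h1 := normalizer_index (hasFilt_of_lie hK) hc h.isPGroup_A (A_ne_bot h) (rad h)
  have h2 := (normalizer (h.A : Set K)).card_mul_index
  rw [← h2, Nat.factorization_mul Nat.card_pos.ne' index_ne_zero_of_finite, Finsupp.add_apply,
    Nat.factorization_eq_zero_of_not_dvd h1, add_zero]
  apply le_antisymm
  · have h3 := (Nat.factorization_le_iff_dvd Nat.card_pos.ne'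
      (by have := h.odd.pos.ne'; positivity)).2 (card_normalizer h) 2
    refine h3.trans ?_
    have h4 : Odd (2835 * Nat.card O) := (show Odd 2835 by decide).mul h.odd
    have h5 := fact_of (a := 15) (N := 2 ^ 15 * (2835 * Nat.card O)) (m := 2835 * Nat.card O) (k := 1) h4 odd_one
      (one_mul _)
    exact h5.le
  · have h3 := (Nat.factorization_le_iff_dvd (by norm_num) Nat.card_pos.ne').2 h.card_dvd_normalizer 2
    refine le_trans ?_ h3
    have h5 := fact_of (a := 15) (N := 1451520 * 64) (m := 2835) (k := 1) (by decide) odd_one (by norm_num)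
    exact h5.ge

end Cfsg.Agent.H318.SpSix.RadSit
end
end
end
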