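import Cfsg.Agent.H785.CenterTwo
import Cfsg.Agent.H766.SLTwo
import Cfsg.Agent.H765.Ess
set_option linter.all false

-- part: H785/FifthA
section
/-!
# Group theory for fusion systems on groups of order `p⁵` (helper785)

* `quotAct`: the action induced on a quotient;
* `card_le_mul_ker`: a `p`-group acting on a group of order `p²`;
* `up`: the second centre relative to a normal subgroup.
-/

set_option autoImplicit false
set_option linter.unusedSectionVars false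
set_option linter.unusedVariables false
set_option linter.style.haveILetI false

namespace Cfsg.Agent.H785

open Cfsg Cfsg.FusionSystem Cfsg.Agent.H802
open scoped commutatorElement

section Quot

variable {P H : Type*} [Group P] [Group H]

/-- The action induced on a quotient. -/
def quotAct (f : P →* MulAut H) (N : Subgroup H) [N.Normal] (h : ∀ g, ∀ x ∈ N, f g x ∈ N) :
    P →* MulAut (H ⧸ N) where
  toFun g := QuotientGroup.congr N N (f g) (by
    apply le_antisymm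
    · rintro _ ⟨x, hx, rfl⟩
      exact h g x hx
    · intro x hx
      refine ⟨f g⁻¹ x, h g⁻¹ x hx, ?_⟩
      show f g (f g⁻¹ x) = x
      rw [map_inv, MulAut.apply_inv_self])
  map_one' := by
    ext x
    induction x using QuotientGroup.induction_on
    rw [QuotientGroup.congr_mk, map_one]
    rfl
  map_mul' g k := by
    ext x
    induction x using QuotientGroup.induction_on
    rw [MulAut.mul_apply, QuotientGroup.congr_mk, QuotientGroup.congr_mk, QuotientGroup.congr_mk,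
      map_mul]
    rfl

theorem quotAct_mk (f : P →* MulAut H) (N : Subgroup H) [N.Normal]
    (h : ∀ g, ∀ x ∈ N, f g x ∈ N) (g : P) (x : H) :
    quotAct f N h g (x : H ⧸ N) = ((f g x : H) : H ⧸ N) := rfl

theorem quotAct_eq_one_iff (f : P →* MulAut H) (N : Subgroup H) [N.Normal]
    (h : ∀ g, ∀ x ∈ N, f g x ∈ N) (g : P) :
    quotAct f N h g = 1 ↔ ∀ x, x⁻¹ * f g x ∈ N := by
  constructor
  · intro h1 x
    have h2 := congrArg (fun a : MulAut (H ⧸ N) => a (x : H ⧸ N)) h1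
    have h3 : ((f g x : H) : H ⧸ N) = (x : H ⧸ N) := h2
    exact QuotientGroup.eq.1 h3.symm
  · intro h1
    ext x
    induction x using QuotientGroup.induction_on with
    | H x =>
      rw [quotAct_mk, MulAut.one_apply]
      exact (QuotientGroup.eq.2 (h1 x)).symm

end Quot

section Small

variable {p : ℕ} [hp : Fact p.Prime]

/-- A group of order `p²` is commutative. -/
theorem mul_comm_of_card_sq {U : Type*} [Group U] (hU : Nat.card U = p ^ 2) (x y : U) :
    x * y = y * x := by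
  have h := IsPGroup.isMulCommutative_of_card_eq_prime_sq (p := p) hU
  exact h.is_comm.comm x y

/-- A `p`-group acting on a group of order `p²` has a kernel of index at most `p`. -/
theorem card_le_mul_ker {P U : Type*} [Group P] [Finite P] [Group U] (hP : IsPGroup p P)
    (f : P →* MulAut U) (hU : Nat.card U = p ^ 2) : Nat.card P ≤ p * Nat.card f.ker := by
  have hpp := hp.out
  have hfinU : Finite U := Nat.finite_of_card_ne_zero (by rw [hU]; exact pow_ne_zero 2 hpp.ne_zero)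
  letI : MulAction P U := MulAction.compHom U f
  let Fx : Subgroup U :=
    { carrier := {x | ∀ g, f g x = x}
      one_mem' := fun g => map_one _
      mul_mem' := fun {x y} hx hy g => by rw [map_mul, hx g, hy g]
      inv_mem' := fun {x} hx g => by rw [map_inv, hx g] }
  have h1 := hP.card_modEq_card_fixedPoints U
  have h2 : p ∣ Nat.card Fx := by
    have h3 : Nat.card Fx = Nat.card (MulAction.fixedPoints P U) := rfl
    rw [h3]
    have h4 : Nat.card (MulAction.fixedPoints P U) ≡ 0 [MOD p] := by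
      refine h1.symm.trans ?_
      rw [hU]
      exact Nat.modEq_zero_iff_dvd.2 (dvd_pow_self p two_ne_zero)
    exact Nat.modEq_zero_iff_dvd.1 h4
  obtain ⟨h, hh⟩ := exists_prime_orderOf_dvd_card' p h2
  have hho : orderOf (h : U) = p := by rw [← hh]; exact Subgroup.orderOf_coe h
  have hHc : Nat.card (Subgroup.zpowers (h : U)) = p := by rw [Nat.card_zpowers, hho]
  set K := Subgroup.zpowers (h : U) with hK
  have hfix : ∀ g, ∀ x ∈ K, f g x = x := by
    intro g x hx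
    obtain ⟨n, rfl⟩ := Subgroup.mem_zpowers_iff.1 hx
    rw [map_zpow, h.2 g]
  have hKidx : K.index = p := by
    have := K.card_mul_index
    rw [hHc, hU, sq] at this
    exact Nat.eq_of_mul_eq_mul_left hpp.pos this
  obtain ⟨u, hu⟩ : ∃ u, u ∉ K := by
    by_contra hcon
    push Not at hcon
    have : K = ⊤ := by rw [eq_top_iff]; exact fun x _ => hcon x
    rw [this, Subgroup.index_top] at hKidx
    exact hpp.one_lt.ne hKidx
  have h3 : ∀ g, u⁻¹ * f g u ∈ K := by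
    intro g
    obtain ⟨k, hk⟩ := hP g
    refine Cfsg.Agent.H766.pAut_trivial_section (f g) (k := k) (by rw [← map_pow, hk, map_one])
      (L := K) (K := ⊤) (fun x hx => by rw [hfix g x hx]; exact hx) (fun x _ => Subgroup.mem_top _)
      (Or.inr ?_) u (Subgroup.mem_top u)
    rw [Subgroup.relIndex_top_right, hKidx]
  have h4 : Nat.card (MulAction.orbit P u) ≤ p := by
    rw [← hHc]
    refine Nat.card_le_card_of_injective
      (fun x : MulAction.orbit P u => (⟨u⁻¹ * x.1, by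
        obtain ⟨g, hg⟩ := x.2
        rw [← hg]
        exact h3 g⟩ : K)) ?_
    intro x y hxy
    have := congrArg Subtype.val hxy
    exact Subtype.ext (mul_left_cancel this)
  have h5 : MulAction.stabilizer P u ≤ f.ker := by
    intro g hg
    have hgu : f g u = u := hg
    rw [MonoidHom.mem_ker]
    let E : Subgroup U :=
      { carrier := {x | f g x = x}
        one_mem' := map_one _
        mul_mem' := fun {x y} hx hy => by
          show f g (x * y) = x * y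
          rw [map_mul, show f g x = x from hx, show f g y = y from hy]
        inv_mem' := fun {x} hx => by
          show f g x⁻¹ = x⁻¹
          rw [map_inv, show f g x = x from hx] }
    have hKE : K ≤ E := fun x hx => hfix g x hx
    have hE : E = ⊤ := by
      have h6 : Nat.card E ∣ p ^ 2 := by rw [← hU]; exact Subgroup.card_subgroup_dvd_card E
      obtain ⟨j, hj, hje⟩ := (Nat.dvd_prime_pow hpp).1 h6
      have h7 : K ≠ E := fun h7 => hu (by rw [h7]; exact hgu)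
      have h8 : Nat.card K < Nat.card E := by
        refine lt_of_le_of_ne (Nat.card_mono (Set.toFinite _) hKE) fun h9 => h7 ?_
        exact Subgroup.eq_of_le_of_card_ge hKE h9.ge
      rw [hHc, hje] at h8
      have h9 : j = 2 := by
        interval_cases j
        · simp at h8
          exact absurd h8 hpp.ne_zero
        · simp at h8
        · rfl
      rw [h9] at hje
      exact Subgroup.eq_top_of_card_eq E (by rw [hje, hU])
    ext x
    have : x ∈ E := by rw [hE]; exact Subgroup.mem_top x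
    exact this
  have h6 := (MulAction.stabilizer P u).card_mul_index
  rw [MulAction.index_stabilizer, mul_comm] at h6
  rw [← h6]
  exact Nat.mul_le_mul h4 (Nat.card_mono (Set.toFinite _) h5)

/-- A `p`-group of automorphisms of a group of order `p²` has order at most `p`. -/
theorem card_le_of_card_sq {U : Type*} [Group U] (hU : Nat.card U = p ^ 2)
    (B : Subgroup (MulAut U)) (hB : IsPGroup p B) : Nat.card B ≤ p := by
  have hfinU : Finite U := Nat.finite_of_card_ne_zero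
    (by rw [hU]; exact pow_ne_zero 2 hp.out.ne_zero)
  have h1 := card_le_mul_ker hB B.subtype hU
  have h2 : B.subtype.ker = ⊥ := B.ker_subtype
  rwa [h2, Subgroup.card_bot, mul_one] at h1

end Small

/-! ### Subgroups of an ambient group -/

section Amb

variable {Ω : Type*} [Group Ω]

/-- `P` normalizes `X`. -/
def Nrm (P X : Subgroup Ω) : Prop := ∀ g ∈ P, ∀ x ∈ X, g * x * g⁻¹ ∈ X

/-- `Y` is invariant under the automorphisms of `X`. -/
def CharIn (X Y : Subgroup Ω) : Prop := ∀ (α : MulAut X) (x : X), (x : Ω) ∈ Y → ((α x : X) : Ω) ∈ Y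

theorem Nrm.mono {P P' X : Subgroup Ω} (h : Nrm P X) (hle : P' ≤ P) : Nrm P' X :=
  fun g hg => h g (hle hg)

theorem Nrm.self (X : Subgroup Ω) : Nrm X X :=
  fun g hg x hx => X.mul_mem (X.mul_mem hg hx) (X.inv_mem hg)

theorem nrm_bot (P : Subgroup Ω) : Nrm P ⊥ := by
  intro g _ x hx
  rw [Subgroup.mem_bot] at hx ⊢
  rw [hx]
  group

theorem CharIn.nrm {X Y : Subgroup Ω} (h : CharIn X Y) (hYX : Y ≤ X) : Nrm X Y := by
  intro g hg y hy
  exact h (MulAut.conj (⟨g, hg⟩ : X)) ⟨y, hYX hy⟩ hy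

theorem Nrm.normal {X Y : Subgroup Ω} (h : Nrm X Y) : (Y.subgroupOf X).Normal :=
  ⟨fun n hn g => h g g.2 n hn⟩

theorem CharIn.mem_iff {X Y : Subgroup Ω} (h : CharIn X Y) (α : MulAut X) (x : X) :
    ((α x : X) : Ω) ∈ Y ↔ (x : Ω) ∈ Y := by
  refine ⟨fun hx => ?_, h α x⟩
  have := h α⁻¹ (α x) hx
  rwa [MulAut.inv_apply_self] at this

/-- The elements of `P` acting trivially on `X/Y`. -/
def aK (P X Y : Subgroup Ω) (h : Nrm P Y) : Subgroup Ω where
  carrier := {g | g ∈ P ∧ ∀ x ∈ X, ⁅g, x⁆ ∈ Y}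
  one_mem' := ⟨P.one_mem, fun x _ => by rw [commutatorElement_one_left]; exact Y.one_mem⟩
  mul_mem' := by
    rintro a b ⟨ha, ha'⟩ ⟨hb, hb'⟩
    refine ⟨P.mul_mem ha hb, fun x hx => ?_⟩
    have e : ⁅a * b, x⁆ = (a * ⁅b, x⁆ * a⁻¹) * ⁅a, x⁆ := by
      simp only [commutatorElement_def]
      group
    rw [e]
    exact Y.mul_mem (h a ha _ (hb' x hx)) (ha' x hx)
  inv_mem' := by
    rintro a ⟨ha, ha'⟩
    refine ⟨P.inv_mem ha, fun x hx => ?_⟩
    have e : ⁅a⁻¹, x⁆ = a⁻¹ * ⁅a, x⁆⁻¹ * a⁻¹⁻¹ := by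
      simp only [commutatorElement_def]
      group
    rw [e]
    exact h _ (P.inv_mem ha) _ (Y.inv_mem (ha' x hx))

theorem mem_aK {P X Y : Subgroup Ω} {h : Nrm P Y} {g : Ω} :
    g ∈ aK P X Y h ↔ g ∈ P ∧ ∀ x ∈ X, ⁅g, x⁆ ∈ Y := Iff.rfl

theorem aK_le {P X Y : Subgroup Ω} {h : Nrm P Y} : aK P X Y h ≤ P := fun _ hg => hg.1

/-- The second centre of `S` relative to `Y`. -/
def up (S Y : Subgroup Ω) (h : Nrm S Y) : Subgroup Ω := aK S S Y h

variable {S Y : Subgroup Ω}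

theorem mem_up {h : Nrm S Y} {g : Ω} : g ∈ up S Y h ↔ g ∈ S ∧ ∀ x ∈ S, ⁅g, x⁆ ∈ Y := Iff.rfl

theorem up_le {h : Nrm S Y} : up S Y h ≤ S := aK_le

theorem comm_mem_of_nrm (h : Nrm S Y) {y s : Ω} (hy : y ∈ Y) (hs : s ∈ S) : ⁅y, s⁆ ∈ Y := by
  have e : ⁅y, s⁆ = y * (s * y⁻¹ * s⁻¹) := by
    rw [commutatorElement_def]
    group
  rw [e]
  exact Y.mul_mem hy (h s hs _ (Y.inv_mem hy))

theorem comm_mem_of_nrm' (h : Nrm S Y) {y s : Ω} (hy : y ∈ Y) (hs : s ∈ S) : ⁅s, y⁆ ∈ Y := by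
  rw [← commutatorElement_inv]
  exact Y.inv_mem (comm_mem_of_nrm h hy hs)

theorem le_up {h : Nrm S Y} (hYS : Y ≤ S) : Y ≤ up S Y h :=
  fun y hy => ⟨hYS hy, fun _ hx => comm_mem_of_nrm h hy hx⟩

/-- Every subgroup between `Y` and `up S Y` is normalized by `S`. -/
theorem nrm_of_le_up {h : Nrm S Y} {K : Subgroup Ω} (h1 : Y ≤ K) (h2 : K ≤ up S Y h) :
    Nrm S K := by
  intro s hs k hk
  have h3 := (h2 hk).2 s hs
  have e : s * k * s⁻¹ = ⁅k, s⁆⁻¹ * k := by
    rw [commutatorElement_def]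
    group
  rw [e]
  exact K.mul_mem (K.inv_mem (h1 h3)) hk

theorem nrm_up {h : Nrm S Y} (hYS : Y ≤ S) : Nrm S (up S Y h) := nrm_of_le_up (le_up hYS) le_rfl

theorem coe_commutator_apply (α : MulAut S) (x y : S) :
    ((α ⁅x, y⁆ : S) : Ω) = ⁅((α x : S) : Ω), ((α y : S) : Ω)⁆ := by
  rw [map_commutatorElement]
  rfl

theorem charIn_up {h : Nrm S Y} (hc : CharIn S Y) : CharIn S (up S Y h) := by
  intro α x hx
  refine ⟨(α x).2, fun y hy => ?_⟩
  have h1 := hx.2 _ (α⁻¹ ⟨y, hy⟩).2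
  have h2 : ((⁅x, α⁻¹ ⟨y, hy⟩⁆ : S) : Ω) ∈ Y := h1
  have h3 := hc α _ h2
  rw [coe_commutator_apply, MulAut.apply_inv_self] at h3
  exact h3

theorem charIn_ZS (S : Subgroup Ω) : CharIn S (ZS S) := fun α _ hx => apply_mem_ZS α hx

theorem charIn_commutator (S : Subgroup Ω) : CharIn S ⁅S, S⁆ :=
  fun α _ hx => apply_mem_commutator α hx

theorem mem_centralizerIn {P X : Subgroup Ω} {g : Ω} :
    g ∈ centralizerIn P X ↔ g ∈ P ∧ ∀ x ∈ X, x * g = g * x := by
  unfold FusionSystem.centralizerIn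
  rw [Subgroup.mem_inf, Subgroup.mem_centralizer_iff]
  rfl

theorem charIn_centralizerIn {X : Subgroup Ω} (hX : X ≤ S) (hc : CharIn S X) :
    CharIn S (centralizerIn S X) := by
  intro α x hx
  rw [mem_centralizerIn] at hx ⊢
  refine ⟨(α x).2, fun y hy => ?_⟩
  have h1 : ((α⁻¹ ⟨y, hX hy⟩ : S) : Ω) ∈ X := hc α⁻¹ ⟨y, hX hy⟩ hy
  have h2 := hx.2 _ h1
  have h3 : α⁻¹ ⟨y, hX hy⟩ * x = x * α⁻¹ ⟨y, hX hy⟩ := Subtype.ext h2
  have h4 := congrArg (fun z : S => ((α z : S) : Ω)) h3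
  simp only [map_mul, MulAut.apply_inv_self] at h4
  exact h4

theorem nrm_centralizerIn {X : Subgroup Ω} (hX : Nrm S X) : Nrm S (centralizerIn S X) := by
  intro s hs x hx
  rw [mem_centralizerIn] at hx ⊢
  refine ⟨S.mul_mem (S.mul_mem hs hx.1) (S.inv_mem hs), fun y hy => ?_⟩
  have h1 := hx.2 _ (hX s⁻¹ (S.inv_mem hs) y hy)
  rw [inv_inv] at h1
  have h2 : s * (s⁻¹ * y * s * x) * s⁻¹ = s * (x * (s⁻¹ * y * s)) * s⁻¹ := by rw [h1]
  have e1 : s * (s⁻¹ * y * s * x) * s⁻¹ = y * (s * x * s⁻¹) := by group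
  have e2 : s * (x * (s⁻¹ * y * s)) * s⁻¹ = s * x * s⁻¹ * y := by group
  rw [e1, e2] at h2
  exact h2

variable {p : ℕ} [hp : Fact p.Prime]

theorem card_comap_mk {G : Type*} [Group G] [Finite G] (N : Subgroup G) [N.Normal]
    (H : Subgroup (G ⧸ N)) :
    Nat.card (H.comap (QuotientGroup.mk' N)) = Nat.card H * Nat.card N := by
  have h1 := (H.comap (QuotientGroup.mk' N)).card_mul_index
  rw [Subgroup.index_comap_of_surjective _ (QuotientGroup.mk'_surjective N)] at h1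
  have h2 := H.card_mul_index
  have h3 := N.card_mul_index
  have h4 : N.index = Nat.card (G ⧸ N) := rfl
  rw [h4, ← h2] at h3
  rw [← h3] at h1
  have h5 : 0 < H.index := Nat.pos_of_ne_zero (Subgroup.index_ne_zero_of_finite)
  refine Nat.eq_of_mul_eq_mul_right h5 ?_
  rw [h1]
  ring

/-- A minimal step above a normal subgroup. -/
theorem exists_next [Finite S] (hS : IsPGroup p S) (h : Nrm S Y) (hYS : Y ≤ S) (hne : Y ≠ S) :
    ∃ K : Subgroup Ω, Y ≤ K ∧ K ≤ up S Y h ∧ Nat.card K = p * Nat.card Y := by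
  have hn : (Y.subgroupOf S).Normal := h.normal
  set N := Y.subgroupOf S with hN
  have hnt : Nontrivial (S ⧸ N) := by
    rw [QuotientGroup.nontrivial_iff]
    intro htop
    apply hne
    refine le_antisymm hYS fun x hx => ?_
    have : (⟨x, hx⟩ : S) ∈ N := by rw [htop]; exact Subgroup.mem_top _
    exact this
  have hG : IsPGroup p (S ⧸ N) := hS.to_quotient N
  have hcn := hG.center_nontrivial
  have hcp : IsPGroup p (Subgroup.center (S ⧸ N)) := hG.to_subgroup _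
  obtain ⟨n, hn0, hcc⟩ := hcp.nontrivial_iff_card.1 hcn
  obtain ⟨c, hc⟩ := exists_prime_orderOf_dvd_card' (G := Subgroup.center (S ⧸ N)) p
    (by rw [hcc]; exact dvd_pow_self p hn0.ne')
  have hco : orderOf (c : S ⧸ N) = p := by rw [← hc]; exact Subgroup.orderOf_coe c
  have hccen := Subgroup.mem_center_iff.1 c.2
  set K₀ := (Subgroup.zpowers (c : S ⧸ N)).comap (QuotientGroup.mk' N) with hK₀
  have hcenK : ∀ z ∈ Subgroup.zpowers (c : S ⧸ N), ∀ y, y * z = z * y := by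
    intro z hz y
    obtain ⟨i, rfl⟩ := Subgroup.mem_zpowers_iff.1 hz
    exact (show Commute y (c : S ⧸ N) from hccen y).zpow_right i
  refine ⟨K₀.map S.subtype, ?_, ?_, ?_⟩
  · intro y hy
    refine ⟨⟨y, hYS hy⟩, ?_, rfl⟩
    have h0 : (QuotientGroup.mk' N) ⟨y, hYS hy⟩ = 1 := (QuotientGroup.eq_one_iff _).2 hy
    have h1 : (QuotientGroup.mk' N) ⟨y, hYS hy⟩ ∈ Subgroup.zpowers (c : S ⧸ N) := by
      rw [h0]
      exact Subgroup.one_mem _
    exact h1
  · rintro _ ⟨k, hk, rfl⟩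
    refine ⟨k.2, fun x hx => ?_⟩
    have h1 := hcenK _ hk (QuotientGroup.mk' N ⟨x, hx⟩)
    have h2 : QuotientGroup.mk' N ⁅k, ⟨x, hx⟩⁆ = 1 := by
      rw [map_commutatorElement, commutatorElement_eq_one_iff_mul_comm, h1]
    have h3 : (⁅k, ⟨x, hx⟩⁆ : S) ∈ N := (QuotientGroup.eq_one_iff _).1 h2
    exact h3
  · have h1 : Nat.card (K₀.map S.subtype) = Nat.card K₀ :=
      Nat.card_congr (K₀.equivMapOfInjective _ S.subtype_injective).symm.toEquiv
    have h2 : Nat.card N = Nat.card Y := by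
      rw [hN]
      exact Nat.card_congr (Subgroup.subgroupOfEquivOfLe hYS).toEquiv
    rw [h1, hK₀, card_comap_mk, Nat.card_zpowers, hco, h2]

/-- The conjugation action of `P` on `X`. -/
def conjHom (P X : Subgroup Ω) (h : Nrm P X) : P →* MulAut X where
  toFun g :=
    { toFun := fun x => ⟨g * x * (g : Ω)⁻¹, h g g.2 x x.2⟩
      invFun := fun x => ⟨(g : Ω)⁻¹ * x * g, by
        have := h _ (P.inv_mem g.2) x x.2
        rwa [inv_inv] at this⟩
      left_inv := fun x => Subtype.ext (by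
        show (g : Ω)⁻¹ * (g * x * (g : Ω)⁻¹) * g = x
        group)
      right_inv := fun x => Subtype.ext (by
        show (g : Ω) * ((g : Ω)⁻¹ * x * g) * (g : Ω)⁻¹ = x
        group)
      map_mul' := fun x y => Subtype.ext (by
        show (g : Ω) * (x * y) * (g : Ω)⁻¹ = (g * x * (g : Ω)⁻¹) * (g * y * (g : Ω)⁻¹)
        group) }
  map_one' := by
    ext x
    show ((1 : Ω) * x * (1 : Ω)⁻¹) = x
    group
  map_mul' g k := by
    ext x
    show (((g : Ω) * k) * x * ((g : Ω) * k)⁻¹) = g * (k * x * (k : Ω)⁻¹) * (g : Ω)⁻¹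
    group

theorem coe_conjHom (P X : Subgroup Ω) (h : Nrm P X) (g : P) (x : X) :
    ((conjHom P X h g x : X) : Ω) = g * x * (g : Ω)⁻¹ := rfl

/-- The kernel of a `p`-group on a section of order `p²` has index at most `p`. -/
theorem card_le_aK {P X Y : Subgroup Ω} [Finite P] [Finite X] (hP : IsPGroup p P) (hX : Nrm P X)
    (hY : Nrm P Y) (hXY : Nrm X Y) (hle : Y ≤ X) (hc : Nat.card X = p ^ 2 * Nat.card Y) :
    Nat.card P ≤ p * Nat.card (aK P X Y hY) := by
  have hfY : Finite Y := Finite.of_injective _ (Subgroup.inclusion_injective hle)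
  have hY0 : Nat.card Y ≠ 0 := Nat.card_pos.ne'
  have hn : (Y.subgroupOf X).Normal := hXY.normal
  have hidx : Nat.card (X ⧸ Y.subgroupOf X) = p ^ 2 := by
    have h1 := (Y.subgroupOf X).card_mul_index
    have h2 : Nat.card (Y.subgroupOf X) = Nat.card Y :=
      Nat.card_congr (Subgroup.subgroupOfEquivOfLe hle).toEquiv
    rw [h2, hc, mul_comm] at h1
    exact Nat.eq_of_mul_eq_mul_right (Nat.pos_of_ne_zero hY0) h1
  let f := quotAct (conjHom P X hX) (Y.subgroupOf X) (fun g x hx => hY g g.2 x hx)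
  have h1 := card_le_mul_ker hP f hidx
  refine h1.trans (Nat.mul_le_mul le_rfl ?_)
  have hfin : Finite (aK P X Y hY) := by
    have : Finite P := ‹_›
    exact Finite.of_injective _ (Subgroup.inclusion_injective (aK_le (h := hY)))
  refine Nat.card_le_card_of_injective (fun g : f.ker => (⟨(g : P), (g : P).2, fun x hx => ?_⟩ :
    aK P X Y hY)) ?_
  · have h2 := (quotAct_eq_one_iff _ _ _ _).1 (MonoidHom.mem_ker.1 g.2) ⟨x, hx⟩⁻¹
    have h3 : x * (((g : P) : Ω) * x⁻¹ * ((g : P) : Ω)⁻¹) ∈ Y := by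
      have h4 : ((((⟨x, hx⟩ : X)⁻¹)⁻¹ * conjHom P X hX (g : P) (⟨x, hx⟩⁻¹) : X) : Ω) ∈ Y := h2
      have h5 : ((((⟨x, hx⟩ : X)⁻¹)⁻¹ * conjHom P X hX (g : P) (⟨x, hx⟩⁻¹) : X) : Ω) =
          x * (((g : P) : Ω) * x⁻¹ * ((g : P) : Ω)⁻¹) := by
        rw [inv_inv]
        rfl
      rwa [h5] at h4
    have h4 := Y.inv_mem h3
    have e : (x * (((g : P) : Ω) * x⁻¹ * ((g : P) : Ω)⁻¹))⁻¹ = ⁅((g : P) : Ω), x⁆ := by
      rw [commutatorElement_def]
      group
    rwa [e] at h4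
  · intro a b hab
    have := congrArg Subtype.val hab
    exact Subtype.ext (Subtype.ext this)

end Amb

end Cfsg.Agent.H785
end

-- part: H785/FifthW
section
/-!
# Weights of automorphisms on sections, and the commutator rule (helper785)
-/

set_option autoImplicit false
set_option linter.unusedSectionVars false
set_option linter.unusedVariables false
set_option linter.style.haveILetI false

namespace Cfsg.Agent.H785

open Cfsg Cfsg.FusionSystem Cfsg.Agent.H802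
open scoped commutatorElement

section Comm

variable {G : Type*} [Group G]

theorem comm_zpow_right {x y : G} (h : Commute ⁅x, y⁆ y) (b : ℤ) : ⁅x, y ^ b⁆ = ⁅x, y⁆ ^ b := by
  have h1 : x * y * x⁻¹ = ⁅x, y⁆ * y := by rw [commutatorElement_def]; group
  have h2 : x * y ^ b * x⁻¹ = ⁅x, y⁆ ^ b * y ^ b := by
    rw [← conj_zpow, h1, h.mul_zpow]
  rw [commutatorElement_def, h2, mul_inv_cancel_right]

theorem comm_zpow_left {x y : G} (h : Commute ⁅x, y⁆ x) (a : ℤ) : ⁅x ^ a, y⁆ = ⁅x, y⁆ ^ a := by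
  have h1 : Commute ⁅y, x⁆ x := by
    rw [← commutatorElement_inv]
    exact h.inv_left
  rw [← commutatorElement_inv, comm_zpow_right h1, ← commutatorElement_inv x y, inv_zpow, inv_inv]

theorem comm_zpow {x y : G} (h : Commute ⁅x, y⁆ x) (h' : Commute ⁅x, y⁆ y) (a b : ℤ) :
    ⁅x ^ a, y ^ b⁆ = ⁅x, y⁆ ^ (a * b) := by
  have h1 : ⁅x, y ^ b⁆ = ⁅x, y⁆ ^ b := comm_zpow_right h' b
  have h2 : Commute ⁅x, y ^ b⁆ x := by
    rw [h1]
    exact h.zpow_left b
  rw [comm_zpow_left h2, h1, ← zpow_mul, mul_comm]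

theorem comm_zpow_mul {x y u v : G} (h : Commute ⁅x, y⁆ x) (h' : Commute ⁅x, y⁆ y)
    (huy : Commute u y) (huv : Commute u v) (hxv : Commute x v) (a b : ℤ) :
    ⁅x ^ a * u, y ^ b * v⁆ = ⁅x, y⁆ ^ (a * b) := by
  rw [← comm_zpow h h']
  have h1 : u * (y ^ b * v) = (y ^ b * v) * u := ((huy.zpow_right b).mul_right huv).eq
  have h2 : v * (x ^ a)⁻¹ = (x ^ a)⁻¹ * v := ((hxv.symm.zpow_right a).inv_right).eq
  simp only [commutatorElement_def]
  calc x ^ a * u * (y ^ b * v) * (x ^ a * u)⁻¹ * (y ^ b * v)⁻¹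
      = x ^ a * (u * (y ^ b * v)) * u⁻¹ * (x ^ a)⁻¹ * v⁻¹ * (y ^ b)⁻¹ := by group
    _ = x ^ a * (y ^ b * v * u) * u⁻¹ * (x ^ a)⁻¹ * v⁻¹ * (y ^ b)⁻¹ := by rw [h1]
    _ = x ^ a * y ^ b * (v * (x ^ a)⁻¹) * v⁻¹ * (y ^ b)⁻¹ := by group
    _ = x ^ a * y ^ b * ((x ^ a)⁻¹ * v) * v⁻¹ * (y ^ b)⁻¹ := by rw [h2]
    _ = x ^ a * y ^ b * (x ^ a)⁻¹ * (y ^ b)⁻¹ := by group

end Comm

variable {Ω : Type*} [Group Ω] {S : Subgroup Ω} {p : ℕ} [hp : Fact p.Prime]

/-- `τ` acts on `L/M` as the `k`-th power. -/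
def Wt (τ : MulAut S) (L M : Subgroup Ω) (k : ℤ) : Prop :=
  ∀ x : S, (x : Ω) ∈ L → ((x : Ω) ^ k)⁻¹ * (τ x : S) ∈ M

theorem Wt.mono {τ : MulAut S} {L L' M M' : Subgroup Ω} {k : ℤ} (h : Wt τ L M k) (hL : L' ≤ L)
    (hM : M ≤ M') : Wt τ L' M' k := fun x hx => hM (h x (hL hx))

/-- **The commutator rule.** -/
theorem Wt.rule {τ : MulAut S} {U₁ V₁ U₂ V₂ U₃ K : Subgroup Ω} {a b k : ℤ} (hK : Nrm S K)
    (h1 : Wt τ U₁ V₁ a) (h2 : Wt τ U₂ V₂ b) (h3 : Wt τ U₃ K k) (hU₁ : U₁ ≤ S) (hU₂ : U₂ ≤ S)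
    (hV₂ : V₂ ≤ U₂) (c₁ : ∀ u ∈ V₁, ∀ y ∈ U₂, ⁅u, y⁆ ∈ K) (c₂ : ∀ x ∈ U₁, ∀ v ∈ V₂, ⁅x, v⁆ ∈ K)
    (c₀ : ∀ z ∈ U₃, ∀ s ∈ S, ⁅z, s⁆ ∈ K) (e : ∀ z ∈ U₃, z ^ p ∈ K) {x y : Ω} (hx : x ∈ U₁)
    (hy : y ∈ U₂) (hxy : ⁅x, y⁆ ∈ U₃) (hne : ⁅x, y⁆ ∉ K) : (p : ℤ) ∣ a * b - k := by
  have hn : (K.subgroupOf S).Normal := hK.normal
  set N := K.subgroupOf S with hN
  set q := QuotientGroup.mk' N with hq
  have hq1 : ∀ z : S, q z = 1 ↔ (z : Ω) ∈ K := fun z => QuotientGroup.eq_one_iff z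
  have hcom : ∀ z w : S, ⁅(z : Ω), (w : Ω)⁆ ∈ K → Commute (q z) (q w) := by
    intro z w h
    rw [← commutatorElement_eq_one_iff_commute, ← map_commutatorElement, hq1]
    exact h
  set X : S := ⟨x, hU₁ hx⟩ with hX
  set Y : S := ⟨y, hU₂ hy⟩ with hY
  set u : S := (X ^ a)⁻¹ * τ X with hu
  set v : S := (Y ^ b)⁻¹ * τ Y with hv
  have huV : (u : Ω) ∈ V₁ := h1 X hx
  have hvV : (v : Ω) ∈ V₂ := h2 Y hy
  have eX : τ X = X ^ a * u := by rw [hu]; group
  have eY : τ Y = Y ^ b * v := by rw [hv]; group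
  have hc1 : Commute ⁅q X, q Y⁆ (q X) := by
    rw [← map_commutatorElement]
    exact hcom _ _ (c₀ _ hxy _ X.2)
  have hc2 : Commute ⁅q X, q Y⁆ (q Y) := by
    rw [← map_commutatorElement]
    exact hcom _ _ (c₀ _ hxy _ Y.2)
  have key := comm_zpow_mul hc1 hc2 (hcom u Y (c₁ _ huV _ hy)) (hcom u v (c₁ _ huV _ (hV₂ hvV)))
    (hcom X v (c₂ _ hx _ hvV)) a b
  rw [← map_zpow, ← map_mul, ← eX, ← map_zpow, ← map_mul, ← eY, ← map_commutatorElement,
    ← map_commutatorElement, ← map_commutatorElement] at key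
  have h4 : q (τ ⁅X, Y⁆) = (q ⁅X, Y⁆) ^ k := by
    have h5 : (((⁅X, Y⁆ : S) ^ k)⁻¹ * τ ⁅X, Y⁆ : S) ∈ N := h3 ⁅X, Y⁆ hxy
    have h6 : q (((⁅X, Y⁆ : S) ^ k)⁻¹ * τ ⁅X, Y⁆) = 1 := (hq1 _).2 h5
    rw [map_mul, map_inv, map_zpow, inv_mul_eq_one] at h6
    exact h6.symm
  rw [h4] at key
  have h5 : q ⁅X, Y⁆ ≠ 1 := by
    rw [Ne, hq1]
    exact hne
  have h6 : (q ⁅X, Y⁆) ^ p = 1 := by
    rw [← map_pow, hq1]
    exact e _ hxy
  have h7 : orderOf (q ⁅X, Y⁆) = p := orderOf_eq_prime h6 h5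
  have h8 := zpow_eq_zpow_iff_modEq.1 key
  rw [h7] at h8
  exact Int.modEq_iff_dvd.1 h8

/-! ### The quotient `U/V` -/

theorem card_quot {U V : Subgroup Ω} [Finite U] (hVU : V ≤ U) (hc : Nat.card U = p * Nat.card V) :
    Nat.card (U ⧸ V.subgroupOf U) = p := by
  have hfV : Finite V := Finite.of_injective _ (Subgroup.inclusion_injective hVU)
  have h1 := (V.subgroupOf U).card_mul_index
  have h2 : Nat.card (V.subgroupOf U) = Nat.card V :=
    Nat.card_congr (Subgroup.subgroupOfEquivOfLe hVU).toEquiv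
  rw [h2, hc, mul_comm] at h1
  exact Nat.eq_of_mul_eq_mul_right Nat.card_pos h1

/-- Elements of `U` modulo `V`, when `|U : V| = p`. -/
theorem exists_zpow_mod {U V : Subgroup Ω} [Finite U] (hVU : V ≤ U) (hV : Nrm U V)
    (hc : Nat.card U = p * Nat.card V) {x₀ : Ω} (hx₀ : x₀ ∈ U) (hx₀' : x₀ ∉ V) {x : Ω} (hx : x ∈ U) :
    ∃ j : ℤ, (x₀ ^ j)⁻¹ * x ∈ V := by
  have hn : (V.subgroupOf U).Normal := hV.normal
  set q := QuotientGroup.mk' (V.subgroupOf U) with hq
  have hq1 : ∀ z : U, q z = 1 ↔ (z : Ω) ∈ V := fun z => QuotientGroup.eq_one_iff z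
  have hne : q ⟨x₀, hx₀⟩ ≠ 1 := by
    rw [Ne, hq1]
    exact hx₀'
  obtain ⟨j, hj⟩ := Subgroup.mem_zpowers_iff.1 (mem_zpowers_of_prime_card (card_quot hVU hc)
    (g' := q ⟨x, hx⟩) hne)
  refine ⟨j, ?_⟩
  have h1 : q ((⟨x₀, hx₀⟩ ^ j)⁻¹ * ⟨x, hx⟩) = 1 := by
    rw [map_mul, map_inv, map_zpow, hj, inv_mul_cancel]
  exact (hq1 _).1 h1

/-- The restriction of `τ` to an invariant subgroup. -/
def resHom (τ : MulAut S) {U : Subgroup Ω} (hUS : U ≤ S)
    (hτU : ∀ x : S, (x : Ω) ∈ U → ((τ x : S) : Ω) ∈ U) : U →* U :=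
  MonoidHom.mk' (fun x => ⟨(τ ⟨x, hUS x.2⟩ : S), hτU _ x.2⟩) (by
    intro x y
    apply Subtype.ext
    show ((τ ⟨(x : Ω) * y, hUS (x * y).2⟩ : S) : Ω) =
      ((τ ⟨x, hUS x.2⟩ : S) : Ω) * ((τ ⟨y, hUS y.2⟩ : S) : Ω)
    have e : (⟨(x : Ω) * y, hUS (x * y).2⟩ : S) = ⟨x, hUS x.2⟩ * ⟨y, hUS y.2⟩ := rfl
    rw [e, map_mul]
    rfl)

theorem coe_resHom (τ : MulAut S) {U : Subgroup Ω} (hUS : U ≤ S)
    (hτU : ∀ x : S, (x : Ω) ∈ U → ((τ x : S) : Ω) ∈ U) (x : U) :
    ((resHom τ hUS hτU x : U) : Ω) = (τ ⟨x, hUS x.2⟩ : S) := rfl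

theorem wt_iff {τ : MulAut S} {U V : Subgroup Ω} (hUS : U ≤ S) [hn : (V.subgroupOf U).Normal]
    (hτU : ∀ x : S, (x : Ω) ∈ U → ((τ x : S) : Ω) ∈ U) {k : ℤ} :
    Wt τ U V k ↔ ∀ x : U, QuotientGroup.mk' (V.subgroupOf U) (resHom τ hUS hτU x) =
      (QuotientGroup.mk' (V.subgroupOf U) x) ^ k := by
  have hq1 : ∀ z : U, QuotientGroup.mk' (V.subgroupOf U) z = 1 ↔ (z : Ω) ∈ V :=
    fun z => QuotientGroup.eq_one_iff z
  constructor
  · intro h x
    have h1 : QuotientGroup.mk' (V.subgroupOf U) ((x ^ k)⁻¹ * resHom τ hUS hτU x) = 1 :=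
      (hq1 _).2 (h ⟨x, hUS x.2⟩ x.2)
    rw [map_mul, map_inv, map_zpow, inv_mul_eq_one] at h1
    exact h1.symm
  · intro h x hx
    have h1 : QuotientGroup.mk' (V.subgroupOf U)
        ((⟨x, hx⟩ ^ k)⁻¹ * resHom τ hUS hτU ⟨x, hx⟩) = 1 := by
      rw [map_mul, map_inv, map_zpow, h, inv_mul_cancel]
    exact (hq1 _).1 h1

/-- The weight on a section of order `p`. -/
theorem exists_wt {τ : MulAut S} {U V : Subgroup Ω} [Finite U] (hUS : U ≤ S) (hVU : V ≤ U)
    (hV : Nrm U V) (hc : Nat.card U = p * Nat.card V)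
    (hτU : ∀ x : S, (x : Ω) ∈ U → ((τ x : S) : Ω) ∈ U)
    (hτV : ∀ x : S, (x : Ω) ∈ V → ((τ x : S) : Ω) ∈ V) : ∃ k : ℤ, Wt τ U V k := by
  have hn : (V.subgroupOf U).Normal := hV.normal
  have hfV : Finite V := Finite.of_injective _ (Subgroup.inclusion_injective hVU)
  have hcard := card_quot hVU hc
  obtain ⟨x₀, hx₀, hx₀'⟩ : ∃ x₀ ∈ U, x₀ ∉ V := by
    by_contra hcon
    push Not at hcon
    have h1 : U = V := le_antisymm hcon hVU
    rw [h1] at hc
    have h2 : 0 < Nat.card V := Nat.card_pos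
    nlinarith [hp.out.one_lt]
  set q := QuotientGroup.mk' (V.subgroupOf U) with hq
  have hq1 : ∀ z : U, q z = 1 ↔ (z : Ω) ∈ V := fun z => QuotientGroup.eq_one_iff z
  have hne : q ⟨x₀, hx₀⟩ ≠ 1 := by
    rw [Ne, hq1]
    exact hx₀'
  set T := resHom τ hUS hτU with hT
  obtain ⟨k, hk⟩ := Subgroup.mem_zpowers_iff.1 (mem_zpowers_of_prime_card hcard
    (g' := q (T ⟨x₀, hx₀⟩)) hne)
  refine ⟨k, (wt_iff hUS hτU).2 fun x => ?_⟩
  obtain ⟨j, hj⟩ := Subgroup.mem_zpowers_iff.1 (mem_zpowers_of_prime_card hcard (g' := q x) hne)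
  have h1 : q ((⟨x₀, hx₀⟩ ^ j)⁻¹ * x) = 1 := by
    rw [map_mul, map_inv, map_zpow, hj, inv_mul_cancel]
  have h2 : q (T ((⟨x₀, hx₀⟩ ^ j)⁻¹ * x)) = 1 := by
    rw [hq1]
    exact hτV _ ((hq1 _).1 h1)
  rw [map_mul, map_inv, map_zpow, map_mul, map_inv, map_zpow, ← hk, inv_mul_eq_one] at h2
  rw [← hT, ← h2, ← hj, ← zpow_mul, ← zpow_mul, mul_comm]

/-- Two automorphisms commute on a section of order `p`. -/
theorem comm_trivial {α β : MulAut S} {U V : Subgroup Ω} [Finite U] (hUS : U ≤ S) (hVU : V ≤ U)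
    (hV : Nrm U V) (hc : Nat.card U = p * Nat.card V)
    (hαU : ∀ x : S, (x : Ω) ∈ U ↔ ((α x : S) : Ω) ∈ U)
    (hβU : ∀ x : S, (x : Ω) ∈ U ↔ ((β x : S) : Ω) ∈ U)
    (hαV : ∀ x : S, (x : Ω) ∈ V → ((α x : S) : Ω) ∈ V)
    (hβV : ∀ x : S, (x : Ω) ∈ V → ((β x : S) : Ω) ∈ V) (x : S) (hx : (x : Ω) ∈ U) :
    (x : Ω)⁻¹ * ((α * β * α⁻¹ * β⁻¹) x : S) ∈ V := by
  have hn : (V.subgroupOf U).Normal := hV.normal
  obtain ⟨a, ha⟩ := exists_wt hUS hVU hV hc (fun x hx => (hαU x).1 hx) hαV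
  obtain ⟨b, hb⟩ := exists_wt hUS hVU hV hc (fun x hx => (hβU x).1 hx) hβV
  rw [wt_iff hUS (fun x hx => (hαU x).1 hx)] at ha
  rw [wt_iff hUS (fun x hx => (hβU x).1 hx)] at hb
  set q := QuotientGroup.mk' (V.subgroupOf U) with hq
  have hq1 : ∀ z : U, q z = 1 ↔ (z : Ω) ∈ V := fun z => QuotientGroup.eq_one_iff z
  set y : S := α⁻¹ (β⁻¹ x) with hy
  have hxy : x = β (α y) := by rw [hy, MulAut.apply_inv_self, MulAut.apply_inv_self]
  have hyU : (y : Ω) ∈ U := by rw [hαU, hβU, ← hxy]; exact hx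
  have h1 : (α * β * α⁻¹ * β⁻¹) x = α (β y) := by
    rw [MulAut.mul_apply, MulAut.mul_apply, MulAut.mul_apply, ← hy]
  rw [h1]
  have h2 : q (resHom α hUS (fun x hx => (hαU x).1 hx)
      (resHom β hUS (fun x hx => (hβU x).1 hx) ⟨y, hyU⟩)) =
      q (resHom β hUS (fun x hx => (hβU x).1 hx)
      (resHom α hUS (fun x hx => (hαU x).1 hx) ⟨y, hyU⟩)) := by
    rw [ha, hb, hb, ha, ← zpow_mul, ← zpow_mul, mul_comm]
  rw [← inv_mul_eq_one, ← map_inv, ← map_mul, hq1] at h2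
  have h3 := V.inv_mem h2
  have e : ((((resHom α hUS (fun x hx => (hαU x).1 hx)
      (resHom β hUS (fun x hx => (hβU x).1 hx) ⟨y, hyU⟩))⁻¹ *
      (resHom β hUS (fun x hx => (hβU x).1 hx)
      (resHom α hUS (fun x hx => (hαU x).1 hx) ⟨y, hyU⟩)) : U) : Ω))⁻¹ =
      (x : Ω)⁻¹ * (α (β y) : S) := by
    rw [Subgroup.coe_mul, Subgroup.coe_inv, mul_inv_rev, inv_inv, hxy]
    rfl
  rwa [e] at h3

end Cfsg.Agent.H785
end

-- part: H785/FifthT
section
/-!
# Essential subgroups `Q` with an invariant subgroup `Z`, `|Q : Z| = p²`: tori (helper785)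
-/

set_option autoImplicit false
set_option linter.unusedSectionVars false
set_option linter.unusedVariables false
set_option linter.style.haveILetI false

namespace Cfsg.Agent.H785

open Cfsg Cfsg.FusionSystem Cfsg.Agent.H802
open scoped commutatorElement

section Plane

variable {p : ℕ} [hp : Fact p.Prime]

/-- The fixed points of an automorphism of order `p` of a group of order `p²`. -/
theorem card_fix_of_order {A : Type*} [CommGroup A] [Finite A] (hA : Nat.card A = p ^ 2)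
    {s : MulAut A} (os : orderOf s = p) : Nat.card (fix s) = p ∧ Nat.card (com s) = p := by
  have hAp : IsPGroup p A := IsPGroup.of_card hA
  have hpp := hp.out
  have hs : s ^ p ^ 1 = 1 := by rw [pow_one, ← os, pow_orderOf_eq_one]
  obtain ⟨x, hx, hx'⟩ := Cfsg.Agent.H766.exists_fixed hAp (by
    rw [hA]
    intro h
    exact hpp.one_lt.ne' (Nat.dvd_one.1 (h ▸ dvd_pow_self p two_ne_zero))) s hs
  have h1 := card_com_mul_card_fix s
  rw [hA] at h1
  have h2 : Nat.card (fix s) ∣ p ^ 2 := Dvd.intro_left _ h1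
  obtain ⟨j, hj, hje⟩ := (Nat.dvd_prime_pow hpp).1 h2
  have h3 : fix s ≠ ⊥ := by
    intro h
    have : x ∈ fix s := mem_fix.2 hx'
    rw [h, Subgroup.mem_bot] at this
    exact hx this
  have h4 : fix s ≠ ⊤ := by
    intro h
    have : s = 1 := by
      ext y
      have : y ∈ fix s := by rw [h]; exact Subgroup.mem_top y
      exact mem_fix.1 this
    rw [this, orderOf_one] at os
    exact hpp.one_lt.ne os
  have h5 : Nat.card (fix s) = p := by
    interval_cases j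
    · exact absurd (Subgroup.card_eq_one.1 (by simpa using hje)) h3
    · simpa using hje
    · exact absurd (Subgroup.eq_top_of_card_eq _ (by rw [hje, hA])) h4
  refine ⟨h5, ?_⟩
  rw [h5, sq] at h1
  exact Nat.eq_of_mul_eq_mul_right hpp.pos h1

/-- Tori on a plane. -/
theorem exists_torus {A : Type*} [Group A] (hA : Nat.card A = p ^ 2)
    {s s' : MulAut A} (os : orderOf s = p) (os' : orderOf s' = p)
    (hne : s' ∉ Subgroup.zpowers s) : ∃ D D' : Subgroup A, Nat.card D = p ∧ Nat.card D' = p ∧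
      (∀ x : A, ∃ d ∈ D, ∃ d' ∈ D', x = d * d') ∧ (∀ x, x⁻¹ * s x ∈ D) ∧ (∀ x, s x = x ↔ x ∈ D) ∧
      (∀ x : A, ∃ k ∈ Subgroup.closure {s, s'}, k x ∈ D) ∧
      ∀ l l' : ℤ, (p : ℤ) ∣ l * l' - 1 → ∃ t ∈ Subgroup.closure {s, s'}, (∀ x ∈ D, t x = x ^ l) ∧
        (∀ x ∈ D', t x = x ^ l') ∧ t * s * t⁻¹ = s ^ (l ^ 2) := by
  have hpp := hp.out
  letI : CommGroup A := { ‹Group A› with mul_comm := mul_comm_of_card_sq hA }
  have hfin : Finite A := Nat.finite_of_card_ne_zero (by rw [hA]; exact pow_ne_zero 2 hpp.ne_zero)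
  obtain ⟨f1, c1⟩ := card_fix_of_order hA os
  obtain ⟨f2, c2⟩ := card_fix_of_order hA os'
  have hle : com s ≤ fix s := com_le_fix os c1
  have heq : com s = fix s := Subgroup.eq_of_le_of_card_ge hle (by rw [c1, f1])
  have h : Two p (Subgroup.closure {s, s'}) s s' :=
    { pgroup := IsPGroup.of_card hA
      small := fun B _ hB => card_le_of_card_sq hA B hB
      sG := Subgroup.subset_closure (by simp)
      s'G := Subgroup.subset_closure (by simp)
      os := os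
      os' := os'
      cs := c1
      cs' := c2
      ne := fun e => hne (by rw [e]; exact Subgroup.mem_zpowers _) }
  have htop : ∀ x, x ∈ com s ⊔ com s' := by
    intro x
    have h1 : com s ⊔ com s' = ⊤ := Subgroup.eq_top_of_card_eq _ (by rw [h.card_V, hA])
    rw [h1]
    exact Subgroup.mem_top x
  refine ⟨com s, com s', c1, c2, fun x => ?_, fun x => del_mem_com s x, fun x => ?_, fun x => ?_,
    fun l l' hl => ?_⟩
  · obtain ⟨y, hy, z, hz, rfl⟩ := Subgroup.mem_sup.1 (htop x)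
    exact ⟨y, hy, z, hz, rfl⟩
  · rw [heq]
    exact mem_fix.symm
  · have hs'm : s' ∈ Subgroup.closure {s, s'} := Subgroup.subset_closure (by simp)
    have hsm : s ∈ Subgroup.closure {s, s'} := Subgroup.subset_closure (by simp)
    by_cases hx1 : x = 1
    · exact ⟨1, Subgroup.one_mem _, by rw [hx1, map_one]; exact Subgroup.one_mem _⟩
    by_cases hx : x ∈ com s'
    · have h3 : s x ∉ com s' := by
        intro h3
        have h4 : del s x ∈ com s' := (com s').mul_mem ((com s').inv_mem hx) h3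
        have h5 : del s x = 1 := h.com_inf_fix (del_mem_com s _) (h.symm.com_le_fix_self h4)
        exact hx1 (h.symm.com_inf_fix hx h5)
      obtain ⟨n, hn⟩ := h.exists_move (htop (s x)) h3
      exact ⟨s' ^ n * s, Subgroup.mul_mem _ (Subgroup.zpow_mem _ hs'm n) hsm, hn⟩
    · obtain ⟨n, hn⟩ := h.exists_move (htop x) hx
      exact ⟨s' ^ n, Subgroup.zpow_mem _ hs'm n, hn⟩
  · obtain ⟨t, ht, h1, h2, -, h3⟩ := h.torus hl
    exact ⟨t, ht, h1, h2, h3⟩

end Plane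

variable {Ω : Type*} [Group Ω] {S : Subgroup Ω} {p : ℕ} [hp : Fact p.Prime] [Finite S]
  {F : FusionSystem S}

/-- `Q` is essential, `Y ≤ Z ≤ Q` are invariant, `|Q/Z| = p²`, `|Z/Y|` and `|Y|` are `1` or `p`. -/
structure Sec (p : ℕ) (F : FusionSystem S) (Q Z Y : Subgroup Ω) : Prop where
  ess : F.IsEssential p Q
  ZQ : Z ≤ Q
  YZ : Y ≤ Z
  invZ : ∀ α ∈ F.autGroup Q, ∀ x : Q, (x : Ω) ∈ Z → ((α x : Q) : Ω) ∈ Z
  invY : ∀ α ∈ F.autGroup Q, ∀ x : Q, (x : Ω) ∈ Y → ((α x : Q) : Ω) ∈ Y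
  cardQ : Nat.card Q = p ^ 2 * Nat.card Z
  cardZ : Nat.card Z = Nat.card Y ∨ Nat.card Z = p * Nat.card Y
  cardY : Nat.card Y = 1 ∨ Nat.card Y = p

namespace Sec

variable {Q Z Y : Subgroup Ω}

theorem QS (h : Sec p F Q Z Y) : Q ≤ S := h.ess.1.1

theorem cent (h : Sec p F Q Z Y) : centralizerIn S Q ≤ Q :=
  h.ess.1.2 Q (isConj_refl F h.QS)

theorem nrmZ (h : Sec p F Q Z Y) : Nrm Q Z := by
  intro g hg y hy
  exact h.invZ _ (inn_le_autGroup F h.QS ⟨⟨g, hg⟩, rfl⟩) ⟨y, h.ZQ hy⟩ hy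

theorem nrmY (h : Sec p F Q Z Y) : Nrm Q Y := by
  intro g hg y hy
  exact h.invY _ (inn_le_autGroup F h.QS ⟨⟨g, hg⟩, rfl⟩) ⟨y, h.ZQ (h.YZ hy)⟩ hy

theorem conj_mem_Z (h : Sec p F Q Z Y) {g : Ω} (hg : g ∈ normalizerIn S Q) {z : Ω} (hz : z ∈ Z) :
    g * z * g⁻¹ ∈ Z := by
  obtain ⟨β, hβ⟩ := exists_conjAut hg.2
  have h1 := h.invZ β (autInducedBy_le_autGroup F h.QS (conj_mem_autInducedBy hg.1 hβ))
    ⟨z, h.ZQ hz⟩ hz
  rwa [hβ] at h1

theorem conj_mem_Y (h : Sec p F Q Z Y) {g : Ω} (hg : g ∈ normalizerIn S Q) {z : Ω} (hz : z ∈ Y) :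
    g * z * g⁻¹ ∈ Y := by
  obtain ⟨β, hβ⟩ := exists_conjAut hg.2
  have h1 := h.invY β (autInducedBy_le_autGroup F h.QS (conj_mem_autInducedBy hg.1 hβ))
    ⟨z, h.ZQ (h.YZ hz)⟩ hz
  rwa [hβ] at h1

theorem conj_mem_Q (h : Sec p F Q Z Y) {g : Ω} (hg : g ∈ normalizerIn S Q) {z : Ω} (hz : z ∈ Q) :
    g * z * g⁻¹ ∈ Q := by
  obtain ⟨β, hβ⟩ := exists_conjAut hg.2
  rw [← hβ ⟨z, hz⟩]
  exact (β _).2

/-- The elements of `Aut_F(Q)` acting trivially on `Z/Y` and `Y`. -/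
def tri (h : Sec p F Q Z Y) : Subgroup (MulAut Q) where
  carrier := {α | α ∈ F.autGroup Q ∧ (∀ x : Q, (x : Ω) ∈ Z → ((x⁻¹ * α x : Q) : Ω) ∈ Y) ∧
    ∀ x : Q, (x : Ω) ∈ Y → α x = x}
  one_mem' := ⟨one_mem _, fun x _ => by simp, fun x _ => rfl⟩
  mul_mem' := by
    rintro a b ⟨ha, ha1, ha2⟩ ⟨hb, hb1, hb2⟩
    refine ⟨mul_mem ha hb, fun x hx => ?_, fun x hx => ?_⟩
    · have e : x⁻¹ * (a * b) x = (x⁻¹ * b x) * ((b x)⁻¹ * a (b x)) := by
        rw [MulAut.mul_apply]; group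
      rw [e]
      exact Y.mul_mem (hb1 x hx) (ha1 _ (h.invZ b hb x hx))
    · rw [MulAut.mul_apply, hb2 x hx, ha2 x hx]
  inv_mem' := by
    rintro a ⟨ha, ha1, ha2⟩
    refine ⟨inv_mem ha, fun x hx => ?_, fun x hx => ?_⟩
    · have h1 := ha1 (a⁻¹ x) (h.invZ _ (inv_mem ha) x hx)
      rw [MulAut.apply_inv_self] at h1
      have h2 := Y.inv_mem h1
      have e : (((a⁻¹ x)⁻¹ * x : Q) : Ω)⁻¹ = ((x⁻¹ * a⁻¹ x : Q) : Ω) := by
        rw [← Subgroup.coe_inv, mul_inv_rev, inv_inv]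
      rwa [e] at h2
    · have h1 := ha2 (a⁻¹ x) (h.invY _ (inv_mem ha) x hx)
      rw [MulAut.apply_inv_self] at h1
      exact h1.symm

theorem mem_tri (h : Sec p F Q Z Y) {α : MulAut Q} : α ∈ h.tri ↔ α ∈ F.autGroup Q ∧
    (∀ x : Q, (x : Ω) ∈ Z → ((x⁻¹ * α x : Q) : Ω) ∈ Y) ∧ ∀ x : Q, (x : Ω) ∈ Y → α x = x := Iff.rfl

theorem tri_le (h : Sec p F Q Z Y) : h.tri ≤ F.autGroup Q := fun _ ha => ha.1

theorem conj_tri (h : Sec p F Q Z Y) {g α : MulAut Q} (hg : g ∈ F.autGroup Q) (hα : α ∈ h.tri) :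
    g * α * g⁻¹ ∈ h.tri := by
  obtain ⟨ha, ha1, ha2⟩ := hα
  refine ⟨mul_mem (mul_mem hg ha) (inv_mem hg), fun x hx => ?_, fun x hx => ?_⟩
  · have h1 := h.invY g hg _ (ha1 _ (h.invZ _ (inv_mem hg) x hx))
    rw [map_mul, map_inv, MulAut.apply_inv_self] at h1
    exact h1
  · rw [MulAut.mul_apply, MulAut.mul_apply, ha2 _ (h.invY _ (inv_mem hg) x hx),
      MulAut.apply_inv_self]

theorem relIndex_ZY (h : Sec p F Q Z Y) : (Y.subgroupOf Q).relIndex (Z.subgroupOf Q) = 1 ∨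
    (Y.subgroupOf Q).relIndex (Z.subgroupOf Q) = p := by
  have hfQ : Finite Q := finite_of_le h.QS
  have hfZ : Finite Z := finite_of_le h.ZQ
  have hfY : Finite Y := finite_of_le h.YZ
  have h1 : (Y.subgroupOf Q).relIndex (Z.subgroupOf Q) = Y.relIndex Z :=
    Subgroup.relIndex_subgroupOf h.ZQ
  rw [h1]
  have h4 : (Y.subgroupOf Z).index = Y.relIndex Z := rfl
  have h5 := (Y.subgroupOf Z).card_mul_index
  rw [Nat.card_congr (Subgroup.subgroupOfEquivOfLe h.YZ).toEquiv, h4] at h5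
  have h6 : 0 < Nat.card Y := Nat.card_pos
  rcases h.cardZ with h7 | h7
  · left
    rw [h7] at h5
    exact Nat.eq_of_mul_eq_mul_left h6 (by rw [h5, mul_one])
  · right
    rw [h7] at h5
    exact Nat.eq_of_mul_eq_mul_left h6 (by rw [h5, mul_comm])

/-- `p`-elements of `Aut_F(Q)` act trivially on `Z/Y` and `Y`. -/
theorem mem_tri_of_pow (h : Sec p F Q Z Y) {α : MulAut Q} (hα : α ∈ F.autGroup Q) {k : ℕ}
    (hk : α ^ p ^ k = 1) : α ∈ h.tri := by
  have hfQ : Finite Q := finite_of_le h.QS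
  have hfY : Finite Y := finite_of_le (h.YZ.trans h.ZQ)
  refine ⟨hα, fun x hx => ?_, fun x hx => ?_⟩
  · exact Cfsg.Agent.H766.pAut_trivial_section α hk (L := Y.subgroupOf Q) (K := Z.subgroupOf Q)
      (fun x hx => h.invY α hα x hx) (fun x hx => h.invZ α hα x hx) h.relIndex_ZY x hx
  · have h1 := Cfsg.Agent.H766.pAut_trivial_section α hk (L := ⊥) (K := Y.subgroupOf Q)
      (fun x hx => by rw [Subgroup.mem_bot] at hx ⊢; rw [hx, map_one])
      (fun x hx => h.invY α hα x hx) (by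
        rw [Subgroup.relIndex_bot_left]
        rw [Nat.card_congr (Subgroup.subgroupOfEquivOfLe (h.YZ.trans h.ZQ)).toEquiv]
        exact h.cardY) x hx
    rw [Subgroup.mem_bot, inv_mul_eq_one] at h1
    exact h1.symm

/-- **Chain lemma.** -/
theorem mem_inn_of_chain (hS : IsPGroup p S) (h : Sec p F Q Z Y) {α : MulAut Q} (hα : α ∈ h.tri)
    (h1 : ∀ x : Q, ((x⁻¹ * α x : Q) : Ω) ∈ Z) : α ∈ Inn Q := by
  have hfQ : Finite Q := finite_of_le h.QS
  have hQp : IsPGroup p Q := hS.to_le h.QS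
  let K : Subgroup (MulAut Q) :=
    { carrier := {α | α ∈ h.tri ∧ ∀ x : Q, ((x⁻¹ * α x : Q) : Ω) ∈ Z}
      one_mem' := ⟨one_mem _, fun x => by simp⟩
      mul_mem' := by
        rintro a b ⟨ha, ha'⟩ ⟨hb, hb'⟩
        refine ⟨mul_mem ha hb, fun x => ?_⟩
        have e : x⁻¹ * (a * b) x = (x⁻¹ * b x) * ((b x)⁻¹ * a (b x)) := by
          rw [MulAut.mul_apply]; group
        rw [e]
        exact Z.mul_mem (hb' x) (ha' _)
      inv_mem' := by
        rintro a ⟨ha, ha'⟩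
        refine ⟨inv_mem ha, fun x => ?_⟩
        have h1 := ha' (a⁻¹ x)
        rw [MulAut.apply_inv_self] at h1
        have h2 := Z.inv_mem h1
        have e : (((a⁻¹ x)⁻¹ * x : Q) : Ω)⁻¹ = ((x⁻¹ * a⁻¹ x : Q) : Ω) := by
          rw [← Subgroup.coe_inv, mul_inv_rev, inv_inv]
        rwa [e] at h2 }
  have hKA : K ≤ F.autGroup Q := fun a ha => ha.1.1
  have hKn : ∀ a ∈ F.autGroup Q, ∀ k ∈ K, a * k * a⁻¹ ∈ K := by
    rintro a ha k ⟨hk, hk'⟩
    refine ⟨h.conj_tri ha hk, fun x => ?_⟩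
    have h2 := h.invZ a ha _ (hk' (a⁻¹ x))
    rw [map_mul, map_inv, MulAut.apply_inv_self] at h2
    exact h2
  have hKp : IsPGroup p K := by
    rintro ⟨κ, hκ, hκ'⟩
    let c : ℕ → Subgroup Q := fun i =>
      if i = 0 then ⊤ else if i = 1 then Z.subgroupOf Q else if i = 2 then Y.subgroupOf Q else ⊥
    obtain ⟨k, hk⟩ := Cfsg.Agent.H759.exists_pow_eq_one_of_chain hQp κ 3 c rfl rfl
      (by
        intro i hi x hx
        interval_cases i
        · exact Subgroup.mem_top _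
        · exact h.invZ κ hκ.1 x hx
        · exact h.invY κ hκ.1 x hx
        · have hx' : x ∈ (⊥ : Subgroup Q) := hx
          rw [Subgroup.mem_bot] at hx'
          rw [hx', map_one]
          exact Subgroup.one_mem _)
      (by
        intro i hi x hx
        interval_cases i
        · exact hκ' x
        · exact hκ.2.1 x hx
        · have h2 := hκ.2.2 x hx
          rw [h2, inv_mul_cancel]
          exact Subgroup.one_mem _)
    exact ⟨k, Subtype.ext hk⟩
  exact Cfsg.Agent.H765.Ess.le_inn hS h.ess K hKA hKn hKp ⟨hα, h1⟩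

/-- Conjugation by an element of `N_S(Q)` acting trivially on `Q/Z`: the element lies in `Q`. -/
theorem mem_of_comm (hS : IsPGroup p S) (h : Sec p F Q Z Y) {g : Ω} (hg : g ∈ S)
    (hgQ : ∀ x ∈ Q, ⁅g, x⁆ ∈ Z) : g ∈ Q := by
  have hfQ : Finite Q := finite_of_le h.QS
  have hn : g ∈ Subgroup.normalizer (Q : Set Ω) := by
    have h1 : ∀ x ∈ Q, g * x * g⁻¹ ∈ Q := by
      intro x hx
      have e : g * x * g⁻¹ = ⁅g, x⁆ * x := by rw [commutatorElement_def]; group
      rw [e]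
      exact Q.mul_mem (h.ZQ (hgQ x hx)) hx
    have hmap : Q.map (MulAut.conj g).toMonoidHom = Q := by
      refine Subgroup.eq_of_le_of_card_ge ?_ ?_
      · rintro _ ⟨x, hx, rfl⟩
        exact h1 x hx
      · exact (Nat.card_congr
          (Q.equivMapOfInjective _ (MulAut.conj g).injective).toEquiv).le
    rw [Subgroup.mem_normalizer_iff]
    intro x
    refine ⟨h1 x, fun hx => ?_⟩
    rw [← hmap] at hx
    obtain ⟨y, hy, hye⟩ := hx
    have : y = x := (MulAut.conj g).injective hye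
    rw [← this]
    exact hy
  obtain ⟨β, hβ⟩ := exists_conjAut hn
  have hβS : β ∈ autInducedBy S Q := conj_mem_autInducedBy hg hβ
  obtain ⟨k, hk⟩ := isPGroup_autInducedBy hS Q ⟨β, hβS⟩
  have hk' : β ^ p ^ k = 1 := congrArg Subtype.val hk
  have h2 := h.mem_inn_of_chain hS (h.mem_tri_of_pow (autInducedBy_le_autGroup F h.QS hβS) hk') (by
    intro x
    rw [Subgroup.coe_mul, Subgroup.coe_inv, hβ]
    have h3 := h.conj_mem_Z (g := (x : Ω)⁻¹) ⟨S.inv_mem (h.QS x.2), ?_⟩ (hgQ x x.2)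
    · have e : (x : Ω)⁻¹ * ⁅g, (x : Ω)⁆ * ((x : Ω)⁻¹)⁻¹ = (x : Ω)⁻¹ * (g * x * g⁻¹) := by
        rw [commutatorElement_def]
        group
      rwa [e] at h3
    · exact Subgroup.le_normalizer (Q.inv_mem x.2))
  exact mem_of_conj_mem_inn h.QS h.cent hg hβ h2

theorem nrmNQ (h : Sec p F Q Z Y) : Nrm (normalizerIn S Q) Q := fun _ hg _ hx => h.conj_mem_Q hg hx

theorem nrmNZ (h : Sec p F Q Z Y) : Nrm (normalizerIn S Q) Z := fun _ hg _ hx => h.conj_mem_Z hg hx

theorem nrmNY (h : Sec p F Q Z Y) : Nrm (normalizerIn S Q) Y := fun _ hg _ hx => h.conj_mem_Y hg hx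

/-- `|N_S(Q) : Q| = p`. -/
theorem card_normalizer (hS : IsPGroup p S) (hF : F.IsSaturated p) (h : Sec p F Q Z Y) :
    Nat.card (normalizerIn S Q) = p * Nat.card Q := by
  have hfQ : Finite Q := finite_of_le h.QS
  have hNS : normalizerIn S Q ≤ S := inf_le_left
  have hfN : Finite (normalizerIn S Q) := finite_of_le hNS
  have h1 := card_lt_card_normalizerIn hS h.QS (ne_of_isEssential hS hF h.ess)
  have h2 := card_le_aK (p := p) (hS.to_le hNS) h.nrmNQ h.nrmNZ h.nrmZ h.ZQ h.cardQ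
  have h3 : aK (normalizerIn S Q) Q Z h.nrmNZ ≤ Q := by
    intro g hg
    exact h.mem_of_comm hS (hNS hg.1) hg.2
  have h4 : Nat.card (aK (normalizerIn S Q) Q Z h.nrmNZ) ≤ Nat.card Q :=
    Nat.card_mono (Set.toFinite _) h3
  have h5 : Nat.card (normalizerIn S Q) ≤ p * Nat.card Q := h2.trans (Nat.mul_le_mul le_rfl h4)
  obtain ⟨m, hm⟩ := Subgroup.card_dvd_of_le (le_normalizerIn h.QS)
  obtain ⟨a, ha⟩ := IsPGroup.iff_card.1 (hS.to_le h.QS)
  obtain ⟨b, hb⟩ := IsPGroup.iff_card.1 (hS.to_le hNS)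
  rw [ha, hb] at h1 h5 ⊢
  have hpp := hp.out
  have h6 : a < b := (Nat.pow_lt_pow_iff_right hpp.one_lt).1 h1
  rw [← pow_succ'] at h5 ⊢
  have h7 : b ≤ a + 1 := (Nat.pow_le_pow_iff_right hpp.one_lt).1 h5
  congr 1
  omega

theorem eq_conjHom (h : Sec p F Q Z Y) {g : Ω} (hg : g ∈ normalizerIn S Q) {s : MulAut Q}
    (hs : ∀ x : Q, ((s x : Q) : Ω) = g * x * g⁻¹) :
    s = conjHom (normalizerIn S Q) Q h.nrmNQ ⟨g, hg⟩ := by
  ext x
  exact hs x

/-- `Aut_S(Q) = ⟨s⟩ Inn(Q)`. -/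
theorem exists_zpow_mul (hS : IsPGroup p S) (hF : F.IsSaturated p) (h : Sec p F Q Z Y) {g : Ω}
    (hg : g ∈ normalizerIn S Q) (hgQ : g ∉ Q) {s : MulAut Q} (hs : ∀ x : Q, ((s x : Q) : Ω) = g * x * g⁻¹)
    {δ : MulAut Q} (hδ : δ ∈ autInducedBy S Q) : ∃ j : ℤ, ∃ ι ∈ Inn Q, δ = s ^ j * ι := by
  have hNS : normalizerIn S Q ≤ S := inf_le_left
  have hfN : Finite (normalizerIn S Q) := finite_of_le hNS
  obtain ⟨n, hn, hne⟩ := (mem_autInducedBy_iff S Q δ).1 hδ
  have hnN : n ∈ normalizerIn S Q := ⟨hn, mem_normalizer_of_aut hne⟩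
  obtain ⟨j, hj⟩ := exists_zpow_mod (le_normalizerIn h.QS) h.nrmNQ
    (h.card_normalizer hS hF) hg hgQ hnN
  refine ⟨j, MulAut.conj ⟨_, hj⟩, ⟨_, rfl⟩, ?_⟩
  rw [h.eq_conjHom hg hs, h.eq_conjHom hnN hne, ← map_zpow]
  ext x
  rw [MulAut.mul_apply, coe_conjHom, coe_conjHom]
  show n * x * n⁻¹ = ((⟨g, hg⟩ ^ j : normalizerIn S Q) : Ω) *
    (((g ^ j)⁻¹ * n) * x * ((g ^ j)⁻¹ * n)⁻¹) * ((⟨g, hg⟩ ^ j : normalizerIn S Q) : Ω)⁻¹
  rw [Subgroup.coe_zpow]
  group

theorem conj_mem_of (hS : IsPGroup p S) (hF : F.IsSaturated p) (h : Sec p F Q Z Y) {g : Ω}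
    (hg : g ∈ normalizerIn S Q) (hgQ : g ∉ Q) {s : MulAut Q} (hs : ∀ x : Q, ((s x : Q) : Ω) = g * x * g⁻¹)
    {α : MulAut Q} (hα : α * s * α⁻¹ ∈ autInducedBy S Q) :
    ∀ δ ∈ autInducedBy S Q, α * δ * α⁻¹ ∈ autInducedBy S Q := by
  intro δ hδ
  obtain ⟨j, ι, hι, rfl⟩ := h.exists_zpow_mul hS hF hg hgQ hs hδ
  have e : α * (s ^ j * ι) * α⁻¹ = (α * s * α⁻¹) ^ j * (α * ι * α⁻¹) := by
    rw [conj_zpow]
    group
  rw [e]
  exact Subgroup.mul_mem _ (Subgroup.zpow_mem _ hα j)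
    (inn_le_autInducedBy h.QS ((innNormal Q).conj_mem ι hι α))

/-- **Tori.** -/
theorem exists_torus_aux (hS : IsPGroup p S) (hF : F.IsSaturated p) (h : Sec p F Q Z Y) {g : Ω}
    (hg : g ∈ normalizerIn S Q) (hgQ : g ∉ Q) : ∃ L : Subgroup Ω, Z ≤ L ∧ L ≤ Q ∧
      Nat.card L = p * Nat.card Z ∧ (∀ x ∈ Q, ⁅g, x⁆ ∈ L) ∧ (∀ x ∈ Q, ⁅g, x⁆ ∈ Z ↔ x ∈ L) ∧
      (∀ x : Q, ∃ β ∈ F.autGroup Q, ((β x : Q) : Ω) ∈ L) ∧
      ∀ l l' : ℤ, (p : ℤ) ∣ l * l' - 1 → ∃ t ∈ h.tri,
        (∀ δ ∈ autInducedBy S Q, t * δ * t⁻¹ ∈ autInducedBy S Q) ∧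
        (∀ x : Q, ((x : Ω) ^ l')⁻¹ * (t x : Q) ∈ L) ∧
        (∀ x : Q, (x : Ω) ∈ L → ((x : Ω) ^ l)⁻¹ * (t x : Q) ∈ Z) ∧
        (l = -1 → l' = -1 → ∀ x : Q, (x : Ω) * (t x : Q) ∈ Z) := by
  have hpp := hp.out
  have hfQ : Finite Q := finite_of_le h.QS
  have hfZ : Finite Z := finite_of_le h.ZQ
  have hZ0 : 0 < Nat.card Z := Nat.card_pos
  obtain ⟨s, hs⟩ := exists_conjAut hg.2
  have hn : (Z.subgroupOf Q).Normal := h.nrmZ.normal
  set N := Z.subgroupOf Q with hN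
  have hcN : Nat.card N = Nat.card Z := Nat.card_congr (Subgroup.subgroupOfEquivOfLe h.ZQ).toEquiv
  have hU : Nat.card (Q ⧸ N) = p ^ 2 := by
    have h1 := N.card_mul_index
    rw [hcN, h.cardQ, mul_comm] at h1
    exact Nat.eq_of_mul_eq_mul_right hZ0 h1
  set q := QuotientGroup.mk' N with hq
  have hq1 : ∀ z : Q, q z = 1 ↔ (z : Ω) ∈ Z := fun z => QuotientGroup.eq_one_iff z
  set A := F.autGroup Q with hA
  have hinv : ∀ (g : A), ∀ x ∈ N, A.subtype g x ∈ N := fun g x hx => h.invZ g g.2 x hx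
  set π := quotAct A.subtype N hinv with hπ
  have hπq : ∀ (a : A) (x : Q), π a (q x) = q ((a : MulAut Q) x) := fun a x => rfl
  have hπ1 : ∀ a : A, π a = 1 → ∀ x : Q, ((x⁻¹ * (a : MulAut Q) x : Q) : Ω) ∈ Z := by
    intro a ha
    exact (quotAct_eq_one_iff A.subtype N hinv a).1 ha
  have hsS : s ∈ autInducedBy S Q := conj_mem_autInducedBy hg.1 hs
  have hsA : s ∈ A := autInducedBy_le_autGroup F h.QS hsS
  obtain ⟨k, hk⟩ := isPGroup_autInducedBy hS Q ⟨s, hsS⟩
  have hk' : s ^ p ^ k = 1 := congrArg Subtype.val hk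
  have hstri : s ∈ h.tri := h.mem_tri_of_pow hsA hk'
  -- elements of `tri` acting trivially on the quotient are inner
  have hker : ∀ a : A, (a : MulAut Q) ∈ h.tri → π a = 1 → (a : MulAut Q) ∈ Inn Q :=
    fun a ha ha1 => h.mem_inn_of_chain hS ha (hπ1 a ha1)
  have hσ1 : π ⟨s, hsA⟩ ≠ 1 := by
    intro h1
    exact hgQ (mem_of_conj_mem_inn h.QS h.cent hg.1 hs (hker _ hstri h1))
  have hord : ∀ a : A, (a : MulAut Q) ^ p ^ k = 1 → π a ≠ 1 → orderOf (π a) = p := by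
    intro a ha ha1
    have h1 : IsPGroup p (Subgroup.zpowers (π a)) := by
      rintro ⟨b, hb⟩
      obtain ⟨n, rfl⟩ := Subgroup.mem_zpowers_iff.1 hb
      refine ⟨k, Subtype.ext ?_⟩
      have h2 : a ^ p ^ k = 1 := Subtype.ext ha
      show (π a ^ n) ^ p ^ k = 1
      rw [← zpow_natCast, ← zpow_mul, mul_comm, zpow_mul, zpow_natCast, ← map_pow, h2, map_one,
        one_zpow]
    have h2 := card_le_of_card_sq hU _ h1
    have h3 : Finite (MulAut (Q ⧸ N)) := inferInstance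
    rw [Nat.card_zpowers] at h2
    have h4 : orderOf (π a) ∣ p ^ k := by
      apply orderOf_dvd_of_pow_eq_one
      have h2 : a ^ p ^ k = 1 := Subtype.ext ha
      rw [← map_pow, h2, map_one]
    obtain ⟨j, hj, hje⟩ := (Nat.dvd_prime_pow hpp).1 h4
    have h5 : j ≠ 0 := by
      rintro rfl
      rw [pow_zero] at hje
      exact ha1 (orderOf_eq_one_iff.1 hje)
    have h6 : j ≤ 1 := by
      rw [hje] at h2
      have h7 : p ^ j ≤ p ^ 1 := by rwa [pow_one]
      exact (Nat.pow_le_pow_iff_right hpp.one_lt).1 h7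
    have h7 : j = 1 := by omega
    rw [hje, h7, pow_one]
  have hos := hord ⟨s, hsA⟩ hk' hσ1
  -- a second transvection
  have hconj : ∀ (α : A), π (α * ⟨s, hsA⟩ * α⁻¹) ∈ Subgroup.zpowers (π ⟨s, hsA⟩) →
      (α : MulAut Q) * s * (α : MulAut Q)⁻¹ ∈ autInducedBy S Q := by
    intro α hα
    obtain ⟨j, hj⟩ := Subgroup.mem_zpowers_iff.1 hα
    have h1 : π ((⟨s, hsA⟩ ^ j)⁻¹ * (α * ⟨s, hsA⟩ * α⁻¹)) = 1 := by
      rw [map_mul, map_inv, map_zpow, hj, inv_mul_cancel]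
    have h2 := hker _ (h.tri.mul_mem (h.tri.inv_mem (h.tri.zpow_mem hstri j))
      (h.conj_tri α.2 hstri)) h1
    have h3 := (autInducedBy S Q).mul_mem (Subgroup.zpow_mem _ hsS j)
      (inn_le_autInducedBy h.QS h2)
    have e : s ^ j * ((s ^ j)⁻¹ * ((α : MulAut Q) * s * (α : MulAut Q)⁻¹)) =
      (α : MulAut Q) * s * (α : MulAut Q)⁻¹ := by group
    rwa [← e]
  obtain ⟨α, hα⟩ : ∃ α : A, π (α * ⟨s, hsA⟩ * α⁻¹) ∉ Subgroup.zpowers (π ⟨s, hsA⟩) := by
    by_contra hcon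
    push Not at hcon
    obtain ⟨α, hα, δ, hδ, hαδ⟩ := exists_not_normalize hS hF h.ess
    exact hαδ (h.conj_mem_of hS hF hg hgQ hs (hconj ⟨α, hα⟩ (hcon ⟨α, hα⟩)) δ hδ)
  set s₁ : A := ⟨s, hsA⟩ with hs₁
  set s₂ : A := α * s₁ * α⁻¹ with hs₂
  have hs₂k : (s₂ : MulAut Q) ^ p ^ k = 1 := by
    have : s₂ ^ p ^ k = 1 := by
      rw [hs₂, conj_pow, (Subtype.ext hk' : s₁ ^ p ^ k = 1)]
      group
    exact congrArg Subtype.val this
  have hos₂ : orderOf (π s₂) = p := by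
    refine hord s₂ hs₂k fun h1 => hα ?_
    rw [h1]
    exact Subgroup.one_mem _
  have hs₂tri : (s₂ : MulAut Q) ∈ h.tri := h.mem_tri_of_pow s₂.2 hs₂k
  obtain ⟨D, D', hD, hD', hDD, hmove, hfix, hmv, htor⟩ :=
    Cfsg.Agent.H785.exists_torus hU hos hos₂ hα
  have hmemL : ∀ x : Q, (x : Ω) ∈ (D.comap q).map Q.subtype ↔ q x ∈ D := by
    intro x
    constructor
    · rintro ⟨y, hy, hyx⟩
      have : y = x := Subtype.ext hyx
      rw [← this]
      exact hy
    · intro hx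
      exact ⟨x, hx, rfl⟩
  have hUc : ∀ a b : Q ⧸ N, a * b = b * a := mul_comm_of_card_sq hU
  have hbr : ∀ x : Q, (⟨⁅g, (x : Ω)⁆, by
      rw [commutatorElement_def]
      exact Q.mul_mem (h.conj_mem_Q hg x.2) (Q.inv_mem x.2)⟩ : Q) = s x * x⁻¹ := by
    intro x
    apply Subtype.ext
    rw [Subgroup.coe_mul, hs, Subgroup.coe_inv]
    exact commutatorElement_def _ _
  have hbrq : ∀ x : Q, q (s x * x⁻¹) = (q x)⁻¹ * π s₁ (q x) := by
    intro x
    rw [map_mul, map_inv, hπq, hUc]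
  have hcl : Subgroup.closure {π s₁, π s₂} = (Subgroup.closure {s₁, s₂}).map π := by
    rw [MonoidHom.map_closure, Set.image_pair]
  refine ⟨(D.comap q).map Q.subtype, ?_, ?_, ?_, ?_, ?_, ?_, ?_⟩
  · intro z hz
    refine (hmemL ⟨z, h.ZQ hz⟩).2 ?_
    rw [(hq1 _).2 hz]
    exact D.one_mem
  · rintro _ ⟨y, -, rfl⟩
    exact y.2
  · have h1 : Nat.card ((D.comap q).map Q.subtype) = Nat.card (D.comap q) :=
      Nat.card_congr ((D.comap q).equivMapOfInjective _ Q.subtype_injective).symm.toEquiv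
    rw [h1, hq, card_comap_mk, hD, hcN]
  · intro x hx
    have h1 := (hmemL (s ⟨x, hx⟩ * ⟨x, hx⟩⁻¹)).2 (by
      rw [hbrq]
      exact hmove _)
    rw [← hbr] at h1
    exact h1
  · intro x hx
    have h1 := hmemL ⟨x, hx⟩
    have h2 := hfix (q ⟨x, hx⟩)
    have h3 := hq1 (s ⟨x, hx⟩ * ⟨x, hx⟩⁻¹)
    rw [hbrq, inv_mul_eq_one, ← hbr] at h3
    rw [h1, ← h2, eq_comm (a := π s₁ _), h3]
  · intro x
    obtain ⟨k, hk, hkx⟩ := hmv (q x)
    rw [hcl] at hk
    obtain ⟨κ, -, rfl⟩ := hk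
    exact ⟨κ, κ.2, (hmemL _).2 hkx⟩
  · intro l l' hl
    obtain ⟨t, ht, ht1, ht2, ht3⟩ := htor l l' hl
    rw [hcl] at ht
    obtain ⟨τ, hτ, rfl⟩ := ht
    have hτtri : (τ : MulAut Q) ∈ h.tri := by
      have h1 : Subgroup.closure {s₁, s₂} ≤ h.tri.comap A.subtype := by
        rw [Subgroup.closure_le]
        rintro x (hx | hx)
        · rw [hx]
          exact hstri
        · rw [Set.mem_singleton_iff.1 hx]
          exact hs₂tri
      exact h1 hτ
    refine ⟨τ, hτtri, ?_, ?_, ?_, ?_⟩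
    · refine h.conj_mem_of hS hF hg hgQ hs (hconj τ ?_)
      rw [map_mul, map_mul, map_inv, ht3]
      exact Subgroup.zpow_mem_zpowers _ _
    · intro x
      refine (hmemL ((x ^ l')⁻¹ * (τ : MulAut Q) x)).2 ?_
      obtain ⟨d, hd, d', hd', hx⟩ := hDD (q x)
      have e : ((d * d') ^ l')⁻¹ * (d ^ l * d' ^ l') = (d ^ l')⁻¹ * d ^ l := by
        rw [(show Commute d d' from hUc d d').mul_zpow, mul_inv_rev, hUc (d ^ l) (d' ^ l'),
          hUc (d' ^ l')⁻¹ (d ^ l')⁻¹]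
        group
      rw [map_mul, map_inv, map_zpow, ← hπq, hx, map_mul, ht1 d hd, ht2 d' hd', e]
      exact D.mul_mem (D.inv_mem (D.zpow_mem hd _)) (D.zpow_mem hd _)
    · intro x hx
      have h1 : q ((x ^ l)⁻¹ * (τ : MulAut Q) x) = 1 := by
        rw [map_mul, map_inv, map_zpow, ← hπq, ht1 _ ((hmemL x).1 hx), inv_mul_cancel]
      exact (hq1 _).1 h1
    · intro hl1 hl2 x
      obtain ⟨d, hd, d', hd', hx⟩ := hDD (q x)
      have h1 : q (x * (τ : MulAut Q) x) = 1 := by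
        rw [map_mul, ← hπq, hx, map_mul, ht1 d hd, ht2 d' hd', hl1, hl2, zpow_neg_one, zpow_neg_one,
          ← mul_inv_rev, hUc d' d, mul_inv_cancel]
      exact (hq1 _).1 h1

/-- **Tori.** -/
theorem exists_torus (hS : IsPGroup p S) (hF : F.IsSaturated p) (h : Sec p F Q Z Y) {g : Ω}
    (hg : g ∈ normalizerIn S Q) (hgQ : g ∉ Q) : ∃ L : Subgroup Ω, Z ≤ L ∧ L ≤ Q ∧
      Nat.card L = p * Nat.card Z ∧ (∀ x ∈ Q, ⁅g, x⁆ ∈ L) ∧ (∀ x ∈ Q, ⁅g, x⁆ ∈ Z ↔ x ∈ L) ∧
      ∀ l l' : ℤ, (p : ℤ) ∣ l * l' - 1 → ∃ t ∈ h.tri,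
        (∀ δ ∈ autInducedBy S Q, t * δ * t⁻¹ ∈ autInducedBy S Q) ∧
        (∀ x : Q, ((x : Ω) ^ l')⁻¹ * (t x : Q) ∈ L) ∧
        (∀ x : Q, (x : Ω) ∈ L → ((x : Ω) ^ l)⁻¹ * (t x : Q) ∈ Z) ∧
        (l = -1 → l' = -1 → ∀ x : Q, (x : Ω) * (t x : Q) ∈ Z) := by
  obtain ⟨L, h1, h2, h3, h4, h5, -, h6⟩ := h.exists_torus_aux hS hF hg hgQ
  exact ⟨L, h1, h2, h3, h4, h5, h6⟩

end Sec

end Cfsg.Agent.H785
end

-- part: H785/FifthN
section
/-!
# Extending automorphisms of non-essential subgroups; the focal subgroup (helper785)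
-/

set_option autoImplicit false
set_option linter.unusedSectionVars false
set_option linter.unusedVariables false
set_option linter.style.haveILetI false

namespace Cfsg.Agent.H785

open Cfsg Cfsg.FusionSystem Cfsg.Agent.H802
open scoped commutatorElement

/-- Sylow's theorem inside `D`. -/
theorem conj_into {G : Type*} [Group G] [Finite G] {p : ℕ} [Fact p.Prime] {T D : Subgroup G}
    (hTD : T ≤ D) (hT : IsPGroup p T)
    (hmax : ∀ B : Subgroup G, B ≤ D → IsPGroup p B → Nat.card B ≤ Nat.card T) {B : Subgroup G}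
    (hB : B ≤ D) (hBp : IsPGroup p B) : ∃ h ∈ D, ∀ b ∈ B, h * b * h⁻¹ ∈ T := by
  have h1 : IsPGroup p (T.subgroupOf D) := hT.comap_of_injective _ D.subtype_injective
  have h2 : IsPGroup p (B.subgroupOf D) := hBp.comap_of_injective _ D.subtype_injective
  obtain ⟨P, hP⟩ := h1.exists_le_sylow
  obtain ⟨P', hP'⟩ := h2.exists_le_sylow
  have h3 : (P : Subgroup D) = T.subgroupOf D := by
    refine (Subgroup.eq_of_le_of_card_ge hP ?_).symm
    have h4 := hmax ((P : Subgroup D).map D.subtype) (by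
      rintro _ ⟨x, -, rfl⟩
      exact x.2) (P.isPGroup'.map _)
    rw [Nat.card_congr ((P : Subgroup D).equivMapOfInjective _ D.subtype_injective).symm.toEquiv] at h4
    rwa [Nat.card_congr (Subgroup.subgroupOfEquivOfLe hTD).toEquiv]
  obtain ⟨g, hg⟩ := MulAction.exists_smul_eq D P' P
  refine ⟨g, g.2, fun b hb => ?_⟩
  have h4 : (⟨b, hB hb⟩ : D) ∈ (P' : Subgroup D) := hP' hb
  have h5 : g * ⟨b, hB hb⟩ * g⁻¹ ∈ (P : Subgroup D) := by
    rw [← hg, Sylow.coe_subgroup_smul]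
    exact ⟨_, h4, rfl⟩
  rw [h3] at h5
  exact h5

variable {Ω : Type*} [Group Ω] {S : Subgroup Ω} {p : ℕ} [hp : Fact p.Prime] [Finite S]
  {F : FusionSystem S}

theorem nrm_normalizerIn (S Q : Subgroup Ω) : Nrm (normalizerIn S Q) Q :=
  fun _ hg x hx => (Subgroup.mem_normalizer_iff.1 hg.2 x).1 hx

/-- `Aut_S(Q) = ⟨s⟩ Inn(Q)` when `|N_S(Q) : Q| = p`. -/
theorem exists_zpow_mul_of_card {Q : Subgroup Ω} (hQS : Q ≤ S)
    (hc : Nat.card (normalizerIn S Q) = p * Nat.card Q) {g : Ω}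
    (hg : g ∈ normalizerIn S Q) (hgQ : g ∉ Q) {s : MulAut Q} (hs : ∀ x : Q, ((s x : Q) : Ω) = g * x * g⁻¹)
    {δ : MulAut Q} (hδ : δ ∈ autInducedBy S Q) : ∃ j : ℤ, ∃ ι ∈ Inn Q, δ = s ^ j * ι := by
  have hNS : normalizerIn S Q ≤ S := inf_le_left
  have hfN : Finite (normalizerIn S Q) := finite_of_le hNS
  obtain ⟨n, hn, hne⟩ := (mem_autInducedBy_iff S Q δ).1 hδ
  have hnN : n ∈ normalizerIn S Q := ⟨hn, mem_normalizer_of_aut hne⟩
  obtain ⟨j, hj⟩ := exists_zpow_mod (le_normalizerIn hQS) (nrm_normalizerIn S Q) hc hg hgQ hnN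
  refine ⟨j, MulAut.conj ⟨_, hj⟩, ⟨_, rfl⟩, ?_⟩
  have h1 : s = conjHom (normalizerIn S Q) Q (nrm_normalizerIn S Q) ⟨g, hg⟩ := by
    ext x
    exact hs x
  have h2 : δ = conjHom (normalizerIn S Q) Q (nrm_normalizerIn S Q) ⟨n, hnN⟩ := by
    ext x
    exact hne x
  rw [h1, h2, ← map_zpow]
  ext x
  rw [MulAut.mul_apply, coe_conjHom, coe_conjHom]
  show n * x * n⁻¹ = ((⟨g, hg⟩ ^ j : normalizerIn S Q) : Ω) *
    (((g ^ j)⁻¹ * n) * x * ((g ^ j)⁻¹ * n)⁻¹) * ((⟨g, hg⟩ ^ j : normalizerIn S Q) : Ω)⁻¹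
  rw [Subgroup.coe_zpow]
  group

theorem conj_mem_of_card {Q : Subgroup Ω} (hQS : Q ≤ S)
    (hc : Nat.card (normalizerIn S Q) = p * Nat.card Q) {g : Ω}
    (hg : g ∈ normalizerIn S Q) (hgQ : g ∉ Q) {s : MulAut Q} (hs : ∀ x : Q, ((s x : Q) : Ω) = g * x * g⁻¹)
    {α : MulAut Q} (hα : α * s * α⁻¹ ∈ autInducedBy S Q) :
    ∀ δ ∈ autInducedBy S Q, α * δ * α⁻¹ ∈ autInducedBy S Q := by
  intro δ hδ
  obtain ⟨j, ι, hι, rfl⟩ := exists_zpow_mul_of_card hQS hc hg hgQ hs hδ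
  have e : α * (s ^ j * ι) * α⁻¹ = (α * s * α⁻¹) ^ j * (α * ι * α⁻¹) := by
    rw [conj_zpow]
    group
  rw [e]
  exact Subgroup.mul_mem _ (Subgroup.zpow_mem _ hα j)
    (inn_le_autInducedBy hQS ((innNormal Q).conj_mem ι hι α))

/-- If `α` extends to `ψ : R → S`, then `α c_g α⁻¹ = c_{ψ(g)}` for `g ∈ N_R(Q)`. -/
theorem conj_mem_of_ext {Q R : Subgroup Ω} (hQR : Q ≤ R) {α : MulAut Q} {ψ : R →* Ω}
    (hψ : ψ ∈ F.Hom R) (he : ∀ x : Q, ψ ⟨x, hQR x.2⟩ = (α x : Q)) {g : Ω} (hg : g ∈ R)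
    {β : MulAut Q} (hβ : ∀ x : Q, ((β x : Q) : Ω) = g * x * g⁻¹) :
    α * β * α⁻¹ ∈ autInducedBy S Q := by
  refine conj_mem_autInducedBy (hom_apply_mem hψ ⟨g, hg⟩) fun x => ?_
  rw [MulAut.mul_apply, MulAut.mul_apply]
  have h1 : ((α (β (α⁻¹ x)) : Q) : Ω) = ψ ⟨_, hQR (β (α⁻¹ x)).2⟩ := (he _).symm
  have h2 : (⟨_, hQR (β (α⁻¹ x)).2⟩ : R) = ⟨g, hg⟩ * ⟨_, hQR (α⁻¹ x).2⟩ * ⟨g, hg⟩⁻¹ :=
    Subtype.ext (hβ _)
  have h3 : ψ ⟨_, hQR (α⁻¹ x).2⟩ = x := by
    rw [he]
    have : α (α⁻¹ x) = x := α.apply_symm_apply x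
    rw [this]
  rw [h1, h2, map_mul, map_mul, map_inv, h3]

/-- **Extension step.** If `X` is fully normalized and centric, not essential, `|N_S(X) : X| = p`, then every element
of `Aut_F(X)` extends to an element of `Aut_F(N_S(X))`. -/
theorem ext_step (hS : IsPGroup p S) (hF : F.IsSaturated p) {X : Subgroup Ω}
    (hXn : F.IsFullyNormalized X) (hXc : F.IsCentric X) (hne : ¬ F.IsEssential p X)
    (hc : Nat.card (normalizerIn S X) = p * Nat.card X) {α : MulAut X} (hα : α ∈ F.autGroup X) :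
    ∃ β ∈ F.autGroup (normalizerIn S X), ∀ (x : Ω) (hx : x ∈ X) (hx' : x ∈ normalizerIn S X),
      ((β ⟨x, hx'⟩ : normalizerIn S X) : Ω) = (α ⟨x, hx⟩ : X) := by
  have hXS := hXn.1
  have hfX : Finite X := finite_of_le hXS
  have hneS : X ≠ S := by
    rintro rfl
    have h1 : normalizerIn X X ≤ X := inf_le_left
    have h2 : Nat.card (normalizerIn X X) ≤ Nat.card X := Nat.card_mono (Set.toFinite _) h1
    rw [hc] at h2
    have h3 : 0 < Nat.card X := Nat.card_pos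
    nlinarith [hp.out.one_lt]
  have hr := isReceptive_of_isFullyNormalized hS hF hXn
  let D : Subgroup (MulAut X) :=
    { carrier := {α | (∀ δ ∈ autInducedBy S X, α * δ * α⁻¹ ∈ autInducedBy S X) ∧
        ∀ δ ∈ autInducedBy S X, α⁻¹ * δ * α ∈ autInducedBy S X}
      one_mem' := ⟨fun δ hδ => by simpa using hδ, fun δ hδ => by simpa using hδ⟩
      mul_mem' := by
        rintro a b ⟨ha, ha'⟩ ⟨hb, hb'⟩
        refine ⟨fun δ hδ => ?_, fun δ hδ => ?_⟩
        · have := ha _ (hb δ hδ)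
          have e : a * (b * δ * b⁻¹) * a⁻¹ = a * b * δ * (a * b)⁻¹ := by group
          rwa [e] at this
        · have := hb' _ (ha' δ hδ)
          have e : b⁻¹ * (a⁻¹ * δ * a) * b = (a * b)⁻¹ * δ * (a * b) := by group
          rwa [e] at this
      inv_mem' := by
        rintro a ⟨ha, ha'⟩
        refine ⟨fun δ hδ => ?_, fun δ hδ => ?_⟩
        · rw [inv_inv]
          exact ha' δ hδ
        · rw [inv_inv]
          exact ha δ hδ }
  have hD : ∀ α ∈ F.autGroup X, Extends F X α → α ∈ D := by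
    rintro α hα ⟨R, hXR, hcard, ψ, hψ, he⟩
    have hRS := hom_le hψ
    have hneR : X ≠ R := by
      rintro rfl
      exact lt_irrefl _ hcard
    obtain ⟨g, hg, hgX⟩ := SetLike.exists_of_lt (lt_inf_normalizer hS hXR hRS hneR)
    obtain ⟨β, hβ⟩ := exists_conjAut hg.2
    have hgN : g ∈ normalizerIn S X := ⟨hRS hg.1, hg.2⟩
    have h1 := conj_mem_of_ext hXR hψ he hg.1 hβ
    have h2 := conj_mem_of_card hXS hc hgN hgX hβ h1
    refine ⟨h2, fun δ hδ => ?_⟩
    -- conjugation by `α` is a bijection of the finite set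
    have hfin : Finite (autInducedBy S X) := inferInstance
    have hinj : Function.Injective (fun δ : autInducedBy S X =>
        (⟨α * δ * α⁻¹, h2 δ δ.2⟩ : autInducedBy S X)) := by
      intro a b hab
      have h3 : α * (a : MulAut X) * α⁻¹ = α * b * α⁻¹ := congrArg Subtype.val hab
      exact Subtype.ext (mul_left_cancel (mul_right_cancel h3))
    obtain ⟨ε, hε⟩ := Finite.surjective_of_injective hinj ⟨δ, hδ⟩
    have h3 : α * (ε : MulAut X) * α⁻¹ = δ := congrArg Subtype.val hε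
    rw [← h3]
    have e : α⁻¹ * (α * (ε : MulAut X) * α⁻¹) * α = ε := by group
    rw [e]
    exact ε.2
  have hle : F.autGroup X ≤ D := by
    by_contra hnot
    exact hne (isEssential_of_not_le hS hF hXn hXc hneS D hD hnot)
  exact exists_aut_normalizerIn hr hα (hle hα).1

/-- Frattini argument for a normal subgroup of `Aut_F(Q)` containing `Aut_S(Q)`. -/
theorem frattini_tri (hS : IsPGroup p S) (hF : F.IsSaturated p) {Q : Subgroup Ω}
    (hQn : F.IsFullyNormalized Q) {K : Subgroup (MulAut Q)} (hKA : K ≤ F.autGroup Q)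
    (hK : ∀ a ∈ F.autGroup Q, ∀ k ∈ K, a * k * a⁻¹ ∈ K) (hSK : autInducedBy S Q ≤ K)
    {α : MulAut Q} (hα : α ∈ F.autGroup Q) :
    ∃ k ∈ K, ∀ δ ∈ autInducedBy S Q, (k * α) * δ * (k * α)⁻¹ ∈ autInducedBy S Q := by
  have hQS := hQn.1
  have hfQ : Finite Q := finite_of_le hQS
  have hfa := isFullyAutomized_of_isFullyNormalized hS hF hQn
  have hTp : IsPGroup p (autInducedBy S Q) := isPGroup_autInducedBy hS Q
  obtain ⟨n, hn⟩ := IsPGroup.iff_card.1 hTp
  obtain ⟨k, hk, hke⟩ := conj_into hSK hTp (fun B hB hBp => by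
    rw [hn]
    exact card_le_of_pgroup hS hfa hn B (hB.trans hKA) hBp)
    (B := (autInducedBy S Q).map (MulAut.conj α).toMonoidHom) (by
      rintro _ ⟨δ, hδ, rfl⟩
      exact hK α hα δ (hSK hδ)) (hTp.map _)
  refine ⟨k, hk, fun δ hδ => ?_⟩
  have h1 := hke _ ⟨δ, hδ, rfl⟩
  have e : k * (MulAut.conj α).toMonoidHom δ * k⁻¹ = (k * α) * δ * (k * α)⁻¹ := by
    show k * (α * δ * α⁻¹) * k⁻¹ = _
    group
  rwa [e] at h1

end Cfsg.Agent.H785
end

-- part: H785/FifthF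
section
/-!
# `[Q, Aut_F(Q)] ≤ [S, Aut_F(S)] [S,S]` for `p` odd (helper785)
-/

set_option autoImplicit false
set_option linter.unusedSectionVars false
set_option linter.unusedVariables false
set_option linter.style.haveILetI false

namespace Cfsg.Agent.H785

open Cfsg Cfsg.FusionSystem Cfsg.Agent.H802
open scoped commutatorElement

variable {Ω : Type*} [Group Ω] {S : Subgroup Ω} {p : ℕ} [hp : Fact p.Prime] [Finite S]
  {F : FusionSystem S}

/-- The elements of `Aut_F(Q)` normalizing `Aut_S(Q)` extend to `Aut_F(S)`. -/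
def ExtTop (F : FusionSystem S) (Q : Subgroup Ω) : Prop :=
  ∀ γ ∈ F.autGroup Q, (∀ δ ∈ autInducedBy S Q, γ * δ * γ⁻¹ ∈ autInducedBy S Q) →
    ∃ α ∈ F.autGroup S, ∀ (x : Ω) (hx : x ∈ Q) (hx' : x ∈ S),
      ((α ⟨x, hx'⟩ : S) : Ω) = (γ ⟨x, hx⟩ : Q)

theorem nrm_of_commutator_le {R : Subgroup Ω} (hRS : R ≤ S) (hR : ⁅S, S⁆ ≤ R) : Nrm S R := by
  intro g hg r hr
  have e : g * r * g⁻¹ = ⁅g, r⁆ * r := by rw [commutatorElement_def]; group
  rw [e]
  exact R.mul_mem (hR (Subgroup.commutator_mem_commutator hg (hRS hr))) hr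

theorem Sec.exists_gen (hS : IsPGroup p S) (hF : F.IsSaturated p) {Q Z Y : Subgroup Ω}
    (h : Sec p F Q Z Y) : ∃ g ∈ normalizerIn S Q, g ∉ Q := by
  by_contra hcon
  push Not at hcon
  have h1 := card_lt_card_normalizerIn hS h.QS (ne_of_isEssential hS hF h.ess)
  have h2 : normalizerIn S Q = Q := le_antisymm hcon (le_normalizerIn h.QS)
  rw [h2] at h1
  exact lt_irrefl _ h1

/-- If `R` contains `[S,S]`, `[S, Aut_F(S)]` and `Y`, then it contains `[Q, Aut_F(Q)]`. -/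
theorem Sec.foc (hS : IsPGroup p S) (hF : F.IsSaturated p) (hp2 : p ≠ 2) {Q Z Y : Subgroup Ω}
    (h : Sec p F Q Z Y) {R : Subgroup Ω} (hRS : R ≤ S) (hR : ⁅S, S⁆ ≤ R)
    (hβ : ∀ β ∈ F.autGroup S, ∀ x : S, (x : Ω)⁻¹ * (β x : S) ∈ R) (hY : Y ≤ R)
    (hext : ExtTop F Q) : ∀ α ∈ F.autGroup Q, ∀ x : Q, (x : Ω)⁻¹ * (α x : Q) ∈ R := by
  have hpp := hp.out
  have hQS := h.QS
  have hfQ : Finite Q := finite_of_le hQS
  have hRn : Nrm S R := nrm_of_commutator_le hRS hR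
  obtain ⟨g, hg, hgQ⟩ := h.exists_gen hS hF
  obtain ⟨L, -, -, -, -, -, htor⟩ := h.exists_torus hS hF hg hgQ
  obtain ⟨t, ht, htn, -, -, htZ⟩ := htor (-1) (-1) (by simp)
  replace htZ := htZ rfl rfl
  obtain ⟨τ, hτ, hτe⟩ := hext t (h.tri_le ht) htn
  have htR : ∀ x : Q, (x : Ω)⁻¹ * (t x : Q) ∈ R := by
    intro x
    have h1 := hβ τ hτ ⟨x, hQS x.2⟩
    rwa [hτe x x.2 (hQS x.2)] at h1
  -- step 1: elements of `tri`
  have key : ∀ k ∈ h.tri, ∀ x : Q, (x : Ω)⁻¹ * (k x : Q) ∈ R := by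
    intro k hk
    -- k t k⁻¹ = c_q t
    have hcom : k * t * k⁻¹ * t⁻¹ ∈ Inn Q := by
      refine h.mem_inn_of_chain hS (h.tri.mul_mem (h.tri.mul_mem (h.tri.mul_mem hk ht)
        (h.tri.inv_mem hk)) (h.tri.inv_mem ht)) fun x => ?_
      set y := t⁻¹ x with hy
      have hxy : x = t y := by rw [hy, MulAut.apply_inv_self]
      have h1 : (k * t * k⁻¹ * t⁻¹) x = k (t (k⁻¹ y)) := by
        rw [MulAut.mul_apply, MulAut.mul_apply, MulAut.mul_apply, ← hy]
      rw [h1]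
      -- y * t y ∈ Z and y * k (t (k⁻¹ y)) ∈ Z
      have h2 : ((y * t y : Q) : Ω) ∈ Z := htZ y
      have h3 : ((y * k (t (k⁻¹ y)) : Q) : Ω) ∈ Z := by
        have h6 : k (k⁻¹ y * t (k⁻¹ y)) = y * k (t (k⁻¹ y)) := by
          rw [map_mul, MulAut.apply_inv_self]
        rw [← h6]
        exact h.invZ k (h.tri_le hk) (k⁻¹ y * t (k⁻¹ y)) (htZ (k⁻¹ y))
      have e : x⁻¹ * k (t (k⁻¹ y)) = (y * t y)⁻¹ * (y * k (t (k⁻¹ y))) := by
        rw [hxy]
        group
      rw [e]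
      exact Z.mul_mem (Z.inv_mem h2) h3
    obtain ⟨q, hq⟩ := hcom
    have hkt : ∀ y : Q, k (t (k⁻¹ y)) = q * t y * q⁻¹ := by
      intro y
      have h1 := congrArg (fun f : MulAut Q => f (t y)) hq
      have h2 : q * t y * q⁻¹ = (k * t * k⁻¹ * t⁻¹) (t y) := h1
      rw [h2, MulAut.mul_apply, MulAut.mul_apply, MulAut.mul_apply, MulAut.inv_apply_self]
    -- the kernel of `x ↦ x⁻¹ k(x)` modulo `R`
    let W : Subgroup Q :=
      { carrier := {x | (x : Ω)⁻¹ * (k x : Q) ∈ R}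
        one_mem' := by simp
        mul_mem' := by
          intro x y hx hy
          have e : (((x * y : Q) : Ω))⁻¹ * (k (x * y) : Q) =
              ((y : Ω)⁻¹ * ((x : Ω)⁻¹ * (k x : Q)) * ((y : Ω)⁻¹)⁻¹) * ((y : Ω)⁻¹ * (k y : Q)) := by
            rw [map_mul, Subgroup.coe_mul, Subgroup.coe_mul]
            group
          show (((x * y : Q) : Ω))⁻¹ * (k (x * y) : Q) ∈ R
          rw [e]
          exact R.mul_mem (hRn _ (S.inv_mem (hQS y.2)) _ hx) hy
        inv_mem' := by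
          intro x hx
          have e : (((x⁻¹ : Q) : Ω))⁻¹ * (k x⁻¹ : Q) =
              (x : Ω) * ((x : Ω)⁻¹ * (k x : Q))⁻¹ * (x : Ω)⁻¹ := by
            rw [map_inv, Subgroup.coe_inv, Subgroup.coe_inv]
            group
          show (((x⁻¹ : Q) : Ω))⁻¹ * (k x⁻¹ : Q) ∈ R
          rw [e]
          exact hRn _ (hQS x.2) _ (R.inv_mem hx) }
    have hW : ∀ x : Q, x ∈ W ↔ (x : Ω)⁻¹ * (k x : Q) ∈ R := fun x => Iff.rfl
    have hZW : ∀ z : Q, (z : Ω) ∈ Z → z ∈ W := by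
      intro z hz
      rw [hW]
      exact hY (hk.2.1 z hz)
    have htW : ∀ x : Q, t x * x⁻¹ ∈ W := by
      intro x
      rw [hW]
      have h1 : ((t x * x⁻¹ : Q) : Ω) ∈ R := by
        have h2 := hRn _ (hQS x.2) _ (htR x)
        have e : (x : Ω) * ((x : Ω)⁻¹ * (t x : Q)) * (x : Ω)⁻¹ = ((t x * x⁻¹ : Q) : Ω) := by
          rw [Subgroup.coe_mul, Subgroup.coe_inv]
          group
        rwa [e] at h2
      have h3 : ((k (t x * x⁻¹) : Q) : Ω) ∈ R := by
        set y := k x with hy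
        have hxy : x = k⁻¹ y := by rw [hy, MulAut.inv_apply_self]
        have h4 : k (t x * x⁻¹) = q * t y * q⁻¹ * y⁻¹ := by
          rw [map_mul, map_inv, ← hy, ← hkt, ← hxy]
        rw [h4]
        have e : ((q * t y * q⁻¹ * y⁻¹ : Q) : Ω) =
            ⁅(q : Ω), ((t y : Q) : Ω)⁆ * ((y : Ω) * ((y : Ω)⁻¹ * (t y : Q)) * (y : Ω)⁻¹) := by
          simp only [Subgroup.coe_mul, Subgroup.coe_inv, commutatorElement_def]
          group
        rw [e]
        exact R.mul_mem (hR (Subgroup.commutator_mem_commutator (hQS q.2) (hQS (t y).2)))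
          (hRn _ (hQS y.2) _ (htR y))
      exact R.mul_mem (R.inv_mem h1) h3
    have hsq : ∀ x : Q, x ^ 2 ∈ W := by
      intro x
      -- t x x⁻¹ = x⁻¹ (x t x) x⁻¹
      have h1 := htW x
      have h2 : (((x * (x * t x) * x⁻¹ : Q)) : Ω) ∈ Z := by
        have := h.nrmZ x x.2 _ (htZ x)
        rw [Subgroup.coe_mul, Subgroup.coe_mul, Subgroup.coe_mul, Subgroup.coe_inv]
        exact this
      have h3 := hZW _ h2
      have e : x ^ 2 = (x * (x * t x) * x⁻¹) * (t x * x⁻¹)⁻¹ := by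
        rw [sq]
        group
      rw [e]
      exact W.mul_mem h3 (W.inv_mem h1)
    have hWtop : ∀ x : Q, x ∈ W := by
      intro x
      obtain ⟨n, hn⟩ := hS.to_le hQS x
      have hodd : Odd (p ^ n) := (hpp.odd_of_ne_two hp2).pow
      obtain ⟨m, hm⟩ := hodd
      have e : x = (x ^ 2) ^ (m + 1) := by
        rw [← pow_mul]
        have : 2 * (m + 1) = p ^ n + 1 := by omega
        rw [this, pow_succ, hn, one_mul]
      rw [e]
      exact W.pow_mem (hsq x) _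
    exact fun x => (hW x).1 (hWtop x)
  -- step 2: Frattini
  intro α hα x
  have hSK : autInducedBy S Q ≤ h.tri := by
    intro δ hδ
    obtain ⟨n, hn⟩ := isPGroup_autInducedBy hS Q ⟨δ, hδ⟩
    exact h.mem_tri_of_pow (autInducedBy_le_autGroup F hQS hδ) (congrArg Subtype.val hn)
  obtain ⟨k, hk, hkn⟩ := frattini_tri hS hF h.ess.2.1 h.tri_le (fun a ha k hk => h.conj_tri ha hk)
    hSK hα
  obtain ⟨β, hβ1, hβe⟩ := hext (k * α) (mul_mem (h.tri_le hk) hα) hkn
  have h1 := hβ β hβ1 ⟨x, hQS x.2⟩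
  rw [hβe x x.2 (hQS x.2)] at h1
  have h2 := key k⁻¹ (h.tri.inv_mem hk) ((k * α) x)
  have h3 : k⁻¹ ((k * α) x) = α x := by rw [MulAut.mul_apply, MulAut.inv_apply_self]
  rw [h3] at h2
  have h4 := R.mul_mem h1 h2
  have e : (x : Ω)⁻¹ * (((k * α) x : Q) : Ω) * ((((k * α) x : Q) : Ω)⁻¹ * ((α x : Q) : Ω)) =
      (x : Ω)⁻¹ * ((α x : Q) : Ω) := by group
  have h5 : ((k * α) ⟨(x : Ω), x.2⟩ : Q) = (k * α) x := rfl
  rw [h5] at h4
  rwa [e] at h4

end Cfsg.Agent.H785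
end

-- part: H785/FifthQ
section
/-!
# Subgroups of order `p⁴` (helper785)
-/

set_option autoImplicit false
set_option linter.unusedSectionVars false
set_option linter.unusedVariables false
set_option linter.style.haveILetI false

namespace Cfsg.Agent.H785

open Cfsg Cfsg.FusionSystem Cfsg.Agent.H802
open scoped commutatorElement

variable {Ω : Type*} [Group Ω] {p : ℕ} [hp : Fact p.Prime]

/-- The centralizer of `x` in `A`. -/
def cz (A : Subgroup Ω) (x : Ω) : Subgroup Ω := A ⊓ Subgroup.centralizer {x}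

theorem mem_cz {A : Subgroup Ω} {x c : Ω} : c ∈ cz A x ↔ c ∈ A ∧ c * x = x * c := by
  rw [cz, Subgroup.mem_inf, Subgroup.mem_centralizer_singleton_iff]

theorem cz_le {A : Subgroup Ω} {x : Ω} : cz A x ≤ A := inf_le_left

/-- Counting commutators with `x`. -/
theorem card_le_comm {A B : Subgroup Ω} [Finite A] [Finite B] {x : Ω} (h : ∀ a ∈ A, ⁅x, a⁆ ∈ B) :
    Nat.card A ≤ Nat.card B * Nat.card (cz A x) := by
  have h2 : Nat.card ((cz A x).subgroupOf A) = Nat.card (cz A x) :=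
    Nat.card_congr (Subgroup.subgroupOfEquivOfLe cz_le).toEquiv
  have hKm : ∀ a : A, a ∈ (cz A x).subgroupOf A ↔ (a : Ω) ∈ cz A x := fun a => Iff.rfl
  generalize (cz A x).subgroupOf A = K at h2 hKm
  have h1 := K.card_mul_index
  have h3 : K.index ≤ Nat.card B := by
    refine Nat.card_le_card_of_injective (fun q : A ⧸ K => (⟨⁅x, (q.out : Ω)⁆, h _ q.out.2⟩ : B)) ?_
    intro q q' hqq
    have h4 : ⁅x, (q.out : Ω)⁆ = ⁅x, (q'.out : Ω)⁆ := congrArg Subtype.val hqq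
    rw [← QuotientGroup.out_eq' q, ← QuotientGroup.out_eq' q', QuotientGroup.eq, hKm, mem_cz]
    refine ⟨(q.out⁻¹ * q'.out).2, ?_⟩
    rw [commutatorElement_def, commutatorElement_def] at h4
    show ((q.out : Ω))⁻¹ * q'.out * x = x * (((q.out : Ω))⁻¹ * q'.out)
    set a := (q.out : Ω)
    set b := (q'.out : Ω)
    have h5 : a * x⁻¹ * a⁻¹ = b * x⁻¹ * b⁻¹ := by
      have : x⁻¹ * (x * a * x⁻¹ * a⁻¹) = x⁻¹ * (x * b * x⁻¹ * b⁻¹) := by rw [h4]
      simpa [mul_assoc] using this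
    have h6 : a * x * a⁻¹ = b * x * b⁻¹ := by
      have := congrArg (fun z => z⁻¹) h5
      simpa [mul_assoc] using this
    calc a⁻¹ * b * x = a⁻¹ * (b * x * b⁻¹) * b := by group
      _ = a⁻¹ * (a * x * a⁻¹) * b := by rw [h6]
      _ = x * (a⁻¹ * b) := by group
  rw [← h1, h2, mul_comm]
  exact Nat.mul_le_mul h3 le_rfl

/-- `X/Y` of order `p²` is abelian. -/
theorem comm_mem_of_card_sq {X Y : Subgroup Ω} [Finite X] (hn : Nrm X Y) (hYX : Y ≤ X)
    (hc : Nat.card X = p ^ 2 * Nat.card Y) {x y : Ω} (hx : x ∈ X) (hy : y ∈ X) : ⁅x, y⁆ ∈ Y := by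
  have hfY : Finite Y := Finite.of_injective _ (Subgroup.inclusion_injective hYX)
  have hnn : (Y.subgroupOf X).Normal := hn.normal
  have hU : Nat.card (X ⧸ Y.subgroupOf X) = p ^ 2 := by
    have h1 := (Y.subgroupOf X).card_mul_index
    rw [Nat.card_congr (Subgroup.subgroupOfEquivOfLe hYX).toEquiv, hc, mul_comm] at h1
    exact Nat.eq_of_mul_eq_mul_right Nat.card_pos h1
  have h1 := mul_comm_of_card_sq hU (QuotientGroup.mk' _ ⟨x, hx⟩) (QuotientGroup.mk' _ ⟨y, hy⟩)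
  have h2 : QuotientGroup.mk' (Y.subgroupOf X) ⁅(⟨x, hx⟩ : X), (⟨y, hy⟩ : X)⁆ = 1 := by
    rw [map_commutatorElement, commutatorElement_eq_one_iff_mul_comm]
    exact h1
  have h3 : (⁅(⟨x, hx⟩ : X), (⟨y, hy⟩ : X)⁆ : X) ∈ Y.subgroupOf X := (QuotientGroup.eq_one_iff _).1 h2
  exact h3

/-- A central subgroup of index `p`. -/
theorem mul_comm_of_central {X W : Subgroup Ω} [Finite X] (hWX : W ≤ X)
    (hc : Nat.card X = p * Nat.card W) (hcen : ∀ w ∈ W, ∀ x ∈ X, x * w = w * x) {x y : Ω}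
    (hx : x ∈ X) (hy : y ∈ X) : x * y = y * x := by
  by_cases hxW : x ∈ W
  · exact (hcen x hxW y hy).symm
  · have hn : Nrm X W := by
      intro g hg w hw
      rw [hcen w hw g hg, mul_inv_cancel_right]
      exact hw
    obtain ⟨j, hj⟩ := exists_zpow_mod hWX hn hc hx hxW hy
    have h1 := hcen _ hj x hx
    have e : y = x ^ j * ((x ^ j)⁻¹ * y) := by group
    have h2 : Commute x (x ^ j * ((x ^ j)⁻¹ * y)) :=
      ((Commute.refl x).zpow_right j).mul_right h1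
    rw [← e] at h2
    exact h2

theorem pow_mem_of_card {X Y : Subgroup Ω} [Finite X] (hn : Nrm X Y) (hYX : Y ≤ X)
    (hc : Nat.card X = p * Nat.card Y) {x : Ω} (hx : x ∈ X) : x ^ p ∈ Y := by
  have hnn : (Y.subgroupOf X).Normal := hn.normal
  have h1 : (QuotientGroup.mk' (Y.subgroupOf X) ⟨x, hx⟩) ^ p = 1 := by
    rw [← card_quot hYX hc]
    exact pow_card_eq_one'
  rw [← map_pow] at h1
  have h2 : (⟨x, hx⟩ ^ p : X) ∈ Y.subgroupOf X := (QuotientGroup.eq_one_iff _).1 h1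
  exact h2

theorem centralizerIn_eq_aK (P X : Subgroup Ω) : centralizerIn P X = aK P X ⊥ (nrm_bot P) := by
  ext g
  rw [mem_centralizerIn, mem_aK]
  refine and_congr_right fun _ => forall₂_congr fun x _ => ?_
  rw [Subgroup.mem_bot, commutatorElement_eq_one_iff_mul_comm, eq_comm]

theorem card_le_centralizerIn {P X : Subgroup Ω} [Finite P] [Finite X] (hP : IsPGroup p P)
    (hX : Nrm P X) (hc : Nat.card X = p ^ 2) :
    Nat.card P ≤ p * Nat.card (centralizerIn P X) := by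
  rw [centralizerIn_eq_aK]
  exact card_le_aK hP hX (nrm_bot P) (nrm_bot X) bot_le (by rw [hc, Subgroup.card_bot, mul_one])

theorem centralizerIn_le {P X : Subgroup Ω} : centralizerIn P X ≤ P := inf_le_left

/-- Subgroup orders in a `p`-group. -/
theorem card_between {X Y : Subgroup Ω} [Finite X] {n m : ℕ} (hX : Nat.card X = p ^ n) (hYX : Y ≤ X)
    (h1 : p ^ m ≤ Nat.card Y) (h2 : Nat.card Y < p ^ (m + 1)) : Nat.card Y = p ^ m := by
  have h3 := Subgroup.card_dvd_of_le hYX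
  rw [hX] at h3
  obtain ⟨k, hk, hke⟩ := (Nat.dvd_prime_pow hp.out).1 h3
  rw [hke] at h1 h2 ⊢
  have h4 := (Nat.pow_le_pow_iff_right hp.out.one_lt).1 h1
  have h5 := (Nat.pow_lt_pow_iff_right hp.out.one_lt).1 h2
  congr 1
  omega

theorem card_lt_of_ne {X Y : Subgroup Ω} [Finite X] {n : ℕ} (hX : Nat.card X = p ^ (n + 1))
    (hYX : Y ≤ X) (hne : Y ≠ X) : Nat.card Y ≤ p ^ n := by
  have h3 := Subgroup.card_dvd_of_le hYX
  rw [hX] at h3
  obtain ⟨k, hk, hke⟩ := (Nat.dvd_prime_pow hp.out).1 h3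
  rw [hke]
  refine Nat.pow_le_pow_right hp.out.pos ?_
  by_contra hcon
  have h4 : k = n + 1 := by omega
  exact hne (Subgroup.eq_of_le_of_card_ge hYX (by rw [hX, hke, h4]))

theorem nrm_ZS (X : Subgroup Ω) : Nrm X (ZS X) := (charIn_ZS X).nrm ZS_le

/-- The structure of a group of order `p⁴` with centre of order `p`. -/
theorem fourth_center {X : Subgroup Ω} [Finite X] (hXp : IsPGroup p X) (hX : Nat.card X = p ^ 4)
    (hZ : Nat.card (ZS X) = p) : Nat.card (up X (ZS X) (nrm_ZS X)) = p ^ 2 ∧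
      Nat.card (centralizerIn X (up X (ZS X) (nrm_ZS X))) = p ^ 3 ∧
      up X (ZS X) (nrm_ZS X) ≤ centralizerIn X (up X (ZS X) (nrm_ZS X)) := by
  have hpp := hp.out
  have hp0 := hpp.pos
  have hp1 := hpp.one_lt
  have hfin : ∀ Y : Subgroup Ω, Y ≤ X → Finite Y := fun Y hY =>
    Finite.of_injective _ (Subgroup.inclusion_injective hY)
  have hfZ := hfin _ (ZS_le (S := X))
  have hneZ : ZS X ≠ X := by
    intro h
    rw [h, hX] at hZ
    have h1 : p ^ 1 < p ^ 4 := Nat.pow_lt_pow_right hp1 (by norm_num)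
    rw [pow_one] at h1
    omega
  obtain ⟨W, hZW, hWu, hWc⟩ := exists_next hXp (nrm_ZS X) ZS_le hneZ
  rw [hZ] at hWc
  have hWc' : Nat.card W = p ^ 2 := by rw [hWc, sq]
  have hWX : W ≤ X := hWu.trans up_le
  have hfW := hfin W hWX
  have hWn : Nrm X W := nrm_of_le_up hZW hWu
  set C := centralizerIn X W with hC
  have hCX : C ≤ X := centralizerIn_le
  have hfC := hfin C hCX
  have hWcomm : ∀ x ∈ W, ∀ y ∈ W, x * y = y * x := by
    intro x hx y hy
    exact congrArg Subtype.val (mul_comm_of_card_sq hWc' (⟨x, hx⟩ : W) ⟨y, hy⟩)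
  have hWC : W ≤ C := fun w hw => mem_centralizerIn.2 ⟨hWX hw, fun x hx => hWcomm x hx w hw⟩
  have hneC : C ≠ X := by
    intro h
    have h1 : W ≤ ZS X := by
      intro w hw
      rw [mem_ZS]
      refine ⟨hWX hw, fun x hx => ?_⟩
      rw [← h] at hx
      exact ((mem_centralizerIn.1 hx).2 w hw).symm
    have h2 := Nat.card_mono (Set.toFinite _) h1
    have h3 : Nat.card W ≤ Nat.card (ZS X) := h2
    rw [hZ, hWc'] at h3
    nlinarith
  have hCle : Nat.card C ≤ p ^ 3 := card_lt_of_ne hX hCX hneC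
  have hCc : Nat.card C = p ^ 3 := by
    refine le_antisymm hCle ?_
    have h1 := card_le_centralizerIn hXp hWn hWc'
    rw [hX, pow_succ', ← hC] at h1
    exact Nat.le_of_mul_le_mul_left h1 hp0
  have hCcomm : ∀ x ∈ C, ∀ y ∈ C, x * y = y * x := by
    intro x hx y hy
    refine mul_comm_of_central hWC (p := p) (by rw [hCc, hWc']; ring) (fun w hw x hx => ?_) hx hy
    exact ((mem_centralizerIn.1 hx).2 w hw).symm
  have hXC : Nat.card X = p * Nat.card C := by rw [hX, hCc]; ring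
  have hCn : Nrm X C := nrm_centralizerIn hWn
  -- centralizers of elements outside `C`
  have hcen : ∀ x ∈ X, x ∉ C → cz C x ≤ ZS X := by
    intro x hx hxC c hcz
    obtain ⟨hc, hcx⟩ := mem_cz.1 hcz
    rw [mem_ZS]
    refine ⟨hCX hc, fun y hy => ?_⟩
    obtain ⟨j, hj⟩ := exists_zpow_mod hCX hCn hXC hx hxC hy
    have e : y = x ^ j * ((x ^ j)⁻¹ * y) := by group
    have h1 : Commute c (x ^ j) := (show Commute c x from hcx).zpow_right j
    have h2 : Commute c ((x ^ j)⁻¹ * y) := hCcomm c hc _ hj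
    have h3 := h1.mul_right h2
    rw [← e] at h3
    exact h3.symm
  set U := up X (ZS X) (nrm_ZS X) with hU
  have hUX : U ≤ X := up_le
  have hfU := hfin U hUX
  have hUC : U ≤ C := by
    intro x hx
    by_contra hxC
    have h1 := card_le_comm (A := C) (B := ZS X) (x := x) (fun a ha => hx.2 a (hCX ha))
    have h2 : Nat.card (cz C x) ≤ Nat.card (ZS X) :=
      Nat.card_mono (Set.toFinite _) (hcen x (hUX hx) hxC)
    rw [hZ] at h2
    rw [hCc, hZ] at h1
    have h3 : p ^ 3 ≤ p * p := h1.trans (Nat.mul_le_mul le_rfl h2)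
    have h4 : p ^ 2 < p ^ 3 := Nat.pow_lt_pow_right hp1 (by norm_num)
    rw [sq] at h4
    omega
  obtain ⟨x₁, hx₁, hx₁C⟩ : ∃ x ∈ X, x ∉ C := by
    by_contra hcon
    push Not at hcon
    exact hneC (le_antisymm hCX hcon)
  have hUle : Nat.card U ≤ p ^ 2 := by
    have h1 := card_le_comm (A := U) (B := ZS X) (x := x₁)
      (fun a ha => by
        rw [← commutatorElement_inv]
        exact (ZS X).inv_mem (ha.2 x₁ hx₁))
    have h2 : Nat.card (cz U x₁) ≤ Nat.card (ZS X) :=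
      Nat.card_mono (Set.toFinite _) (fun c hc => hcen x₁ hx₁ hx₁C
        (mem_cz.2 ⟨hUC (mem_cz.1 hc).1, (mem_cz.1 hc).2⟩))
    rw [hZ] at h1 h2
    rw [sq]
    exact h1.trans (Nat.mul_le_mul le_rfl h2)
  have hWU : W = U := Subgroup.eq_of_le_of_card_ge hWu (by rw [hWc']; exact hUle)
  rw [← hWU]
  exact ⟨hWc', hCc, hWC⟩

/-- The structure of a group of order `p⁴` with centre of order `p²`. -/
theorem fourth_commutator {X : Subgroup Ω} [Finite X] (hX : Nat.card X = p ^ 4)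
    (hZ : Nat.card (ZS X) = p ^ 2) : Nat.card (⁅X, X⁆ : Subgroup Ω) = p ∧ ⁅X, X⁆ ≤ ZS X := by
  have hpp := hp.out
  have hp0 := hpp.pos
  have hp1 := hpp.one_lt
  have hfin : ∀ Y : Subgroup Ω, Y ≤ X → Finite Y := fun Y hY =>
    Finite.of_injective _ (Subgroup.inclusion_injective hY)
  have hfZ := hfin _ (ZS_le (S := X))
  have hXZ : Nat.card X = p ^ 2 * Nat.card (ZS X) := by rw [hX, hZ]; ring
  have hcomm : ∀ x ∈ X, ∀ y ∈ X, ⁅x, y⁆ ∈ ZS X := fun x hx y hy =>
    comm_mem_of_card_sq (nrm_ZS X) ZS_le hXZ hx hy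
  have hle : ⁅X, X⁆ ≤ ZS X := Subgroup.commutator_le.2 hcomm
  obtain ⟨a, ha, haZ⟩ : ∃ a ∈ X, a ∉ ZS X := by
    by_contra hcon
    push Not at hcon
    have h1 : ZS X = X := le_antisymm ZS_le hcon
    rw [h1, hX] at hZ
    have h2 : p ^ 2 < p ^ 4 := Nat.pow_lt_pow_right hp1 (by norm_num)
    omega
  set A := cz X a with hA
  have hAX : A ≤ X := cz_le
  have hfA := hfin A hAX
  have hZA : ZS X ≤ A := by
    intro z hz
    exact mem_cz.2 ⟨ZS_le hz, ((mem_ZS.1 hz).2 a ha).symm⟩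
  have haA : a ∈ A := mem_cz.2 ⟨ha, rfl⟩
  have hAne : A ≠ X := by
    intro h
    apply haZ
    rw [mem_ZS]
    refine ⟨ha, fun x hx => ?_⟩
    rw [← h] at hx
    exact (mem_cz.1 hx).2
  have hAc : Nat.card A = p ^ 3 := by
    refine le_antisymm (card_lt_of_ne hX hAX hAne) ?_
    have h1 : Nat.card (ZS X) < Nat.card A := by
      refine lt_of_le_of_ne (Nat.card_mono (Set.toFinite _) hZA) fun h => ?_
      have := Subgroup.eq_of_le_of_card_ge hZA h.ge
      rw [← this] at haA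
      exact haZ haA
    rw [hZ] at h1
    obtain ⟨k, hk, hke⟩ := (Nat.dvd_prime_pow hpp).1 (hX ▸ Subgroup.card_dvd_of_le hAX)
    rw [hke] at h1 ⊢
    have h2 := (Nat.pow_lt_pow_iff_right hp1).1 h1
    exact Nat.pow_le_pow_right hp0 (by omega)
  obtain ⟨b, hb, hbA⟩ : ∃ b ∈ X, b ∉ A := by
    by_contra hcon
    push Not at hcon
    exact hAne (le_antisymm hAX hcon)
  have hd1 : ⁅a, b⁆ ≠ 1 := by
    intro h
    rw [commutatorElement_eq_one_iff_mul_comm] at h
    exact hbA (mem_cz.2 ⟨hb, h.symm⟩)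
  have hdZ := hcomm a ha b hb
  have hdc : ∀ y ∈ X, y * ⁅a, b⁆ = ⁅a, b⁆ * y := (mem_ZS.1 hdZ).2
  have hap : a ^ p ∈ ZS X := by
    have hAn : Nrm A (ZS X) := (nrm_ZS X).mono hAX
    exact pow_mem_of_card hAn hZA (by rw [hAc, hZ]; ring) haA
  have hdp : ⁅a, b⁆ ^ p = 1 := by
    have h1 : ⁅a ^ (p : ℤ), b⁆ = ⁅a, b⁆ ^ (p : ℤ) := comm_zpow_left (hdc a ha).symm p
    rw [zpow_natCast, zpow_natCast] at h1
    rw [← h1, commutatorElement_eq_one_iff_mul_comm]
    exact ((mem_ZS.1 hap).2 b hb).symm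
  have hgen : Subgroup.closure ((ZS X : Set Ω) ∪ {a, b}) = X := by
    set K := Subgroup.closure ((ZS X : Set Ω) ∪ {a}) with hK
    have hKA : K = A := by
      refine eq_of_between (p := p) (Z := ZS X) ?_ ?_ (by rw [hAc, hZ]; ring) ?_
      · exact fun x hx => Subgroup.subset_closure (Or.inl hx)
      · rw [Subgroup.closure_le]
        rintro x (hx | hx)
        · exact hZA hx
        · rw [Set.mem_singleton_iff.1 hx]
          exact haA
      · intro h1
        apply haZ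
        rw [← h1]
        exact Subgroup.subset_closure (Or.inr rfl)
    refine eq_of_between (p := p) (Z := A) ?_ ?_ (by rw [hAc, hX]; ring) ?_
    · rw [← hKA, hK]
      refine Subgroup.closure_mono ?_
      rintro x (hx | hx)
      · exact Or.inl hx
      · exact Or.inr (Or.inl hx)
    · rw [Subgroup.closure_le]
      rintro x (hx | hx | hx)
      · exact ZS_le hx
      · rw [hx]; exact ha
      · rw [Set.mem_singleton_iff.1 hx]; exact hb
    · intro h1
      apply hbA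
      rw [← h1]
      exact Subgroup.subset_closure (Or.inr (Or.inr rfl))
  have hle2 : ⁅X, X⁆ ≤ Subgroup.zpowers ⁅a, b⁆ := by
    refine Subgroup.commutator_le.2 fun x hx y hy => ?_
    rw [commutatorElement_def]
    refine comm_mem_of_closure (A := (ZS X : Set Ω) ∪ {a, b}) ?_ ?_ x (by rw [hgen]; exact hx) y
      (by rw [hgen]; exact hy)
    · intro d hd c hc
      have hcX : c ∈ X := by
        rcases hc with hc | hc | hc
        · exact ZS_le hc
        · rw [hc]; exact ha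
        · rw [Set.mem_singleton_iff.1 hc]; exact hb
      obtain ⟨n, rfl⟩ := Subgroup.mem_zpowers_iff.1 hd
      exact (show Commute c ⁅a, b⁆ from hdc c hcX).zpow_right n
    · have hone : ∀ u v : Ω, u * v = v * u → u * v * u⁻¹ * v⁻¹ ∈ Subgroup.zpowers ⁅a, b⁆ := by
        intro u v huv
        rw [huv]
        have e : v * u * u⁻¹ * v⁻¹ = 1 := by group
        rw [e]
        exact Subgroup.one_mem _
      have hmX : ∀ c ∈ (ZS X : Set Ω) ∪ {a, b}, c ∈ X := by
        rintro c (hc | hc | hc)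
        · exact ZS_le hc
        · rw [hc]; exact ha
        · rw [Set.mem_singleton_iff.1 hc]; exact hb
      intro u hu v hv
      have huX := hmX u hu
      have hvX := hmX v hv
      rcases hu with hu' | hu' | hu'
      · exact hone u v ((mem_ZS.1 hu').2 v hvX).symm
      · rcases hv with hv' | hv' | hv'
        · exact hone u v ((mem_ZS.1 hv').2 u huX)
        · rw [hu', hv']
          exact hone a a rfl
        · rw [hu', Set.mem_singleton_iff.1 hv', ← commutatorElement_def]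
          exact Subgroup.mem_zpowers _
      · rw [Set.mem_singleton_iff.1 hu']
        rcases hv with hv' | hv' | hv'
        · exact hone b v ((mem_ZS.1 hv').2 b hb)
        · rw [hv']
          have e : b * a * b⁻¹ * a⁻¹ = ⁅a, b⁆⁻¹ := by rw [commutatorElement_def]; group
          rw [e]
          exact Subgroup.inv_mem _ (Subgroup.mem_zpowers _)
        · rw [Set.mem_singleton_iff.1 hv']
          exact hone b b (Eq.refl (b * b))
  have heq : ⁅X, X⁆ = Subgroup.zpowers ⁅a, b⁆ := le_antisymm hle2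
    (Subgroup.zpowers_le.2 (Subgroup.commutator_mem_commutator ha hb))
  refine ⟨?_, hle⟩
  rw [heq, Nat.card_zpowers]
  exact orderOf_eq_prime hdp hd1

end Cfsg.Agent.H785
end

-- part: H785/FifthR
section
/-!
# Essential subgroups of order `p⁴` in a group of order `p⁵` (helper785)
-/

set_option autoImplicit false
set_option linter.unusedSectionVars false
set_option linter.unusedVariables false
set_option linter.style.haveILetI false

namespace Cfsg.Agent.H785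

open Cfsg Cfsg.FusionSystem Cfsg.Agent.H802
open scoped commutatorElement

variable {Ω : Type*} [Group Ω] {S : Subgroup Ω} {p : ℕ} [hp : Fact p.Prime]

theorem relIndex_sub {X A B : Subgroup Ω} [Finite X] (hAB : A ≤ B) (hBX : B ≤ X)
    (hc : Nat.card B = Nat.card A ∨ Nat.card B = p * Nat.card A) :
    (A.subgroupOf X).relIndex (B.subgroupOf X) = 1 ∨ (A.subgroupOf X).relIndex (B.subgroupOf X) = p := by
  have hfB : Finite B := Finite.of_injective _ (Subgroup.inclusion_injective hBX)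
  have hfA : Finite A := Finite.of_injective _ (Subgroup.inclusion_injective hAB)
  have h1 : (A.subgroupOf X).relIndex (B.subgroupOf X) = A.relIndex B :=
    Subgroup.relIndex_subgroupOf hBX
  rw [h1]
  have h4 : (A.subgroupOf B).index = A.relIndex B := rfl
  have h5 := (A.subgroupOf B).card_mul_index
  rw [Nat.card_congr (Subgroup.subgroupOfEquivOfLe hAB).toEquiv, h4] at h5
  have h6 : 0 < Nat.card A := Nat.card_pos
  rcases hc with h7 | h7
  · left
    rw [h7] at h5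
    exact Nat.eq_of_mul_eq_mul_left h6 (by rw [h5, mul_one])
  · right
    rw [h7] at h5
    exact Nat.eq_of_mul_eq_mul_left h6 (by rw [h5, mul_comm])

/-- Sections of order `p` are central. -/
theorem comm_mem_of_index [Finite S] (hS : IsPGroup p S) {U V : Subgroup Ω} (hU : Nrm S U)
    (hV : Nrm S V) (hVU : V ≤ U) (hUS : U ≤ S)
    (hc : Nat.card U = Nat.card V ∨ Nat.card U = p * Nat.card V) {u s : Ω} (hu : u ∈ U)
    (hs : s ∈ S) : ⁅u, s⁆ ∈ V := by
  obtain ⟨k, hk⟩ := hS ⟨s, hs⟩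
  have h1 := Cfsg.Agent.H766.pAut_trivial_section (MulAut.conj (⟨s, hs⟩ : S)) (k := k)
    (by rw [← map_pow, hk, map_one]) (L := V.subgroupOf S) (K := U.subgroupOf S)
    (fun x hx => hV s hs x hx) (fun x hx => hU s hs x hx) (relIndex_sub hVU hUS hc)
    (⟨u, hUS hu⟩⁻¹) (U.inv_mem hu)
  have h2 : (((⟨u, hUS hu⟩⁻¹)⁻¹ * MulAut.conj (⟨s, hs⟩ : S) ⟨u, hUS hu⟩⁻¹ : S) : Ω) ∈ V := h1
  have e : (((⟨u, hUS hu⟩⁻¹)⁻¹ * MulAut.conj (⟨s, hs⟩ : S) ⟨u, hUS hu⟩⁻¹ : S) : Ω) = ⁅u, s⁆ := by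
    rw [MulAut.conj_apply, commutatorElement_def]
    show (u⁻¹)⁻¹ * (s * u⁻¹ * s⁻¹) = _
    group
  rwa [e] at h2

theorem comm_mem_of_index' [Finite S] (hS : IsPGroup p S) {U V : Subgroup Ω} (hU : Nrm S U)
    (hV : Nrm S V) (hVU : V ≤ U) (hUS : U ≤ S)
    (hc : Nat.card U = Nat.card V ∨ Nat.card U = p * Nat.card V) {u s : Ω} (hu : u ∈ U)
    (hs : s ∈ S) : ⁅s, u⁆ ∈ V := by
  rw [← commutatorElement_inv]
  exact V.inv_mem (comm_mem_of_index hS hU hV hVU hUS hc hu hs)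

theorem central_of_card [Finite S] (hS : IsPGroup p S) {D : Subgroup Ω} (hD : Nrm S D)
    (hDS : D ≤ S) (hc : Nat.card D = p) : D ≤ ZS S := by
  intro d hd
  rw [mem_ZS]
  refine ⟨hDS hd, fun s hs => ?_⟩
  have h1 := comm_mem_of_index hS hD (nrm_bot S) bot_le hDS
    (Or.inr (by rw [hc, Subgroup.card_bot, mul_one])) hd hs
  rw [Subgroup.mem_bot, commutatorElement_eq_one_iff_mul_comm] at h1
  exact h1.symm

theorem CharIn.nrm_of {P X Y : Subgroup Ω} (h : CharIn X Y) (hYX : Y ≤ X) (hX : Nrm P X) :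
    Nrm P Y := by
  intro g hg y hy
  exact h (conjHom P X hX ⟨g, hg⟩) ⟨y, hYX hy⟩ hy

variable [Finite S] {F : FusionSystem S}

theorem exists_gen_of_essential (hS : IsPGroup p S) (hF : F.IsSaturated p) {Q : Subgroup Ω}
    (hQ : F.IsEssential p Q) : ∃ g ∈ normalizerIn S Q, g ∉ Q := by
  by_contra hcon
  push Not at hcon
  have h1 := card_lt_card_normalizerIn hS hQ.1.1 (ne_of_isEssential hS hF hQ)
  have h2 : normalizerIn S Q = Q := le_antisymm hcon (le_normalizerIn hQ.1.1)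
  rw [h2] at h1
  exact lt_irrefl _ h1

/-- **Flag lemma.** -/
theorem not_essential_of_flag (hS : IsPGroup p S) (hF : F.IsSaturated p) {Q : Subgroup Ω} (n : ℕ)
    (c : ℕ → Subgroup Q) (h0 : c 0 = ⊤) (hn : c n = ⊥)
    (hinv : ∀ i ≤ n, ∀ α ∈ F.autGroup Q, ∀ x ∈ c i, α x ∈ c i)
    (hidx : ∀ i < n, (c (i + 1)).relIndex (c i) = 1 ∨ (c (i + 1)).relIndex (c i) = p) :
    ¬ F.IsEssential p Q := by
  intro hQ
  have hfQ : Finite Q := finite_of_le hQ.1.1
  obtain ⟨g, hg, hgQ⟩ := exists_gen_of_essential hS hF hQ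
  obtain ⟨τ, hτ⟩ := exists_conjAut hg.2
  have hτS : τ ∈ autInducedBy S Q := conj_mem_autInducedBy hg.1 hτ
  have hτA := autInducedBy_le_autGroup F hQ.1.1 hτS
  obtain ⟨k, hk⟩ := isPGroup_autInducedBy hS Q ⟨τ, hτS⟩
  have hk' : τ ^ p ^ k = 1 := congrArg Subtype.val hk
  refine hgQ (Cfsg.Agent.H765.Ess.mem_of_chain hS hQ n c h0 hn hinv hg.1 hτ fun i hi => ?_)
  exact Cfsg.Agent.H766.pAut_trivial_section τ hk' (hinv (i + 1) hi τ hτA)
    (hinv i hi.le τ hτA) (hidx i hi)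

theorem charIn_subgroupOf {X Y : Subgroup Ω} (h : CharIn X Y) :
    ∀ α : MulAut X, ∀ x ∈ Y.subgroupOf X, α x ∈ Y.subgroupOf X := fun α x hx => h α x hx

/-- A subgroup of order `p⁴` with centre of order `p` is not essential. -/
theorem not_essential_of_center (hS : IsPGroup p S) (hF : F.IsSaturated p) {X : Subgroup Ω}
    (hXS : X ≤ S) (hX : Nat.card X = p ^ 4) (hZ : Nat.card (ZS X) = p) : ¬ F.IsEssential p X := by
  have hfX : Finite X := finite_of_le hXS
  obtain ⟨h1, h2, h3⟩ := fourth_center (hS.to_le hXS) hX hZ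
  set U := up X (ZS X) (nrm_ZS X) with hU
  set C := centralizerIn X U with hC
  have hUc : CharIn X U := charIn_up (charIn_ZS X)
  have hUX : U ≤ X := up_le
  have hCc : CharIn X C := charIn_centralizerIn hUX hUc
  have hCX : C ≤ X := centralizerIn_le
  have hZU : ZS X ≤ U := le_up ZS_le
  let c : ℕ → Subgroup X := fun i =>
    if i = 0 then ⊤ else if i = 1 then C.subgroupOf X else if i = 2 then U.subgroupOf X
    else if i = 3 then (ZS X).subgroupOf X else ⊥
  refine not_essential_of_flag hS hF 4 c rfl rfl ?_ ?_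
  · intro i hi α _ x hx
    interval_cases i
    · exact Subgroup.mem_top _
    · exact hCc α x hx
    · exact hUc α x hx
    · exact charIn_ZS X α x hx
    · have hx' : x ∈ (⊥ : Subgroup X) := hx
      rw [Subgroup.mem_bot] at hx'
      rw [hx', map_one]
      exact Subgroup.one_mem _
  · intro i hi
    interval_cases i
    · have h4 := relIndex_sub (p := p) hCX le_rfl (Or.inr (by rw [hX, h2]; ring) :
        Nat.card X = Nat.card C ∨ Nat.card X = p * Nat.card C)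
      rw [Subgroup.subgroupOf_self] at h4
      exact h4
    · exact relIndex_sub (p := p) h3 hCX (Or.inr (by rw [h2, h1]; ring))
    · exact relIndex_sub (p := p) hZU hUX (Or.inr (by rw [h1, hZ]; ring))
    · have h4 := relIndex_sub (p := p) (X := X) (bot_le : (⊥ : Subgroup Ω) ≤ ZS X) ZS_le
        (Or.inr (by rw [hZ, Subgroup.card_bot, mul_one]))
      have h5 : ((⊥ : Subgroup Ω).subgroupOf X) = ⊥ := Subgroup.bot_subgroupOf X
      rw [h5] at h4
      exact h4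

/-- The standing assumptions. -/
structure Hyp (p : ℕ) (F : FusionSystem S) : Prop where
  hS : IsPGroup p S
  hF : F.IsSaturated p
  p2 : p ≠ 2
  card : Nat.card S = p ^ 5
  core : F.core = ⊥
  noab : ∀ A : Subgroup Ω, A ≤ S → (∀ x ∈ A, ∀ y ∈ A, x * y = y * x) → Nat.card A < p ^ 4

namespace Hyp

theorem card_le_four (H : Hyp p F) {Q : Subgroup Ω} (hQ : F.IsEssential p Q) :
    ∃ k ≤ 4, Nat.card Q = p ^ k := by
  have h1 := Subgroup.card_dvd_of_le hQ.1.1
  rw [H.card] at h1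
  obtain ⟨k, hk, hke⟩ := (Nat.dvd_prime_pow hp.out).1 h1
  refine ⟨k, ?_, hke⟩
  by_contra hcon
  have h2 : k = 5 := by omega
  exact ne_of_isEssential H.hS H.hF hQ (Subgroup.eq_of_le_of_card_ge hQ.1.1
    (by rw [H.card, hke, h2]))

theorem ZS_le_of_centric {Q : Subgroup Ω} (hQ : F.IsCentric Q) : ZS S ≤ ZS Q := by
  have hQS := hQ.1
  intro z hz
  rw [mem_ZS] at hz ⊢
  refine ⟨hQ.2 Q (isConj_refl F hQS) (mem_centralizerIn.2 ⟨hz.1, fun x hx => hz.2 x (hQS hx)⟩),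
    fun x hx => hz.2 x (hQS hx)⟩

theorem one_lt_card_ZS (H : Hyp p F) : p ≤ Nat.card (ZS S) := by
  have hnt : Nontrivial S := by
    rw [← Finite.one_lt_card_iff_nontrivial, H.card]
    exact Nat.one_lt_pow (by norm_num) hp.out.one_lt
  have h1 := H.hS.center_nontrivial
  have h2 : IsPGroup p (Subgroup.center S) := H.hS.to_subgroup _
  obtain ⟨n, hn, hc⟩ := h2.nontrivial_iff_card.1 h1
  rw [card_ZS, hc]
  exact Nat.le_self_pow hn.ne' p

/-- The section data of an essential subgroup of order `p⁴`. -/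
theorem four (H : Hyp p F) {Q : Subgroup Ω} (hQ : F.IsEssential p Q) (hc : Nat.card Q = p ^ 4) :
    Sec p F Q (ZS Q) ⁅Q, Q⁆ ∧ Nat.card (ZS Q) = p ^ 2 ∧ Nat.card (⁅Q, Q⁆ : Subgroup Ω) = p := by
  have hpp := hp.out
  have hQS := hQ.1.1
  have hfQ : Finite Q := finite_of_le hQS
  have hfZ : Finite (ZS Q) := finite_of_le ZS_le
  have hfZS : Finite (ZS S) := finite_of_le ZS_le
  have h1 := Subgroup.card_dvd_of_le (ZS_le (S := Q))
  rw [hc] at h1
  obtain ⟨k, hk, hke⟩ := (Nat.dvd_prime_pow hpp).1 h1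
  have hZc : ∀ w ∈ ZS Q, ∀ x ∈ Q, x * w = w * x := fun w hw => (mem_ZS.1 hw).2
  have hnab : ¬ ∀ x ∈ Q, ∀ y ∈ Q, x * y = y * x := by
    intro h
    have := H.noab Q hQS h
    rw [hc] at this
    exact lt_irrefl _ this
  have hk2 : k = 2 := by
    interval_cases k
    · exfalso
      have h2 := H.one_lt_card_ZS
      have h3 : Nat.card (ZS S) ≤ Nat.card (ZS Q) :=
        Nat.card_mono (Set.toFinite _) (ZS_le_of_centric hQ.1)
      rw [hke, pow_zero] at h3
      have := hpp.one_lt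
      omega
    · exact absurd hQ (not_essential_of_center H.hS H.hF hQS hc (by rw [hke, pow_one]))
    · rfl
    · exact absurd (fun x hx y hy => mul_comm_of_central (p := p) (ZS_le (S := Q))
        (by rw [hc, hke]; ring) hZc hx hy) hnab
    · exact absurd (fun x hx y hy => by
        have h2 : ZS Q = Q := Subgroup.eq_of_le_of_card_ge ZS_le (by rw [hc, hke])
        rw [← h2] at hy
        exact hZc y hy x hx) hnab
  rw [hk2] at hke
  obtain ⟨h2, h3⟩ := fourth_commutator hc hke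
  refine ⟨⟨hQ, ZS_le, h3, fun α _ => charIn_ZS Q α, fun α _ => charIn_commutator Q α,
    by rw [hc, hke]; ring, Or.inr (by rw [hke, h2, sq]), Or.inr h2⟩, hke, h2⟩

theorem norm_four (H : Hyp p F) {Q : Subgroup Ω} (hQ : F.IsEssential p Q)
    (hc : Nat.card Q = p ^ 4) : normalizerIn S Q = S := by
  have h1 := (H.four hQ hc).1.card_normalizer H.hS H.hF
  exact Subgroup.eq_of_le_of_card_ge inf_le_left (by rw [h1, H.card, hc]; ring_nf; exact le_rfl)

/-- There is an essential subgroup of order at most `p³`. -/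
theorem exists_small (H : Hyp p F) : ∃ Q : Subgroup Ω, F.IsEssential p Q ∧ Nat.card Q ≤ p ^ 3 := by
  have hpp := hp.out
  by_contra hcon
  push Not at hcon
  have hall : ∀ Q : Subgroup Ω, F.IsEssential p Q → Nat.card Q = p ^ 4 := by
    intro Q hQ
    obtain ⟨k, hk, hke⟩ := H.card_le_four hQ
    have h1 := hcon Q hQ
    rw [hke] at h1 ⊢
    have h2 := (Nat.pow_lt_pow_iff_right hpp.one_lt).1 h1
    congr 1
    omega
  have hfZS : Finite (ZS S) := finite_of_le ZS_le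
  have hE : ∀ Q : Subgroup Ω, F.IsEssential p Q → ∀ α ∈ F.autGroup Q, ∀ x : Q, (x : Ω) ∈ ZS S →
      ((α x : Q) : Ω) ∈ ZS S := by
    intro Q hQ α hα x hx
    have hQS := hQ.1.1
    have hfQ : Finite Q := finite_of_le hQS
    have hfZ : Finite (ZS Q) := finite_of_le ZS_le
    obtain ⟨h1, h2, h3⟩ := H.four hQ (hall Q hQ)
    have h4 := ZS_le_of_centric hQ.1
    have h5 := Subgroup.card_dvd_of_le h4
    rw [h2] at h5
    obtain ⟨k, hk, hke⟩ := (Nat.dvd_prime_pow hpp).1 h5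
    have hN : Nrm S Q := by
      have := nrm_normalizerIn S Q
      rwa [H.norm_four hQ (hall Q hQ)] at this
    interval_cases k
    · exfalso
      have := H.one_lt_card_ZS
      have h6 := hpp.one_lt
      rw [hke, pow_zero] at this
      omega
    · have h6 : ⁅Q, Q⁆ ≤ ZS S := central_of_card H.hS
        ((charIn_commutator Q).nrm_of (h1.YZ.trans h1.ZQ) hN) ((h1.YZ.trans h1.ZQ).trans hQS) h3
      have h7 : ⁅Q, Q⁆ = ZS S := Subgroup.eq_of_le_of_card_ge h6 (by rw [hke, h3, pow_one])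
      rw [← h7] at hx ⊢
      exact h1.invY α hα x hx
    · have h7 : ZS S = ZS Q := Subgroup.eq_of_le_of_card_ge h4 (by rw [hke, h2])
      rw [h7] at hx ⊢
      exact h1.invZ α hα x hx
  have h1 := eq_bot_of_inv H.hS H.hF H.core (R := ZS S) ZS_le
    (fun x hx y hy => ((mem_ZS.1 hy).2 x (ZS_le hx)))
    (fun α _ => charIn_ZS S α) hE
  have h2 := H.one_lt_card_ZS
  rw [h1, Subgroup.card_bot] at h2
  have := hpp.one_lt
  omega

/-- Automorphisms normalizing `Aut_S(Q)` extend, `|Q| = p⁴`. -/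
theorem ext_four (H : Hyp p F) {Q : Subgroup Ω} (hQ : F.IsEssential p Q)
    (hc : Nat.card Q = p ^ 4) : ExtTop F Q := by
  intro γ hγ hn
  exact exists_aut_top (isReceptive_of_isFullyNormalized H.hS H.hF hQ.2.1) (H.norm_four hQ hc) hγ hn

end Hyp

end Cfsg.Agent.H785
end

-- part: H785/FifthM
section
/-!
# Groups of order `p⁵` of maximal class: weights of automorphisms (helper785)
-/

set_option autoImplicit false
set_option linter.unusedSectionVars false
set_option linter.unusedVariables false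
set_option linter.style.haveILetI false

namespace Cfsg.Agent.H785

open Cfsg Cfsg.FusionSystem Cfsg.Agent.H802
open scoped commutatorElement

variable {Ω : Type*} [Group Ω] {S : Subgroup Ω} {p : ℕ} [hp : Fact p.Prime]

/-- Weights on sections of order `p` are prime to `p`. -/
theorem wt_not_dvd {τ : MulAut S} {U V : Subgroup Ω} [Finite U] (hUS : U ≤ S) (hVU : V ≤ U)
    (hV : Nrm U V) (hc : Nat.card U = p * Nat.card V) (hτV : CharIn S V) {k : ℤ}
    (h : Wt τ U V k) : ¬ (p : ℤ) ∣ k := by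
  rintro ⟨m, rfl⟩
  have hfV : Finite V := Finite.of_injective _ (Subgroup.inclusion_injective hVU)
  obtain ⟨x, hx, hxV⟩ : ∃ x ∈ U, x ∉ V := by
    by_contra hcon
    push Not at hcon
    have h1 : U = V := le_antisymm hcon hVU
    rw [h1] at hc
    have h2 : 0 < Nat.card V := Nat.card_pos
    nlinarith [hp.out.one_lt]
  have h1 := h ⟨x, hUS hx⟩ hx
  have h2 : x ^ ((p : ℤ) * m) ∈ V := by
    rw [zpow_mul, zpow_natCast]
    exact V.zpow_mem (pow_mem_of_card hV hVU hc hx) m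
  have h3 := V.mul_mem h2 h1
  rw [mul_inv_cancel_left] at h3
  exact hxV ((hτV.mem_iff τ ⟨x, hUS hx⟩).1 h3)

/-- Uniqueness of weights, from one element. -/
theorem wt_eq_of_mem {τ : MulAut S} {U V : Subgroup Ω} [Finite U] (hUS : U ≤ S) (hVU : V ≤ U)
    (hV : Nrm U V) (hc : Nat.card U = p * Nat.card V) {k l : ℤ} (h : Wt τ U V k) {x : Ω} (hx : x ∈ U)
    (hxV : x ∉ V) (hl : (x ^ l)⁻¹ * (τ ⟨x, hUS hx⟩ : S) ∈ V) : (p : ℤ) ∣ k - l := by
  have hn : (V.subgroupOf U).Normal := hV.normal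
  have h1 := h ⟨x, hUS hx⟩ hx
  have h2 := V.mul_mem h1 (V.inv_mem hl)
  have e : ((x ^ k)⁻¹ * (τ ⟨x, hUS hx⟩ : S)) * ((x ^ l)⁻¹ * (τ ⟨x, hUS hx⟩ : S))⁻¹ =
      x ^ (l - k) := by
    rw [zpow_sub]
    have : Commute (x ^ k)⁻¹ (x ^ l) :=
      ((Commute.refl x).zpow_zpow k l).inv_left
    rw [mul_inv_rev, inv_inv, ← mul_assoc, mul_inv_cancel_right, this.eq]
  rw [e] at h2
  -- order of `x` modulo `V` is `p`
  set q := QuotientGroup.mk' (V.subgroupOf U) with hq
  have hq1 : ∀ z : U, q z = 1 ↔ (z : Ω) ∈ V := fun z => QuotientGroup.eq_one_iff z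
  have h3 : q ⟨x, hx⟩ ≠ 1 := by
    rw [Ne, hq1]
    exact hxV
  have h4 : (q ⟨x, hx⟩) ^ p = 1 := by
    rw [← card_quot hVU hc]
    exact pow_card_eq_one'
  have h5 := orderOf_eq_prime h4 h3
  have h6 : (q ⟨x, hx⟩) ^ (l - k) = 1 := by
    rw [← map_zpow, hq1]
    exact h2
  have h7 := orderOf_dvd_iff_zpow_eq_one.2 h6
  rw [h5] at h7
  have e2 : k - l = -(l - k) := by ring
  rw [e2]
  exact (dvd_neg).2 h7

/-- The second centre. -/
def z2 (S : Subgroup Ω) : Subgroup Ω := up S (ZS S) (nrm_ZS S)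

theorem nrm_z2 : Nrm S (z2 S) := nrm_up ZS_le

theorem z2_le : z2 S ≤ S := up_le

/-- The third centre. -/
def z3 (S : Subgroup Ω) : Subgroup Ω := up S (z2 S) nrm_z2

theorem nrm_z3 : Nrm S (z3 S) := nrm_up z2_le

theorem z3_le : z3 S ≤ S := up_le

/-- The centralizer of the second centre. -/
def gam (S : Subgroup Ω) : Subgroup Ω := centralizerIn S (z2 S)

theorem gam_le : gam S ≤ S := centralizerIn_le

theorem nrm_gam : Nrm S (gam S) := nrm_centralizerIn nrm_z2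

theorem ZS_le_z2 : ZS S ≤ z2 S := le_up ZS_le

theorem z2_le_z3 : z2 S ≤ z3 S := le_up z2_le

theorem charIn_z2 : CharIn S (z2 S) := charIn_up (charIn_ZS S)

theorem charIn_z3 : CharIn S (z3 S) := charIn_up charIn_z2

theorem charIn_gam : CharIn S (gam S) := charIn_centralizerIn z2_le charIn_z2

/-- The groups of order `p⁵` of maximal class without abelian subgroup of index `p`. -/
structure MC (p : ℕ) (S : Subgroup Ω) : Prop where
  pg : IsPGroup p S
  card : Nat.card S = p ^ 5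
  c1 : Nat.card (ZS S) = p
  c2 : Nat.card (z2 S) = p ^ 2
  c3 : Nat.card (z3 S) = p ^ 3
  noab : ∀ A : Subgroup Ω, A ≤ S → (∀ x ∈ A, ∀ y ∈ A, x * y = y * x) → Nat.card A < p ^ 4

namespace MC

variable [Finite S]

theorem cG (h : MC p S) : Nat.card (gam S) = p ^ 4 := by
  have hpp := hp.out
  have hf2 : Finite (z2 S) := finite_of_le z2_le
  have hfZ : Finite (ZS S) := finite_of_le ZS_le
  refine le_antisymm (card_lt_of_ne h.card gam_le fun heq => ?_) ?_
  · have h1 : z2 S ≤ ZS S := by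
      intro w hw
      rw [mem_ZS]
      refine ⟨z2_le hw, fun x hx => ?_⟩
      rw [← heq] at hx
      exact ((mem_centralizerIn.1 hx).2 w hw).symm
    have h2 : Nat.card (z2 S) ≤ Nat.card (ZS S) := Nat.card_mono (Set.toFinite _) h1
    rw [h.c1, h.c2] at h2
    nlinarith [hpp.one_lt]
  · have h1 := card_le_centralizerIn h.pg nrm_z2 h.c2
    rw [h.card, pow_succ'] at h1
    exact Nat.le_of_mul_le_mul_left h1 hpp.pos

theorem card_S (h : MC p S) : Nat.card S = p * Nat.card (gam S) := by rw [h.card, h.cG]; ring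

theorem z2_le_gam (h : MC p S) : z2 S ≤ gam S := by
  intro w hw
  refine mem_centralizerIn.2 ⟨z2_le hw, fun x hx => ?_⟩
  exact congrArg Subtype.val (mul_comm_of_card_sq h.c2 (⟨x, hx⟩ : z2 S) ⟨w, hw⟩)

theorem gam_comm (h : MC p S) {x y : Ω} (hx : x ∈ gam S) (hy : y ∈ gam S) : ⁅x, y⁆ ∈ z2 S := by
  have hfG : Finite (gam S) := finite_of_le gam_le
  exact comm_mem_of_card_sq (nrm_z2.mono gam_le) h.z2_le_gam (by rw [h.cG, h.c2]; ring) hx hy

theorem z3_le_gam (h : MC p S) : z3 S ≤ gam S := by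
  have hpp := hp.out
  have hfG : Finite (gam S) := finite_of_le gam_le
  have hf3 : Finite (z3 S) := finite_of_le z3_le
  intro x hx
  by_contra hxG
  have h1 : gam S ≤ z3 S := by
    intro g hg
    refine mem_up.2 ⟨gam_le hg, fun s hs => ?_⟩
    obtain ⟨j, hj⟩ := exists_zpow_mod gam_le nrm_gam h.card_S (z3_le hx) hxG hs
    set g' := (x ^ j)⁻¹ * s with hg'
    have e : ⁅g, s⁆ = ⁅g, x ^ j⁆ * (x ^ j * ⁅g, g'⁆ * (x ^ j)⁻¹) := by
      have : s = x ^ j * g' := by rw [hg']; group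
      rw [this]
      simp only [commutatorElement_def]
      group
    rw [e]
    have hxj : x ^ j ∈ z3 S := (z3 S).zpow_mem hx j
    refine (z2 S).mul_mem ?_ (nrm_z2 _ (z3_le hxj) _ (h.gam_comm hg hj))
    rw [← commutatorElement_inv]
    exact (z2 S).inv_mem ((mem_up.1 hxj).2 g (gam_le hg))
  have h2 : Nat.card (gam S) ≤ Nat.card (z3 S) := Nat.card_mono (Set.toFinite _) h1
  rw [h.cG, h.c3] at h2
  exact absurd ((Nat.pow_le_pow_iff_right hpp.one_lt).1 h2) (by norm_num)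

theorem z2_cen (h : MC p S) {w x : Ω} (hw : w ∈ z2 S) (hx : x ∈ gam S) : x * w = w * x :=
  ((mem_centralizerIn.1 hx).2 w hw).symm

theorem z3_comm (h : MC p S) {x y : Ω} (hx : x ∈ z3 S) (hy : y ∈ z3 S) : x * y = y * x := by
  have hf3 : Finite (z3 S) := finite_of_le z3_le
  exact mul_comm_of_central (p := p) z2_le_z3 (by rw [h.c3, h.c2]; ring)
    (fun w hw x hx => h.z2_cen hw (h.z3_le_gam hx)) hx hy

theorem one_comm {x y : Ω} (h : x * y = y * x) : ⁅x, y⁆ = 1 :=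
  commutatorElement_eq_one_iff_mul_comm.2 h

/-- `[Γ, Z₃] ≤ Z₁`. -/
theorem r4 (h : MC p S) {x y : Ω} (hx : x ∈ gam S) (hy : y ∈ z3 S) : ⁅x, y⁆ ∈ ZS S := by
  have hf3 : Finite (z3 S) := finite_of_le z3_le
  have hc : ⁅x, y⁆ ∈ z2 S := by
    rw [← commutatorElement_inv]
    exact (z2 S).inv_mem ((mem_up.1 hy).2 x (gam_le hx))
  rw [mem_ZS]
  refine ⟨z2_le hc, fun s hs => ?_⟩
  set m := ⁅s, x⁆ with hm
  set l := ⁅s, y⁆ with hl
  have hmz : m ∈ z3 S := by
    rw [hm]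
    exact comm_mem_of_index' h.pg nrm_gam nrm_z3 h.z3_le_gam gam_le
      (Or.inr (by rw [h.cG, h.c3]; ring)) hx hs
  have hlz : l ∈ z2 S := by
    rw [hl, ← commutatorElement_inv]
    exact (z2 S).inv_mem ((mem_up.1 hy).2 s hs)
  have hmg := h.z3_le_gam hmz
  have hyg := h.z3_le_gam hy
  have e1 : s * ⁅x, y⁆ * s⁻¹ = ⁅m * x, l * y⁆ := by
    rw [hm, hl]
    simp only [commutatorElement_def]
    group
  have c1 : (m * x) * l = l * (m * x) := h.z2_cen hlz ((gam S).mul_mem hmg hx)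
  have c2 : ⁅x, y⁆ * m = m * ⁅x, y⁆ := (h.z2_cen hc hmg).symm
  have c3 : m * y = y * m := h.z3_comm hmz hy
  have e2 : ⁅m * x, l * y⁆ = ⁅x, y⁆ := by
    calc ⁅m * x, l * y⁆ = (m * x) * l * y * (m * x)⁻¹ * (l * y)⁻¹ := by
          rw [commutatorElement_def]; group
      _ = l * (m * x) * y * (m * x)⁻¹ * (l * y)⁻¹ := by rw [c1]
      _ = l * (m * ⁅x, y⁆ * m⁻¹ * ⁅m, y⁆) * l⁻¹ := by
          simp only [commutatorElement_def]; group
      _ = l * (⁅x, y⁆ * m * m⁻¹ * ⁅m, y⁆) * l⁻¹ := by rw [c2]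
      _ = l * ⁅x, y⁆ * l⁻¹ := by rw [one_comm c3]; group
      _ = ⁅x, y⁆ := by
          have c4 : l * ⁅x, y⁆ = ⁅x, y⁆ * l := h.z2_cen hc (h.z2_le_gam hlz)
          rw [c4, mul_inv_cancel_right]
  rw [e2] at e1
  exact mul_inv_eq_iff_eq_mul.1 e1

theorem exists_r1 (h : MC p S) : ∃ x ∈ S, ∃ y ∈ gam S, ⁅x, y⁆ ∉ z2 S := by
  have hf3 : Finite (z3 S) := finite_of_le z3_le
  by_contra hcon
  push Not at hcon
  have h1 : gam S ≤ z3 S := by
    intro g hg
    refine mem_up.2 ⟨gam_le hg, fun s hs => ?_⟩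
    rw [← commutatorElement_inv]
    exact (z2 S).inv_mem (hcon s hs g hg)
  have h2 : Nat.card (gam S) ≤ Nat.card (z3 S) := Nat.card_mono (Set.toFinite _) h1
  rw [h.cG, h.c3] at h2
  exact absurd ((Nat.pow_le_pow_iff_right hp.out.one_lt).1 h2) (by norm_num)

theorem exists_r2 (h : MC p S) : ∃ x ∈ S, ∃ y ∈ z3 S, ⁅x, y⁆ ∉ ZS S := by
  have hf2 : Finite (z2 S) := finite_of_le z2_le
  by_contra hcon
  push Not at hcon
  have h1 : z3 S ≤ z2 S := by
    intro g hg
    refine mem_up.2 ⟨z3_le hg, fun s hs => ?_⟩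
    rw [← commutatorElement_inv]
    exact (ZS S).inv_mem (hcon s hs g hg)
  have h2 : Nat.card (z3 S) ≤ Nat.card (z2 S) := Nat.card_mono (Set.toFinite _) h1
  rw [h.c2, h.c3] at h2
  exact absurd ((Nat.pow_le_pow_iff_right hp.out.one_lt).1 h2) (by norm_num)

theorem exists_r3 (h : MC p S) : ∃ x ∈ S, ∃ y ∈ z2 S, ⁅x, y⁆ ≠ 1 := by
  have hf2 : Finite (ZS S) := finite_of_le ZS_le
  by_contra hcon
  push Not at hcon
  have h1 : z2 S ≤ ZS S := by
    intro g hg
    exact mem_ZS.2 ⟨z2_le hg, fun s hs => commutatorElement_eq_one_iff_mul_comm.1 (hcon s hs g hg)⟩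
  have h2 : Nat.card (z2 S) ≤ Nat.card (ZS S) := Nat.card_mono (Set.toFinite _) h1
  rw [h.c2, h.c1] at h2
  nlinarith [hp.out.one_lt]

theorem exists_r4 (h : MC p S) : ∃ x ∈ gam S, ∃ y ∈ z3 S, ⁅x, y⁆ ≠ 1 := by
  have hfG : Finite (gam S) := finite_of_le gam_le
  by_contra hcon
  push Not at hcon
  have h1 := h.noab (gam S) gam_le (fun x hx y hy =>
    mul_comm_of_central (p := p) h.z3_le_gam (by rw [h.cG, h.c3]; ring)
      (fun w hw x hx => commutatorElement_eq_one_iff_mul_comm.1 (hcon x hx w hw)) hx hy)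
  rw [h.cG] at h1
  exact lt_irrefl _ h1

/-- **Weights.** -/
theorem weights (h : MC p S) (α : MulAut S) : ∃ a b e : ℤ, Wt α S (gam S) a ∧
    Wt α (gam S) (z3 S) b ∧ Wt α (ZS S) ⊥ e ∧ (p : ℤ) ∣ b - a ^ 2 ∧ (p : ℤ) ∣ e - a ^ 5 ∧
    ¬ (p : ℤ) ∣ a := by
  have hfG : Finite (gam S) := finite_of_le gam_le
  have hf2 : Finite (z2 S) := finite_of_le z2_le
  have hf3 : Finite (z3 S) := finite_of_le z3_le
  have hfZ : Finite (ZS S) := finite_of_le ZS_le
  have k1 : Nat.card (gam S) = p * Nat.card (z3 S) := by rw [h.cG, h.c3]; ring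
  have k2 : Nat.card (z3 S) = p * Nat.card (z2 S) := by rw [h.c3, h.c2]; ring
  have k3 : Nat.card (z2 S) = p * Nat.card (ZS S) := by rw [h.c2, h.c1]; ring
  have k4 : Nat.card (ZS S) = p * Nat.card (⊥ : Subgroup Ω) := by
    rw [h.c1, Subgroup.card_bot, mul_one]
  obtain ⟨a, ha⟩ := exists_wt (τ := α) le_rfl gam_le nrm_gam h.card_S (fun x _ => (α x).2)
    (charIn_gam α)
  obtain ⟨b, hb⟩ := exists_wt (τ := α) gam_le h.z3_le_gam (nrm_z3.mono gam_le) k1 (charIn_gam α)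
    (charIn_z3 α)
  obtain ⟨c, hc⟩ := exists_wt (τ := α) z3_le z2_le_z3 (nrm_z2.mono z3_le) k2 (charIn_z3 α)
    (charIn_z2 α)
  obtain ⟨d, hd⟩ := exists_wt (τ := α) z2_le ZS_le_z2 ((nrm_ZS S).mono z2_le) k3 (charIn_z2 α)
    (charIn_ZS S α)
  obtain ⟨e, he⟩ := exists_wt (τ := α) ZS_le bot_le (nrm_bot _) k4 (charIn_ZS S α)
    (fun x hx => by
      rw [Subgroup.mem_bot] at hx ⊢
      have : x = 1 := Subtype.ext hx
      rw [this, map_one]
      rfl)
  have hna := wt_not_dvd le_rfl gam_le nrm_gam h.card_S charIn_gam ha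
  have hnb := wt_not_dvd gam_le h.z3_le_gam (nrm_z3.mono gam_le) k1 charIn_z3 hb
  have hz3 : ∀ x ∈ S, ∀ v ∈ z3 S, ⁅x, v⁆ ∈ z2 S := fun x hx v hv => by
    rw [← commutatorElement_inv]
    exact (z2 S).inv_mem ((mem_up.1 hv).2 x hx)
  have hz2 : ∀ x ∈ S, ∀ v ∈ z2 S, ⁅x, v⁆ ∈ ZS S := fun x hx v hv => by
    rw [← commutatorElement_inv]
    exact (ZS S).inv_mem ((mem_up.1 hv).2 x hx)
  have hz1 : ∀ x ∈ S, ∀ v ∈ ZS S, ⁅x, v⁆ ∈ (⊥ : Subgroup Ω) := fun x hx v hv => by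
    rw [Subgroup.mem_bot]
    exact one_comm ((mem_ZS.1 hv).2 x hx)
  -- the four rules
  have R1 : (p : ℤ) ∣ a * b - c := by
    obtain ⟨x, hx, y, hy, hxy⟩ := h.exists_r1
    exact Wt.rule nrm_z2 ha hb hc le_rfl gam_le h.z3_le_gam (fun u hu y hy => h.gam_comm hu hy)
      hz3 (fun z hz s hs => (mem_up.1 hz).2 s hs)
      (fun z hz => pow_mem_of_card (nrm_z2.mono z3_le) z2_le_z3 k2 hz) hx hy
      (comm_mem_of_index' h.pg nrm_gam nrm_z3 h.z3_le_gam gam_le (Or.inr k1) hy hx) hxy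
  have R2 : (p : ℤ) ∣ a * c - d := by
    obtain ⟨x, hx, y, hy, hxy⟩ := h.exists_r2
    exact Wt.rule (nrm_ZS S) ha hc hd le_rfl z3_le z2_le_z3 (fun u hu y hy => h.r4 hu hy)
      hz2 (fun z hz s hs => (mem_up.1 hz).2 s hs)
      (fun z hz => pow_mem_of_card ((nrm_ZS S).mono z2_le) ZS_le_z2 k3 hz) hx hy
      (hz3 x hx y hy) hxy
  have R3 : (p : ℤ) ∣ a * d - e := by
    obtain ⟨x, hx, y, hy, hxy⟩ := h.exists_r3
    exact Wt.rule (nrm_bot S) ha hd he le_rfl z2_le ZS_le_z2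
      (fun u hu y hy => by rw [Subgroup.mem_bot]; exact one_comm (h.z2_cen hy hu))
      hz1 (fun z hz s hs => by
        rw [Subgroup.mem_bot]
        exact one_comm ((mem_ZS.1 hz).2 s hs).symm)
      (fun z hz => pow_mem_of_card (nrm_bot _) bot_le k4 hz) hx hy (hz2 x hx y hy)
      (by rw [Subgroup.mem_bot]; exact hxy)
  have R4 : (p : ℤ) ∣ b * c - e := by
    obtain ⟨x, hx, y, hy, hxy⟩ := h.exists_r4
    exact Wt.rule (nrm_bot S) hb hc he gam_le z3_le z2_le_z3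
      (fun u hu y hy => by rw [Subgroup.mem_bot]; exact one_comm (h.z3_comm hu hy))
      (fun x hx v hv => by rw [Subgroup.mem_bot]; exact one_comm (h.z2_cen hv hx))
      (fun z hz s hs => by
        rw [Subgroup.mem_bot]
        exact one_comm ((mem_ZS.1 hz).2 s hs).symm)
      (fun z hz => pow_mem_of_card (nrm_bot _) bot_le k4 hz) hx hy (h.r4 hx hy)
      (by rw [Subgroup.mem_bot]; exact hxy)
  have hpz : Prime (p : ℤ) := Nat.prime_iff_prime_int.1 hp.out
  have hba : (p : ℤ) ∣ b - a ^ 2 := by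
    have h1 : (p : ℤ) ∣ a * b * (b - a ^ 2) := by
      have e1 : a * b * (b - a ^ 2) = b * (a * b - c) + (b * c - e) - (a * d - e) -
          a * (a * c - d) - a * (a * (a * b - c)) := by ring
      rw [e1]
      exact dvd_sub (dvd_sub (dvd_sub (dvd_add (Dvd.dvd.mul_left R1 _) R4) R3)
        (Dvd.dvd.mul_left R2 _)) (Dvd.dvd.mul_left (Dvd.dvd.mul_left R1 _) _)
    rcases hpz.dvd_or_dvd h1 with h2 | h2
    · rcases hpz.dvd_or_dvd h2 with h3 | h3
      · exact absurd h3 hna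
      · exact absurd h3 hnb
    · exact h2
  refine ⟨a, b, e, ha, hb, he, hba, ?_, hna⟩
  have e1 : e - a ^ 5 = a ^ 3 * (b - a ^ 2) - (a * d - e) - a * (a * c - d) -
      a * (a * (a * b - c)) := by ring
  rw [e1]
  exact dvd_sub (dvd_sub (dvd_sub (Dvd.dvd.mul_left hba _) R3) (Dvd.dvd.mul_left R2 _))
    (Dvd.dvd.mul_left (Dvd.dvd.mul_left R1 _) _)

end MC

end Cfsg.Agent.H785
end

-- part: H785/FifthE
section
/-!
# Nonabelian essential subgroups of order `p³`, essential subgroups of order `p²` (helper785)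
-/

set_option autoImplicit false
set_option linter.unusedSectionVars false
set_option linter.unusedVariables false
set_option linter.style.haveILetI false

namespace Cfsg.Agent.H785

open Cfsg Cfsg.FusionSystem Cfsg.Agent.H802
open scoped commutatorElement

variable {Ω : Type*} [Group Ω] {S : Subgroup Ω} {p : ℕ} [hp : Fact p.Prime] [Finite S]
  {F : FusionSystem S}

theorem mem_normalizer_of_conj {Q : Subgroup Ω} [Finite Q] {g : Ω} (h : ∀ x ∈ Q, g * x * g⁻¹ ∈ Q) :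
    g ∈ Subgroup.normalizer (Q : Set Ω) := by
  have hmap : Q.map (MulAut.conj g).toMonoidHom = Q := by
    refine Subgroup.eq_of_le_of_card_ge ?_ ?_
    · rintro _ ⟨x, hx, rfl⟩
      exact h x hx
    · exact (Nat.card_congr (Q.equivMapOfInjective _ (MulAut.conj g).injective).toEquiv).le
  rw [Subgroup.mem_normalizer_iff]
  intro x
  refine ⟨h x, fun hx => ?_⟩
  rw [← hmap] at hx
  obtain ⟨y, hy, hye⟩ := hx
  have : y = x := (MulAut.conj g).injective hye
  rw [← this]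
  exact hy

theorem mem_normalizerIn_of_comm {Q : Subgroup Ω} (hQS : Q ≤ S) {g : Ω} (hg : g ∈ S)
    (h : ∀ x ∈ Q, ⁅g, x⁆ ∈ Q) : g ∈ normalizerIn S Q := by
  have hfQ : Finite Q := finite_of_le hQS
  refine ⟨hg, mem_normalizer_of_conj fun x hx => ?_⟩
  have e : g * x * g⁻¹ = ⁅g, x⁆ * x := by rw [commutatorElement_def]; group
  rw [e]
  exact Q.mul_mem (h x hx) hx

theorem normalizerIn_eq_of_nrm {N : Subgroup Ω} (hNS : N ≤ S) (hN : Nrm S N) :
    normalizerIn S N = S := by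
  have hfN : Finite N := finite_of_le hNS
  exact le_antisymm inf_le_left fun s hs => ⟨hs, mem_normalizer_of_conj (hN s hs)⟩

theorem isFullyNormalized_of_nrm (F : FusionSystem S) {N : Subgroup Ω} (hNS : N ≤ S)
    (hN : Nrm S N) : F.IsFullyNormalized N := by
  refine ⟨hNS, fun Q hQ => ?_⟩
  rw [normalizerIn_eq_of_nrm hNS hN]
  exact Nat.card_mono (Set.toFinite _) (inf_le_left : normalizerIn S Q ≤ S)

theorem nrm_of_card (hS : IsPGroup p S) {N : Subgroup Ω} (hNS : N ≤ S)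
    (hc : Nat.card S = p * Nat.card N) : Nrm S N := by
  have hfN : Finite N := finite_of_le hNS
  have hne : N ≠ S := by
    rintro rfl
    have h3 : 0 < Nat.card N := Nat.card_pos
    nlinarith [hp.out.one_lt]
  have h1 := card_lt_card_normalizerIn hS hNS hne
  have h2 : normalizerIn S N = S := by
    refine eq_of_between (p := p) (Z := N) (le_normalizerIn hNS) inf_le_left hc fun h => ?_
    rw [h] at h1
    exact lt_irrefl _ h1
  have h3 := nrm_normalizerIn S N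
  rwa [h2] at h3

theorem Hyp.ext_top_of_index (H : Hyp p F) {N : Subgroup Ω} (hc : F.IsCentric N)
    (hN : Nat.card N = p ^ 4) (hne : ¬ F.IsEssential p N) {α : MulAut N} (hα : α ∈ F.autGroup N) :
    ∃ β ∈ F.autGroup S, ∀ (x : Ω) (hx : x ∈ N) (hx' : x ∈ S),
      ((β ⟨x, hx'⟩ : S) : Ω) = (α ⟨x, hx⟩ : N) := by
  have hNS := hc.1
  have hcS : Nat.card S = p * Nat.card N := by rw [H.card, hN]; ring
  have hn := nrm_of_card H.hS hNS hcS
  have h1 := normalizerIn_eq_of_nrm hNS hn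
  have h2 := ext_step H.hS H.hF (isFullyNormalized_of_nrm F hNS hn) hc hne (by rw [h1, hcS]) hα
  rw [h1] at h2
  exact h2

/-- Recognition of groups of maximal class. -/
theorem Hyp.mc_of (H : Hyp p F) {X₂ X₃ : Subgroup Ω} (h1 : Nat.card (ZS S) = p)
    (hX₂ : X₂ ≤ S) (hX₃ : X₃ ≤ S) (c2 : Nat.card X₂ = p ^ 3) (c3 : Nat.card X₃ = p ^ 4)
    (h2 : z2 S ≤ X₂) (n2 : z2 S ≠ X₂) (h3 : z3 S ≤ X₃) (n3 : z3 S ≠ X₃) : MC p S := by
  have hpp := hp.out
  have hfX₂ : Finite X₂ := finite_of_le hX₂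
  have hfX₃ : Finite X₃ := finite_of_le hX₃
  have hf2 : Finite (z2 S) := finite_of_le z2_le
  have hf3 : Finite (z3 S) := finite_of_le z3_le
  have k2 : Nat.card (z2 S) = p ^ 2 := by
    refine le_antisymm (card_lt_of_ne c2 h2 n2) ?_
    obtain ⟨K, hK1, hK2, hK3⟩ := exists_next H.hS (nrm_ZS S) ZS_le (fun h => by
      rw [h, H.card] at h1
      have h4 : p ^ 1 < p ^ 5 := Nat.pow_lt_pow_right hpp.one_lt (by norm_num)
      rw [pow_one] at h4
      omega)
    have h4 : Nat.card K ≤ Nat.card (z2 S) := Nat.card_mono (Set.toFinite _) hK2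
    rw [hK3, h1] at h4
    rw [sq]
    exact h4
  refine ⟨H.hS, H.card, h1, k2, ?_, H.noab⟩
  refine le_antisymm (card_lt_of_ne c3 h3 n3) ?_
  obtain ⟨K, hK1, hK2, hK3⟩ := exists_next H.hS (nrm_z2 (S := S)) z2_le (fun h => by
    rw [h, H.card] at k2
    have h4 : p ^ 2 < p ^ 5 := Nat.pow_lt_pow_right hpp.one_lt (by norm_num)
    omega)
  have h4 : Nat.card K ≤ Nat.card (z3 S) := Nat.card_mono (Set.toFinite _) hK2
  rw [hK3, k2] at h4
  have e : p * p ^ 2 = p ^ 3 := by ring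
  rwa [e] at h4

theorem nrm_of_between_z3 {E : Subgroup Ω} (h1 : z2 S ≤ E) (h2 : E ≤ z3 S) : Nrm S E :=
  nrm_of_le_up h1 h2

/-- The centre of a nonabelian group of order `p³`. -/
theorem card_ZS_cube {E : Subgroup Ω} [Finite E] (hE : IsPGroup p E) (hc : Nat.card E = p ^ 3)
    (hna : ¬ ∀ x ∈ E, ∀ y ∈ E, x * y = y * x) : Nat.card (ZS E) = p := by
  have hpp := hp.out
  have hfZ : Finite (ZS E) := Finite.of_injective _ (Subgroup.inclusion_injective ZS_le)
  have hZc : ∀ w ∈ ZS E, ∀ x ∈ E, x * w = w * x := fun w hw => (mem_ZS.1 hw).2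
  have h1 := Subgroup.card_dvd_of_le (ZS_le (S := E))
  rw [hc] at h1
  obtain ⟨k, hk, hke⟩ := (Nat.dvd_prime_pow hpp).1 h1
  interval_cases k
  · exfalso
    have hnt : Nontrivial E := by
      rw [← Finite.one_lt_card_iff_nontrivial, hc]
      exact Nat.one_lt_pow (by norm_num) hpp.one_lt
    have h2 := hE.center_nontrivial
    rw [← Finite.one_lt_card_iff_nontrivial, ← card_ZS, hke] at h2
    simp at h2
  · rw [hke, pow_one]
  · exact absurd (fun x hx y hy => mul_comm_of_central (p := p) (ZS_le (S := E))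
      (by rw [hc, hke]; ring) hZc hx hy) hna
  · exact absurd (fun x hx y hy => by
      have h2 : ZS E = E := Subgroup.eq_of_le_of_card_ge ZS_le (by rw [hc, hke])
      rw [← h2] at hy
      exact hZc y hy x hx) hna

/-- There is no nonabelian essential subgroup of order `p³`. -/
theorem Hyp.three_nonab (H : Hyp p F) {E : Subgroup Ω} (hE : F.IsEssential p E)
    (hc : Nat.card E = p ^ 3) (hna : ¬ ∀ x ∈ E, ∀ y ∈ E, x * y = y * x) : False := by
  have hpp := hp.out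
  have hES := hE.1.1
  have hfE : Finite E := finite_of_le hES
  have hfZS : Finite (ZS S) := finite_of_le ZS_le
  have hfZE : Finite (ZS E) := finite_of_le ZS_le
  have hZE := card_ZS_cube (H.hS.to_le hES) hc hna
  have h : Sec p F E (ZS E) ⊥ :=
    { ess := hE
      ZQ := ZS_le
      YZ := bot_le
      invZ := fun α _ => charIn_ZS E α
      invY := fun α _ x hx => by
        rw [Subgroup.mem_bot] at hx ⊢
        have : x = 1 := Subtype.ext hx
        rw [this, map_one]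
        rfl
      cardQ := by rw [hc, hZE]; ring
      cardZ := Or.inr (by rw [hZE, Subgroup.card_bot, mul_one])
      cardY := Or.inl Subgroup.card_bot }
  have hZZ : ZS S = ZS E := by
    refine Subgroup.eq_of_le_of_card_ge (Hyp.ZS_le_of_centric hE.1) ?_
    rw [hZE]
    exact H.one_lt_card_ZS
  have hZS : Nat.card (ZS S) = p := by rw [hZZ, hZE]
  set N := normalizerIn S E with hN
  have hNS : N ≤ S := inf_le_left
  have hEN : E ≤ N := le_normalizerIn hES
  have hfN : Finite N := finite_of_le hNS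
  have hNc : Nat.card N = p ^ 4 := by rw [hN, h.card_normalizer H.hS H.hF, hc]; ring
  have hnE : ¬ Nrm S E := by
    intro hn
    have h1 := normalizerIn_eq_of_nrm hES hn
    rw [← hN] at h1
    rw [h1, H.card] at hNc
    exact absurd (Nat.pow_right_injective hpp.two_le hNc) (by norm_num)
  have h2 : z2 S ≤ E := by
    intro z hz
    refine h.mem_of_comm H.hS (z2_le hz) fun x hx => ?_
    rw [← hZZ]
    exact (mem_up.1 hz).2 x (hES hx)
  have n2 : z2 S ≠ E := fun h1 => hnE (h1 ▸ nrm_z2)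
  have h3 : z3 S ≤ N := by
    intro z hz
    exact mem_normalizerIn_of_comm hES (z3_le hz) fun x hx => h2 ((mem_up.1 hz).2 x (hES hx))
  have n3 : z3 S ≠ N := fun h1 => hnE (nrm_of_between_z3 h2 (by rw [h1]; exact hEN))
  have hMC := H.mc_of hZS hES hNS hc hNc h2 n2 h3 n3
  -- `N` is not essential
  have hNcen : F.IsCentric N := isCentric_of_le hE.1 hEN hNS
  have hZN : Nat.card (ZS N) = p := by
    have hfZN : Finite (ZS N) := finite_of_le ZS_le
    refine le_antisymm ?_ ?_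
    · rw [← hZE]
      refine Nat.card_mono (Set.toFinite _) fun z hz => ?_
      replace hz := mem_ZS.1 hz
      have hzE : z ∈ E := h.cent (mem_centralizerIn.2 ⟨hNS hz.1, fun x hx => hz.2 x (hEN hx)⟩)
      exact mem_ZS.2 ⟨hzE, fun x hx => hz.2 x (hEN hx)⟩
    · rw [← hZS]
      exact Nat.card_mono (Set.toFinite _) (Hyp.ZS_le_of_centric hNcen)
  have hNne := not_essential_of_center H.hS H.hF hNS hNc hZN
  -- the torus element
  obtain ⟨g, hg, hgE⟩ := h.exists_gen H.hS H.hF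
  obtain ⟨L, -, -, -, -, -, htor⟩ := h.exists_torus H.hS H.hF hg hgE
  obtain ⟨t, ht, htn, -, -, htZ⟩ := htor (-1) (-1) (by simp)
  replace htZ := htZ rfl rfl
  obtain ⟨t₁, ht₁, ht₁e⟩ := exists_aut_normalizerIn
    (isReceptive_of_isFullyNormalized H.hS H.hF hE.2.1) (h.tri_le ht) htn
  obtain ⟨τ, hτ, hτe⟩ := H.ext_top_of_index hNcen hNc hNne ht₁
  have hτE : ∀ x : E, ((τ ⟨x, hES x.2⟩ : S) : Ω) = (t x : E) := by
    intro x
    rw [hτe x (hEN x.2) (hES x.2), ht₁e x x.2 (hEN x.2)]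
  obtain ⟨a, b, e, ha, -, he, -, hea, hna'⟩ := hMC.weights τ
  -- a ≡ -1
  obtain ⟨x₀, hx₀, hx₀G⟩ : ∃ x ∈ E, x ∉ gam S := by
    by_contra hcon
    push Not at hcon
    have h4 : z2 S ≤ ZS E := by
      intro z hz
      exact mem_ZS.2 ⟨h2 hz, fun x hx => hMC.z2_cen hz (hcon x hx)⟩
    have h5 : Nat.card (z2 S) ≤ Nat.card (ZS E) := Nat.card_mono (Set.toFinite _) h4
    rw [hMC.c2, hZE] at h5
    nlinarith [hpp.one_lt]
  have hfS : Finite S := inferInstance
  have ha1 : (p : ℤ) ∣ a - (-1) := by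
    refine wt_eq_of_mem le_rfl gam_le nrm_gam hMC.card_S ha (hES hx₀) hx₀G ?_
    rw [hτE ⟨x₀, hx₀⟩, zpow_neg_one, inv_inv]
    refine hMC.z2_le_gam (ZS_le_z2 ?_)
    rw [hZZ]
    exact htZ ⟨x₀, hx₀⟩
  -- e ≡ 1
  have he1 : (p : ℤ) ∣ e - 1 := by
    obtain ⟨z, hz, hz1⟩ : ∃ z ∈ ZS S, z ≠ 1 := by
      by_contra hcon
      push Not at hcon
      have : ZS S = ⊥ := by
        rw [eq_bot_iff]
        exact fun z hz => Subgroup.mem_bot.2 (hcon z hz)
      rw [this, Subgroup.card_bot] at hZS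
      exact hpp.one_lt.ne hZS
    refine wt_eq_of_mem ZS_le bot_le (nrm_bot _) (by rw [hZS, Subgroup.card_bot, mul_one]) he hz
      (by rwa [Subgroup.mem_bot]) ?_
    have hzE : z ∈ ZS E := by rw [← hZZ]; exact hz
    have h4 := ht.2.1 ⟨z, ZS_le hzE⟩ hzE
    rw [zpow_one, hτE ⟨z, ZS_le hzE⟩]
    exact h4
  -- contradiction
  have hpz : Prime (p : ℤ) := Nat.prime_iff_prime_int.1 hpp
  have h5 : (p : ℤ) ∣ 2 := by
    have e1 : (2 : ℤ) = (a ^ 4 - a ^ 3 + a ^ 2 - a + 1) * (a - (-1)) + (e - a ^ 5) - (e - 1) := by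
      ring
    rw [e1]
    exact dvd_sub (dvd_add (Dvd.dvd.mul_left ha1 _) hea) he1
  have h6 : p ∣ 2 := by exact_mod_cast h5
  exact H.p2 ((Nat.prime_dvd_prime_iff_eq hpp Nat.prime_two).1 h6)

end Cfsg.Agent.H785
end

-- part: H785/FifthP
section
/-!
# Essential subgroups of order `p²` in a group of order `p⁵` (helper785)
-/

set_option autoImplicit false
set_option linter.unusedSectionVars false
set_option linter.unusedVariables false
set_option linter.style.haveILetI false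

namespace Cfsg.Agent.H785

open Cfsg Cfsg.FusionSystem Cfsg.Agent.H802
open scoped commutatorElement

variable {Ω : Type*} [Group Ω] {S : Subgroup Ω} {p : ℕ} [hp : Fact p.Prime] [Finite S]
  {F : FusionSystem S}

theorem aut_bot {E : Subgroup Ω} (α : MulAut E) (x : E) (hx : (x : Ω) ∈ (⊥ : Subgroup Ω)) :
    ((α x : E) : Ω) ∈ (⊥ : Subgroup Ω) := by
  rw [Subgroup.mem_bot] at hx ⊢
  have : x = 1 := Subtype.ext hx
  rw [this, map_one]
  rfl

/-- Essential subgroups of order `p²`. -/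
theorem Hyp.pearl (H : Hyp p F) {E : Subgroup Ω} (hE : F.IsEssential p E)
    (hc : Nat.card E = p ^ 2) : MC p S ∧ Sec p F E ⊥ ⊥ ∧ ExtTop F E ∧
      ∀ l l' : ℤ, (p : ℤ) ∣ l * l' - 1 → ∃ τ ∈ F.autGroup S,
        (∀ a, Wt τ S (gam S) a → (p : ℤ) ∣ a - l') ∧ ∀ e, Wt τ (ZS S) ⊥ e → (p : ℤ) ∣ e - l := by
  have hpp := hp.out
  have hES := hE.1.1
  have hfE : Finite E := finite_of_le hES
  have hfZS : Finite (ZS S) := finite_of_le ZS_le
  have h : Sec p F E ⊥ ⊥ :=
    { ess := hE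
      ZQ := bot_le
      YZ := le_rfl
      invZ := fun α _ x hx => aut_bot α x hx
      invY := fun α _ x hx => aut_bot α x hx
      cardQ := by rw [hc, Subgroup.card_bot, mul_one]
      cardZ := Or.inl rfl
      cardY := Or.inl Subgroup.card_bot }
  set N₁ := normalizerIn S E with hN₁
  have hN₁S : N₁ ≤ S := inf_le_left
  have hEN : E ≤ N₁ := le_normalizerIn hES
  have hfN₁ : Finite N₁ := finite_of_le hN₁S
  have hN₁c : Nat.card N₁ = p ^ 3 := by rw [hN₁, h.card_normalizer H.hS H.hF, hc]; ring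
  have hnE : ¬ Nrm S E := by
    intro hn
    have h1 := normalizerIn_eq_of_nrm hES hn
    rw [← hN₁] at h1
    rw [h1, H.card] at hN₁c
    exact absurd (Nat.pow_right_injective hpp.two_le hN₁c) (by norm_num)
  have hZE : ZS S ≤ E := (Hyp.ZS_le_of_centric hE.1).trans ZS_le
  have hZS : Nat.card (ZS S) = p := by
    refine le_antisymm ?_ H.one_lt_card_ZS
    have h1 := card_lt_of_ne (n := 1) hc hZE (fun h1 => hnE (h1 ▸ nrm_ZS S))
    rwa [pow_one] at h1
  obtain ⟨g, hg, hgE⟩ := h.exists_gen H.hS H.hF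
  have hgS : g ∈ S := hN₁S hg
  obtain ⟨L, -, hLE, hLc, -, hLg, htor⟩ := h.exists_torus H.hS H.hF hg hgE
  have hfL : Finite L := finite_of_le hLE
  have hLZ : ZS S = L := by
    refine Subgroup.eq_of_le_of_card_ge ?_ (by rw [hLc, hZS, Subgroup.card_bot, mul_one])
    intro z hz
    refine (hLg z (hZE hz)).1 ?_
    rw [Subgroup.mem_bot, commutatorElement_eq_one_iff_mul_comm]
    exact (mem_ZS.1 hz).2 g hgS
  -- elements commuting with `E` and `g` lie in `ZS S`
  have hcen : ∀ z ∈ S, (∀ x ∈ E, x * z = z * x) → g * z = z * g → z ∈ ZS S := by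
    intro z hz h1 h2
    have hzE : z ∈ E := h.cent (mem_centralizerIn.2 ⟨hz, h1⟩)
    rw [hLZ]
    refine (hLg z hzE).1 ?_
    rw [Subgroup.mem_bot, commutatorElement_eq_one_iff_mul_comm]
    exact h2
  have hN₁na : ¬ ∀ x ∈ N₁, ∀ y ∈ N₁, x * y = y * x := by
    intro hcomm
    exact hgE (h.cent (mem_centralizerIn.2 ⟨hgS, fun x hx => hcomm x (hEN hx) g hg⟩))
  have hZN₁ : ZS S ≤ N₁ := hZE.trans hEN
  have h2 : z2 S ≤ N₁ := by
    intro z hz
    exact mem_normalizerIn_of_comm hES (z2_le hz) fun x hx => hZE ((mem_up.1 hz).2 x (hES hx))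
  have n2 : z2 S ≠ N₁ := by
    intro h1
    exact hnE (nrm_of_le_up (h := nrm_ZS S) hZE (by
      have h3 : E ≤ z2 S := by rw [h1]; exact hEN
      exact h3))
  have hnN₁ : ¬ Nrm S N₁ := by
    intro hn
    have h1 := card_le_aK H.hS hn (nrm_ZS S) ((nrm_ZS S).mono hN₁S) hZN₁
      (by rw [hN₁c, hZS]; ring)
    have h3 : aK S N₁ (ZS S) (nrm_ZS S) ≤ N₁ := by
      intro x hx
      exact mem_normalizerIn_of_comm hES hx.1 fun y hy => hZE (hx.2 y (hEN hy))
    have h4 : Nat.card (aK S N₁ (ZS S) (nrm_ZS S)) ≤ Nat.card N₁ :=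
      Nat.card_mono (Set.toFinite _) h3
    rw [hN₁c] at h4
    have h5 := h1.trans (Nat.mul_le_mul le_rfl h4)
    rw [H.card, ← pow_succ'] at h5
    exact absurd ((Nat.pow_le_pow_iff_right hpp.one_lt).1 h5) (by norm_num)
  set N₂ := normalizerIn S N₁ with hN₂
  have hN₂S : N₂ ≤ S := inf_le_left
  have hN₁N₂ : N₁ ≤ N₂ := le_normalizerIn hN₁S
  have hfN₂ : Finite N₂ := finite_of_le hN₂S
  have hN₁ne : N₁ ≠ S := fun h1 => hnN₁ (h1 ▸ Nrm.self S)
  have hN₂c : Nat.card N₂ = p ^ 4 := by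
    refine le_antisymm (card_lt_of_ne H.card hN₂S fun h1 => ?_) ?_
    · have h3 := nrm_normalizerIn S N₁
      rw [← hN₂, h1] at h3
      exact hnN₁ h3
    · have h1 := card_lt_card_normalizerIn H.hS hN₁S hN₁ne
      have h3 := Subgroup.card_dvd_of_le hN₂S
      rw [H.card] at h3
      obtain ⟨k, hk, hke⟩ := (Nat.dvd_prime_pow hpp).1 h3
      rw [hN₁c, ← hN₂, hke] at h1
      rw [hke]
      have := (Nat.pow_lt_pow_iff_right hpp.one_lt).1 h1
      exact Nat.pow_le_pow_right hpp.pos (by omega)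
  have h3 : z3 S ≤ N₂ := by
    intro z hz
    exact mem_normalizerIn_of_comm hN₁S (z3_le hz) fun x hx => h2 ((mem_up.1 hz).2 x (hN₁S hx))
  have n3 : z3 S ≠ N₂ := fun h1 => hnN₁ (nrm_of_between_z3 h2 (by rw [h1]; exact hN₁N₂))
  have hMC := H.mc_of hZS hN₁S hN₂S hN₁c hN₂c h2 n2 h3 n3
  -- `N₁` is fully normalized, centric, not essential
  have hN₁cen : F.IsCentric N₁ := isCentric_of_le hE.1 hEN hN₁S
  have hN₂cen : F.IsCentric N₂ := isCentric_of_le hN₁cen hN₁N₂ hN₂S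
  have hN₁ess : ¬ F.IsEssential p N₁ := fun h1 => H.three_nonab h1 hN₁c hN₁na
  have hN₁n : F.IsFullyNormalized N₁ := by
    refine ⟨hN₁S, fun Q' hQ' => ?_⟩
    rw [← hN₂, hN₂c]
    by_contra hlt
    push Not at hlt
    have hQ'S := isConj_le_right hQ'
    have hfQ' : Finite Q' := finite_of_le hQ'S
    have hQ'c : Nat.card Q' = p ^ 3 := by rw [← isConj_card_eq hQ', hN₁c]
    have hfull : normalizerIn S Q' = S := by
      by_contra hne
      have h4 := card_lt_of_ne (Y := normalizerIn S Q') H.card inf_le_left hne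
      exact absurd (lt_of_lt_of_le hlt h4) (lt_irrefl _)
    have hQ'n : Nrm S Q' := by
      have := nrm_normalizerIn S Q'
      rwa [hfull] at this
    obtain ⟨φ, hφ, hr⟩ := hQ'
    have hinj := F.injective_of_mem hφ
    have hres := restrict_mem hφ hEN
    set E' := (φ.comp (Subgroup.inclusion hEN)).range with hE'
    have hconj : F.IsConj E E' := isConj_range hres
    have hE'S : E' ≤ S := isConj_le_right hconj
    have h5 := hE.2.1.2 E' hconj
    rw [← hN₁, hN₁c] at h5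
    have hQ'na : ¬ ∀ x ∈ Q', ∀ y ∈ Q', x * y = y * x := by
      intro hcomm
      apply hN₁na
      intro x hx y hy
      have h6 := hcomm (φ ⟨x, hx⟩) (by rw [← hr]; exact ⟨_, rfl⟩) (φ ⟨y, hy⟩)
        (by rw [← hr]; exact ⟨_, rfl⟩)
      rw [← map_mul, ← map_mul] at h6
      exact congrArg Subtype.val (hinj h6)
    have hZQ'c := card_ZS_cube (H.hS.to_le hQ'S) hQ'c hQ'na
    have hE'Q' : E' ≤ Q' := by
      rintro _ ⟨x, rfl⟩
      rw [← hr]
      exact ⟨_, rfl⟩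
    have hZQ' : ZS Q' ≤ E' := by
      intro z hz
      have hzQ := ZS_le hz
      rw [← hr] at hzQ
      obtain ⟨n, rfl⟩ := hzQ
      have h6 : ∀ x : N₁, x * n = n * x := by
        intro x
        apply hinj
        rw [map_mul, map_mul]
        exact (mem_ZS.1 hz).2 _ (by rw [← hr]; exact ⟨_, rfl⟩)
      have h7 : (n : Ω) ∈ ZS S := hcen n (hN₁S n.2)
        (fun x hx => congrArg Subtype.val (h6 ⟨x, hEN hx⟩)) (congrArg Subtype.val (h6 ⟨g, hg⟩))
      exact ⟨⟨n, hZE h7⟩, rfl⟩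
    have h8 := card_le_aK H.hS hQ'n ((charIn_ZS Q').nrm_of ZS_le hQ'n) (nrm_ZS Q') ZS_le
      (by rw [hQ'c, hZQ'c]; ring)
    have h9 : aK S Q' (ZS Q') ((charIn_ZS Q').nrm_of ZS_le hQ'n) ≤ normalizerIn S E' := by
      intro x hx
      exact mem_normalizerIn_of_comm hE'S hx.1 fun y hy => hZQ' (hx.2 y (hE'Q' hy))
    have hfNE' : Finite (normalizerIn S E') := finite_of_le inf_le_left
    have h10 := Nat.card_mono (Set.toFinite _) h9
    have h11 := h8.trans (Nat.mul_le_mul le_rfl (h10.trans h5))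
    rw [H.card, ← pow_succ'] at h11
    exact absurd ((Nat.pow_le_pow_iff_right hpp.one_lt).1 h11) (by norm_num)
  -- `N₂` is not essential
  have hZN₂ : Nat.card (ZS N₂) = p := by
    have hfZ : Finite (ZS N₂) := finite_of_le ZS_le
    rw [← hZS]
    refine le_antisymm (Nat.card_mono (Set.toFinite _) fun z hz => ?_)
      (Nat.card_mono (Set.toFinite _) (Hyp.ZS_le_of_centric hN₂cen))
    replace hz := mem_ZS.1 hz
    exact hcen z (hN₂S hz.1) (fun x hx => hz.2 x (hN₁N₂ (hEN hx))) (hz.2 g (hN₁N₂ hg))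
  have hN₂ess := not_essential_of_center H.hS H.hF hN₂S hN₂c hZN₂
  have hN₂card : Nat.card (normalizerIn S N₁) = p * Nat.card N₁ := by
    rw [← hN₂, hN₂c, hN₁c]; ring
  have hext : ExtTop F E := by
    intro γ hγ hn
    obtain ⟨α₁, hα₁, e₁⟩ := exists_aut_normalizerIn
      (isReceptive_of_isFullyNormalized H.hS H.hF hE.2.1) hγ hn
    obtain ⟨α₂, hα₂, e₂⟩ := ext_step H.hS H.hF hN₁n hN₁cen hN₁ess hN₂card hα₁
    obtain ⟨β, hβ, e₃⟩ := H.ext_top_of_index hN₂cen hN₂c hN₂ess hα₂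
    refine ⟨β, hβ, fun x hx hx' => ?_⟩
    rw [e₃ x (hN₁N₂ (hEN hx)) hx', e₂ x (hEN hx) (hN₁N₂ (hEN hx)), e₁ x hx (hEN hx)]
  refine ⟨hMC, h, hext, fun l l' hl => ?_⟩
  obtain ⟨t, ht, htn, htL', htL, -⟩ := htor l l' hl
  obtain ⟨τ, hτ, hτe⟩ := hext t (h.tri_le ht) htn
  refine ⟨τ, hτ, fun a ha => ?_, fun e he => ?_⟩
  · obtain ⟨x₀, hx₀, hx₀G⟩ : ∃ x ∈ E, x ∉ gam S := by
      by_contra hcon
      push Not at hcon
      -- then `E` centralizes `z2`, so `z2 ≤ E`, and `z2 = E` is normal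
      have h4 : z2 S ≤ E := by
        intro z hz
        exact h.cent (mem_centralizerIn.2 ⟨z2_le hz, fun x hx => hMC.z2_cen hz (hcon x hx)⟩)
      have h5 : z2 S = E := Subgroup.eq_of_le_of_card_ge h4 (by rw [hc, hMC.c2])
      exact hnE (h5 ▸ nrm_z2)
    refine wt_eq_of_mem le_rfl gam_le nrm_gam hMC.card_S ha (hES hx₀) hx₀G ?_
    rw [hτe x₀ hx₀ (hES hx₀)]
    refine hMC.z2_le_gam (ZS_le_z2 ?_)
    rw [hLZ]
    exact htL' ⟨x₀, hx₀⟩
  · obtain ⟨z, hz, hz1⟩ : ∃ z ∈ ZS S, z ≠ 1 := by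
      by_contra hcon
      push Not at hcon
      have : ZS S = ⊥ := by
        rw [eq_bot_iff]
        exact fun z hz => Subgroup.mem_bot.2 (hcon z hz)
      rw [this, Subgroup.card_bot] at hZS
      exact hpp.one_lt.ne hZS
    refine wt_eq_of_mem ZS_le bot_le (nrm_bot _) (by rw [hZS, Subgroup.card_bot, mul_one]) he hz
      (by rwa [Subgroup.mem_bot]) ?_
    rw [hτe z (hZE hz) (ZS_le hz)]
    exact htL ⟨z, hZE hz⟩ (by rw [← hLZ]; exact hz)

/-- Essential subgroups of order `p²` occur only for `p = 3, 7`. -/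
theorem Hyp.pearl_prime (H : Hyp p F) {E : Subgroup Ω} (hE : F.IsEssential p E)
    (hc : Nat.card E = p ^ 2) (hp7 : p ≠ 7) : p = 3 := by
  have hpp := hp.out
  obtain ⟨hMC, h, hext, htor⟩ := H.pearl hE hc
  have hodd : Odd p := hpp.odd_of_ne_two H.p2
  obtain ⟨m, hm⟩ := hodd
  obtain ⟨τ, hτ, h1, h2⟩ := htor 2 ((m : ℤ) + 1) (by
    have : (2 : ℤ) * ((m : ℤ) + 1) - 1 = (p : ℤ) := by
      have : (p : ℤ) = 2 * m + 1 := by exact_mod_cast hm
      rw [this]; ring
    rw [this])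
  obtain ⟨a, b, e, ha, -, he, -, hea, -⟩ := hMC.weights τ
  have h3 := h1 a ha
  have h4 := h2 e he
  have h5 : (p : ℤ) ∣ 2 * a - 1 := by
    have e1 : (2 : ℤ) * a - 1 = 2 * (a - ((m : ℤ) + 1)) + (2 * ((m : ℤ) + 1) - 1) := by ring
    have e2 : (2 : ℤ) * ((m : ℤ) + 1) - 1 = (p : ℤ) := by
      have : (p : ℤ) = 2 * m + 1 := by exact_mod_cast hm
      rw [this]; ring
    rw [e1, e2]
    exact dvd_add (Dvd.dvd.mul_left h3 _) dvd_rfl
  have h6 : (p : ℤ) ∣ 63 := by
    have e1 : (63 : ℤ) = 32 * (e - a ^ 5) - 32 * (e - 2) + 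
        (16 * a ^ 4 + 8 * a ^ 3 + 4 * a ^ 2 + 2 * a + 1) * (2 * a - 1) := by ring
    rw [e1]
    exact dvd_add (dvd_sub (Dvd.dvd.mul_left hea _) (Dvd.dvd.mul_left h4 _))
      (Dvd.dvd.mul_left h5 _)
  have h7 : p ∣ 63 := by exact_mod_cast h6
  have h8 : p ∣ 3 ^ 2 * 7 := by simpa using h7
  rcases (Nat.Prime.dvd_mul hpp).1 h8 with h9 | h9
  · have := hpp.dvd_of_dvd_pow h9
    exact (Nat.prime_dvd_prime_iff_eq hpp Nat.prime_three).1 this
  · exact absurd ((Nat.prime_dvd_prime_iff_eq hpp (by norm_num)).1 h9) hp7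

end Cfsg.Agent.H785
end

-- part: H785/FifthG
section
/-!
# Strongly embedded subgroups and groups of order `p³` (helper785)

A group of automorphisms of an abelian group of order `p³` with Sylow `p`-subgroups of order `p²` has no strongly
`p`-embedded subgroup.
-/

set_option autoImplicit false
set_option linter.unusedSectionVars false
set_option linter.unusedVariables false
set_option linter.style.haveILetI false

namespace Cfsg.Agent.H785

open Cfsg Cfsg.FusionSystem Cfsg.Agent.H802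
open scoped commutatorElement

variable {p : ℕ} [hp : Fact p.Prime]

/-- Fixed points of a `p`-group acting on a group of order divisible by `p`. -/
theorem exists_fixed_group {P U : Type*} [Group P] [Finite P] [Group U] [Finite U]
    (hP : IsPGroup p P) (f : P →* MulAut U) (hU : p ∣ Nat.card U) :
    ∃ h : U, orderOf h = p ∧ ∀ g, f g h = h := by
  letI : MulAction P U := MulAction.compHom U f
  let Fx : Subgroup U :=
    { carrier := {x | ∀ g, f g x = x}
      one_mem' := fun g => map_one _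
      mul_mem' := fun {x y} hx hy g => by rw [map_mul, hx g, hy g]
      inv_mem' := fun {x} hx g => by rw [map_inv, hx g] }
  have h1 := hP.card_modEq_card_fixedPoints U
  have h2 : p ∣ Nat.card Fx := by
    have h3 : Nat.card Fx = Nat.card (MulAction.fixedPoints P U) := rfl
    rw [h3]
    have h4 : Nat.card (MulAction.fixedPoints P U) ≡ 0 [MOD p] := by
      refine h1.symm.trans ?_
      exact Nat.modEq_zero_iff_dvd.2 hU
    exact Nat.modEq_zero_iff_dvd.1 h4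
  obtain ⟨h, hh⟩ := exists_prime_orderOf_dvd_card' p h2
  exact ⟨h, by rw [← hh]; exact Subgroup.orderOf_coe h, h.2⟩

section Chain

variable {M : Type*} [CommGroup M]

/-- The stabilizer of the chain `M ≥ E ≥ D ≥ 1`. -/
def chainP (D E : Subgroup M) (hDE : D ≤ E) : Subgroup (MulAut M) where
  carrier := {k | (∀ x ∈ D, k x = x) ∧ (∀ x ∈ E, x⁻¹ * k x ∈ D) ∧ ∀ x, x⁻¹ * k x ∈ E}
  one_mem' := ⟨fun x _ => rfl, fun x _ => by simp, fun x => by simp⟩
  mul_mem' := by
    rintro k l ⟨hk1, hk2, hk3⟩ ⟨hl1, hl2, hl3⟩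
    refine ⟨fun x hx => ?_, fun x hx => ?_, fun x => ?_⟩
    · rw [MulAut.mul_apply, hl1 x hx, hk1 x hx]
    · have e : x⁻¹ * (k * l) x = (x⁻¹ * l x) * ((l x)⁻¹ * k (l x)) := by
        rw [MulAut.mul_apply]; group
      rw [e]
      have h1 : l x ∈ E := by
        have h2 := E.mul_mem hx (hDE (hl2 x hx))
        rwa [mul_inv_cancel_left] at h2
      exact D.mul_mem (hl2 x hx) (hk2 _ h1)
    · have e : x⁻¹ * (k * l) x = (x⁻¹ * l x) * ((l x)⁻¹ * k (l x)) := by
        rw [MulAut.mul_apply]; group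
      rw [e]
      exact E.mul_mem (hl3 x) (hk3 _)
  inv_mem' := by
    rintro k ⟨hk1, hk2, hk3⟩
    have hE : ∀ x ∈ E, k⁻¹ x ∈ E := by
      intro x hx
      have h1 := E.inv_mem (hk3 (k⁻¹ x))
      rw [MulAut.apply_inv_self, mul_inv_rev, inv_inv] at h1
      have h2 := E.mul_mem hx h1
      rwa [mul_inv_cancel_left] at h2
    refine ⟨fun x hx => ?_, fun x hx => ?_, fun x => ?_⟩
    · have h1 := congrArg (fun z => k⁻¹ z) (hk1 x hx)
      simp only [MulAut.inv_apply_self] at h1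
      exact h1.symm
    · have h1 := D.inv_mem (hk2 _ (hE x hx))
      rwa [MulAut.apply_inv_self, mul_inv_rev, inv_inv] at h1
    · have h1 := E.inv_mem (hk3 (k⁻¹ x))
      rwa [MulAut.apply_inv_self, mul_inv_rev, inv_inv] at h1

theorem isPGroup_chainP [Finite M] (hM : IsPGroup p M) (D E : Subgroup M) (hDE : D ≤ E) :
    IsPGroup p (chainP D E hDE) := by
  rintro ⟨κ, hκ1, hκ2, hκ3⟩
  let c : ℕ → Subgroup M := fun i => if i = 0 then ⊤ else if i = 1 then E else if i = 2 then D else ⊥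
  have hE : ∀ x ∈ E, κ x ∈ E := by
    intro x hx
    have h2 := E.mul_mem hx (hκ3 x)
    rwa [mul_inv_cancel_left] at h2
  obtain ⟨k, hk⟩ := Cfsg.Agent.H759.exists_pow_eq_one_of_chain hM κ 3 c rfl rfl
    (by
      intro i hi x hx
      interval_cases i
      · exact Subgroup.mem_top _
      · exact hE x hx
      · have hx' : x ∈ D := hx
        rw [hκ1 x hx']
        exact hx'
      · have hx' : x ∈ (⊥ : Subgroup M) := hx
        rw [Subgroup.mem_bot] at hx'
        rw [hx', map_one]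
        exact Subgroup.one_mem _)
    (by
      intro i hi x hx
      interval_cases i
      · exact hκ3 x
      · exact hκ2 x hx
      · have hx' : x ∈ D := hx
        rw [hκ1 x hx', inv_mul_cancel]
        exact Subgroup.one_mem _)
  exact ⟨k, Subtype.ext hk⟩

theorem mem_chainP {D E : Subgroup M} {hDE : D ≤ E} {k : MulAut M} : k ∈ chainP D E hDE ↔
    (∀ x ∈ D, k x = x) ∧ (∀ x ∈ E, x⁻¹ * k x ∈ D) ∧ ∀ x, x⁻¹ * k x ∈ E := Iff.rfl

/-- Two transvections, the centre of the first in the axis of the second, generate a `p`-group. -/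
theorem exists_pgroup_of_com_le [Finite M] (hM : IsPGroup p M) {a b : MulAut M}
    (ha : com a ≤ fix a) (hb : com b ≤ fix b) (h : com a ≤ fix b) :
    ∃ B : Subgroup (MulAut M), IsPGroup p B ∧ a ∈ B ∧ b ∈ B := by
  refine ⟨chainP (com a) (com a ⊔ com b) le_sup_left, isPGroup_chainP hM _ _ _, ?_, ?_⟩
  · refine ⟨fun x hx => mem_fix.1 (ha hx), fun x _ => del_mem_com a x,
      fun x => (le_sup_left : com a ≤ _) (del_mem_com a x)⟩
  · refine ⟨fun x hx => mem_fix.1 (h hx), fun x hx => ?_,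
      fun x => (le_sup_right : com b ≤ _) (del_mem_com b x)⟩
    have h1 : com a ⊔ com b ≤ fix b := sup_le h hb
    rw [mem_fix.1 (h1 hx), inv_mul_cancel]
    exact Subgroup.one_mem _

end Chain

/-- **No strongly embedded subgroup.** -/
theorem no_gl3 {M : Type*} [CommGroup M] [Finite M] (hMc : Nat.card M = p ^ 3)
    {G D T : Subgroup (MulAut M)} (hTD : T ≤ D) (hDG : D ≤ G) (hne : D ≠ G) (hTp : IsPGroup p T)
    (hTc : Nat.card T = p ^ 2)
    (hmax : ∀ B : Subgroup (MulAut M), B ≤ G → IsPGroup p B → Nat.card B ≤ Nat.card T)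
    (SE : ∀ α ∈ G, α ∉ D → ∀ β ∈ T, β ≠ 1 → α * β * α⁻¹ ∉ T) : False := by
  have hpp := hp.out
  have hM : IsPGroup p M := IsPGroup.of_card hMc
  have hTG := hTD.trans hDG
  have SE' : ∀ α ∈ G, ∀ β ∈ T, β ≠ 1 → α * β * α⁻¹ ∈ T → α ∈ D := by
    intro α hα β hβ hβ1 h1
    by_contra h2
    exact SE α hα h2 β hβ hβ1 h1
  -- Claim A
  have claimA : ∀ g ∈ G, g ∉ D → ∀ β₁ ∈ T, β₁ ≠ 1 → ∀ β₂ ∈ T, β₂ ≠ 1 →
      ∀ B : Subgroup (MulAut M), IsPGroup p B → β₁ ∈ B → g * β₂ * g⁻¹ ∈ B → False := by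
    intro g hg hgD β₁ h1 h1' β₂ h2 h2' B hB hb1 hb2
    obtain ⟨h, hhG, hh⟩ := conj_into hTG hTp hmax (B := B ⊓ G) inf_le_right
      (hB.to_le inf_le_left)
    have h3 : h ∈ D := SE' h hhG β₁ h1 h1' (hh _ ⟨hb1, hTG h1⟩)
    have h4 := hh _ ⟨hb2, G.mul_mem (G.mul_mem hg (hTG h2)) (G.inv_mem hg)⟩
    have e : h * (g * β₂ * g⁻¹) * h⁻¹ = (h * g) * β₂ * (h * g)⁻¹ := by group
    rw [e] at h4
    have h5 : h * g ∈ D := SE' _ (G.mul_mem hhG hg) β₂ h2 h2' h4
    have h6 := D.mul_mem (D.inv_mem h3) h5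
    rw [inv_mul_cancel_left] at h6
    exact hgD h6
  -- the chain `Z₁ ≤ L`
  obtain ⟨z, hz, hzT⟩ := exists_fixed_group hTp T.subtype (by rw [hMc]; exact dvd_pow_self p (by norm_num))
  set Z := Subgroup.zpowers z with hZ
  have hZc : Nat.card Z = p := by rw [hZ, Nat.card_zpowers, hz]
  have hZT : ∀ t ∈ T, ∀ x ∈ Z, t x = x := by
    intro t ht x hx
    obtain ⟨n, rfl⟩ := Subgroup.mem_zpowers_iff.1 hx
    rw [map_zpow]
    have : t z = z := hzT ⟨t, ht⟩
    rw [this]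
  have hZn : Z.Normal := inferInstance
  have hquo : Nat.card (M ⧸ Z) = p ^ 2 := by
    have h1 := Z.card_mul_index
    rw [hZc, hMc, pow_succ'] at h1
    exact Nat.eq_of_mul_eq_mul_left hpp.pos h1
  have hinv : ∀ (g : T), ∀ x ∈ Z, T.subtype g x ∈ Z := fun g x hx => by
    have := hZT g g.2 x hx
    show (g : MulAut M) x ∈ Z
    rw [this]
    exact hx
  obtain ⟨w, hw, hwT⟩ := exists_fixed_group hTp (quotAct T.subtype Z hinv)
    (by rw [hquo]; exact dvd_pow_self p (by norm_num))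
  set L := (Subgroup.zpowers w).comap (QuotientGroup.mk' Z) with hL
  have hLc : Nat.card L = p ^ 2 := by
    rw [hL, card_comap_mk, Nat.card_zpowers, hw, hZc, sq]
  have hZL : Z ≤ L := by
    intro x hx
    have h0 : (QuotientGroup.mk' Z) x = 1 := (QuotientGroup.eq_one_iff _).2 hx
    have h1 : (QuotientGroup.mk' Z) x ∈ Subgroup.zpowers w := by
      rw [h0]
      exact Subgroup.one_mem _
    exact h1
  have hLT : ∀ t ∈ T, ∀ x ∈ L, t x ∈ L := by
    intro t ht x hx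
    have h1 : (QuotientGroup.mk' Z) (t x) = (QuotientGroup.mk' Z) x := by
      have h2 : (QuotientGroup.mk' Z) (t x) =
        quotAct T.subtype Z hinv ⟨t, ht⟩ ((QuotientGroup.mk' Z) x) := rfl
      rw [h2]
      obtain ⟨n, hn⟩ := Subgroup.mem_zpowers_iff.1 (show (QuotientGroup.mk' Z) x ∈ _ from hx)
      rw [← hn, map_zpow, hwT]
    show (QuotientGroup.mk' Z) (t x) ∈ Subgroup.zpowers w
    rw [h1]
    exact hx
  have hLidx : L.index = p := by
    have h1 := L.card_mul_index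
    rw [hLc, hMc, pow_succ] at h1
    exact Nat.eq_of_mul_eq_mul_left (pow_pos hpp.pos 2) h1
  have hTm : ∀ t ∈ T, ∀ x, x⁻¹ * t x ∈ L := by
    intro t ht x
    obtain ⟨k, hk⟩ := hTp ⟨t, ht⟩
    have hk' : t ^ p ^ k = 1 := congrArg Subtype.val hk
    exact Cfsg.Agent.H766.pAut_trivial_section t hk' (L := L) (K := ⊤) (hLT t ht)
      (fun x _ => Subgroup.mem_top _) (Or.inr (by rw [Subgroup.relIndex_top_right, hLidx])) x
      (Subgroup.mem_top x)
  -- an element of `T` centralizing `L`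
  let f : T →* MulAut L :=
    { toFun := fun t =>
        { toFun := fun x => ⟨(t : MulAut M) x, hLT t t.2 x x.2⟩
          invFun := fun x => ⟨((t⁻¹ : T) : MulAut M) x, hLT _ (t⁻¹).2 x x.2⟩
          left_inv := fun x => Subtype.ext (by
            show (t : MulAut M)⁻¹ ((t : MulAut M) x) = x
            rw [MulAut.inv_apply_self])
          right_inv := fun x => Subtype.ext (by
            show (t : MulAut M) ((t : MulAut M)⁻¹ x) = x
            rw [MulAut.apply_inv_self])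
          map_mul' := fun x y => Subtype.ext (by
            show (t : MulAut M) (x * y) = (t : MulAut M) x * (t : MulAut M) y
            rw [map_mul]) }
      map_one' := by
        ext x
        rfl
      map_mul' := fun s t => by
        ext x
        rfl }
  obtain ⟨t, htT, ht1, htL⟩ : ∃ t ∈ T, t ≠ 1 ∧ ∀ x ∈ L, t x = x := by
    have h1 := card_le_mul_ker hTp f hLc
    rw [hTc, sq] at h1
    have h2 : p ≤ Nat.card f.ker := Nat.le_of_mul_le_mul_left h1 hpp.pos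
    have h3 : Nontrivial f.ker := by
      rw [← Finite.one_lt_card_iff_nontrivial]
      exact lt_of_lt_of_le hpp.one_lt h2
    obtain ⟨⟨t, ht⟩, hne⟩ := exists_ne (1 : f.ker)
    refine ⟨t, t.2, fun h => hne (Subtype.ext (Subtype.ext h)), fun x hx => ?_⟩
    have h4 : f t = 1 := MonoidHom.mem_ker.1 ht
    have h5 := congrArg (fun a : MulAut L => ((a ⟨x, hx⟩ : L) : M)) h4
    exact h5
  have hfixt : fix t = L := by
    have h1 : L ≤ fix t := fun x hx => mem_fix.2 (htL x hx)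
    have h2 : (fix t).index ∣ p := by rw [← hLidx]; exact Subgroup.index_dvd_of_le h1
    rcases (Nat.dvd_prime hpp).1 h2 with h3 | h3
    · exfalso
      rw [Subgroup.index_eq_one] at h3
      apply ht1
      ext x
      have : x ∈ fix t := by rw [h3]; exact Subgroup.mem_top x
      exact mem_fix.1 this
    · refine (Subgroup.eq_of_le_of_card_ge h1 ?_).symm
      have h4 := (fix t).card_mul_index
      rw [h3, hMc, pow_succ] at h4
      rw [Nat.eq_of_mul_eq_mul_right hpp.pos h4, hLc]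
  have hcomt : Nat.card (com t) = p := by
    have h1 := card_com_mul_card_fix t
    rw [hfixt, hLc, hMc] at h1
    exact Nat.eq_of_mul_eq_mul_right (pow_pos hpp.pos 2) (by rw [h1]; ring)
  have hctL : com t ≤ L := by
    rintro _ ⟨x, rfl⟩
    exact hTm t htT x
  have hctf : com t ≤ fix t := by rw [hfixt]; exact hctL
  obtain ⟨g, hg, hgD⟩ : ∃ g ∈ G, g ∉ D := by
    by_contra hcon
    push Not at hcon
    exact hne (le_antisymm hDG hcon)
  set t' := g * t * g⁻¹ with ht'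
  have hcomt' : Nat.card (com t') = p := by rw [ht', card_com_conj, hcomt]
  have hct'f : com t' ≤ fix t' := by
    intro x hx
    rw [ht', mem_com_conj] at hx
    rw [ht', mem_fix_conj]
    exact hctf hx
  have hfixt' : Nat.card (fix t') = p ^ 2 := by
    have h1 := card_com_mul_card_fix t'
    rw [hcomt', hMc, pow_succ'] at h1
    exact Nat.eq_of_mul_eq_mul_left hpp.pos h1
  -- opposite
  have hopp : ∀ x ∈ com t', x ∈ L → x = 1 := by
    intro x hx hxL
    by_contra hx1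
    have h1 : com t' ≤ fix t := by
      rw [hfixt]
      exact le_of_card_prime_of_mem hcomt' hx hx1 hxL
    obtain ⟨B, hB, h2, h3⟩ := exists_pgroup_of_com_le hM hct'f hctf h1
    exact claimA g hg hgD t htT ht1 t htT ht1 B hB h3 h2
  obtain ⟨y, hy, hy1⟩ : ∃ y ∈ com t', y ≠ 1 := by
    by_contra hcon
    push Not at hcon
    have : com t' = ⊥ := by
      rw [eq_bot_iff]
      exact fun x hx => Subgroup.mem_bot.2 (hcon x hx)
    rw [this, Subgroup.card_bot] at hcomt'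
    exact hpp.one_lt.ne hcomt'
  -- semiregularity
  have hsemi : ∀ x ∈ T, x y = y → x = 1 := by
    intro x hx hxy
    by_contra hx1
    have hxc : ∀ u ∈ com t', x u = u := by
      intro u hu
      obtain ⟨n, rfl⟩ := exists_zpow_eq hcomt' hy hy1 hu
      rw [map_zpow, hxy]
    set E := com t' ⊔ Z with hE
    have hxE : ∀ u ∈ E, x u = u := by
      intro u hu
      obtain ⟨a, ha, b, hb, rfl⟩ := Subgroup.mem_sup.1 hu
      rw [map_mul, hxc a ha, hZT x hx b hb]
    have hEc : Nat.card E = p ^ 2 := by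
      rw [hE, Two.card_sup, hcomt', hZc, sq]
      rw [eq_bot_iff]
      rintro u ⟨hu1, hu2⟩
      exact Subgroup.mem_bot.2 (hopp u hu1 (hZL hu2))
    have hEidx : E.index = p := by
      have h1 := E.card_mul_index
      rw [hEc, hMc, pow_succ] at h1
      exact Nat.eq_of_mul_eq_mul_left (pow_pos hpp.pos 2) h1
    obtain ⟨k, hk⟩ := hTp ⟨x, hx⟩
    have hk' : x ^ p ^ k = 1 := congrArg Subtype.val hk
    have hxm : ∀ u, u⁻¹ * x u ∈ E := fun u =>
      Cfsg.Agent.H766.pAut_trivial_section x hk' (L := E) (K := ⊤)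
        (fun v hv => by rw [hxE v hv]; exact hv)
        (fun v _ => Subgroup.mem_top _) (Or.inr (by rw [Subgroup.relIndex_top_right, hEidx])) u
        (Subgroup.mem_top u)
    refine claimA g hg hgD x hx hx1 t htT ht1 (chainP (com t') E le_sup_left)
      (isPGroup_chainP hM _ _ _) ?_ ?_
    · exact ⟨hxc, fun u hu => by rw [hxE u hu, inv_mul_cancel]; exact Subgroup.one_mem _, hxm⟩
    · rw [← ht']
      exact ⟨fun u hu => mem_fix.1 (hct'f hu), fun u _ => del_mem_com t' u,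
        fun u => (le_sup_left : com t' ≤ E) (del_mem_com t' u)⟩
  -- transitivity
  have hinj : Function.Injective (fun x : T => (⟨y⁻¹ * (x : MulAut M) y, hTm x x.2 y⟩ : L)) := by
    intro a b hab
    have h1 : y⁻¹ * (a : MulAut M) y = y⁻¹ * (b : MulAut M) y := congrArg Subtype.val hab
    have h2 : (a : MulAut M) y = (b : MulAut M) y := mul_left_cancel h1
    have h3 : ((b⁻¹ * a : T) : MulAut M) y = y := by
      show (b : MulAut M)⁻¹ ((a : MulAut M) y) = y
      rw [h2, MulAut.inv_apply_self]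
    have h4 := hsemi _ (b⁻¹ * a).2 h3
    have h5 : b⁻¹ * a = 1 := Subtype.ext h4
    exact (inv_mul_eq_one.1 h5).symm
  have hsurj : Function.Surjective (fun x : T => (⟨y⁻¹ * (x : MulAut M) y, hTm x x.2 y⟩ : L)) :=
    ((Nat.bijective_iff_injective_and_card _).2 ⟨hinj, by rw [hTc, hLc]⟩).2
  -- a common fixed point
  obtain ⟨v, hvL, hvf, hv1⟩ : ∃ v ∈ L, v ∈ fix t' ∧ v ≠ 1 := by
    by_contra hcon
    push Not at hcon
    have h1 : L ⊓ fix t' = ⊥ := by
      rw [eq_bot_iff]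
      rintro u ⟨hu1, hu2⟩
      exact Subgroup.mem_bot.2 (hcon u hu1 hu2)
    have h2 := Two.card_sup h1
    rw [hLc, hfixt'] at h2
    have h3 := Subgroup.card_le_card_group (L ⊔ fix t')
    rw [h2, hMc, ← pow_add] at h3
    exact absurd ((Nat.pow_le_pow_iff_right hpp.one_lt).1 h3) (by norm_num)
  obtain ⟨⟨x, hxT⟩, hx⟩ := hsurj ⟨v, hvL⟩
  have hx' : y⁻¹ * x y = v := congrArg Subtype.val hx
  have hxy : x y = y * v := by rw [← hx', mul_inv_cancel_left]
  have hx1 : x ≠ 1 := by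
    rintro rfl
    apply hv1
    rw [← hx', MulAut.one_apply, inv_mul_cancel]
  set t'' := x * t' * x⁻¹ with ht''
  have hcomt'' : Nat.card (com t'') = p := by rw [ht'', card_com_conj, hcomt']
  have hct''f : com t'' ≤ fix t'' := by
    intro u hu
    rw [ht'', mem_com_conj] at hu
    rw [ht'', mem_fix_conj]
    exact hct'f hu
  have h1 : com t'' ≤ fix t' := by
    have h2 : x y ∈ com t'' := by
      rw [ht'', mem_com_conj, MulAut.inv_apply_self]
      exact hy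
    have h3 : x y ≠ 1 := fun h => hy1 (x.injective (h.trans (map_one x).symm))
    refine le_of_card_prime_of_mem hcomt'' h2 h3 ?_
    rw [hxy]
    exact (fix t').mul_mem (hct'f hy) hvf
  obtain ⟨B, hB, h2, h3⟩ := exists_pgroup_of_com_le hM hct''f hct'f h1
  obtain ⟨h, hhG, hh⟩ := conj_into hTG hTp hmax (B := B ⊓ G) inf_le_right (hB.to_le inf_le_left)
  have ht'G : t' ∈ G := G.mul_mem (G.mul_mem hg (hTG htT)) (G.inv_mem hg)
  have hxG := hTG hxT
  have h4 := hh t' ⟨h3, ht'G⟩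
  have h5 := hh t'' ⟨h2, G.mul_mem (G.mul_mem hxG ht'G) (G.inv_mem hxG)⟩
  have e4 : h * t' * h⁻¹ = (h * g) * t * (h * g)⁻¹ := by rw [ht']; group
  have e5 : h * t'' * h⁻¹ = (h * x * g) * t * (h * x * g)⁻¹ := by rw [ht'', ht']; group
  rw [e4] at h4
  rw [e5] at h5
  have h6 := SE' _ (G.mul_mem hhG hg) t htT ht1 h4
  have h7 := SE' _ (G.mul_mem (G.mul_mem hhG hxG) hg) t htT ht1 h5
  have h8 : h * x * h⁻¹ ∈ D := by
    have := D.mul_mem h7 (D.inv_mem h6)
    have e : h * x * g * (h * g)⁻¹ = h * x * h⁻¹ := by group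
    rwa [e] at this
  obtain ⟨d, hd, hdd⟩ := conj_into hTD hTp (fun B hB hBp => hmax B (hB.trans hDG) hBp)
    (B := T.map (MulAut.conj h).toMonoidHom ⊓ D) inf_le_right ((hTp.map _).to_le inf_le_left)
  have h9 := hdd (h * x * h⁻¹) ⟨⟨x, hxT, rfl⟩, h8⟩
  have e9 : d * (h * x * h⁻¹) * d⁻¹ = (d * h) * x * (d * h)⁻¹ := by group
  rw [e9] at h9
  have h10 := SE' _ (G.mul_mem (hDG hd) hhG) x hxT hx1 h9
  have h11 : h ∈ D := by
    have := D.mul_mem (D.inv_mem hd) h10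
    rwa [inv_mul_cancel_left] at this
  have h12 := D.mul_mem (D.inv_mem h11) h6
  rw [inv_mul_cancel_left] at h12
  exact hgD h12

end Cfsg.Agent.H785
end
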